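/-
Elementary lemmas for towers of sections: `p`-parts modulo a normal subgroup, commutators of
elements of distinct prime power order, and the Frattini subgroup of a section.
-/
import Mathlib
import Cfsg.Prelude.Def_Solvable
import Cfsg.Agent.Lib.Subnormal.NilpotentResidual
import Cfsg.Agent.Lib.PGroups.Frattini
import Cfsg.Agent.Lib.Cores.PCore
import Cfsg.Agent.Lib.Cores.Fitting
import Cfsg.Agent.Lib.ShultGross.Layers

set_option autoImplicit false
set_option linter.style.haveILetI false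

open scoped commutatorElement

namespace CfsgLib.FittingHeightPrime

variable {Γ : Type*} [Group Γ]

/-- A `p`-part modulo `B`. -/
theorem exists_pPart [Finite Γ] {p : ℕ} (hp : p.Prime) {g : Γ} {B : Subgroup Γ} {a : ℕ}
    (ha : g ^ p ^ a ∈ B) :
    ∃ n : ℕ, (∃ b, (g ^ n) ^ p ^ b = 1) ∧ (g ^ n)⁻¹ * g ∈ B := by
  have ho : orderOf g ≠ 0 := (orderOf_pos g).ne'
  set b := (orderOf g).factorization p with hb
  set u := orderOf g / p ^ b with hu
  have hmul : p ^ b * u = orderOf g := Nat.ordProj_mul_ordCompl_eq_self (orderOf g) p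
  have hcop : (p ^ (a + 1)).Coprime u := ((Nat.coprime_ordCompl hp ho)).pow_left _
  obtain ⟨v, -, hv⟩ := Nat.exists_mul_mod_eq_one_of_coprime hcop.symm
    (Nat.one_lt_pow (by omega) hp.one_lt)
  refine ⟨u * v, ⟨b, ?_⟩, ?_⟩
  · rw [← pow_mul, show u * v * p ^ b = p ^ b * u * v by ring, hmul, pow_mul, pow_orderOf_eq_one,
      one_pow]
  · have h1 : u * v = 1 + p ^ (a + 1) * (u * v / p ^ (a + 1)) := by
      have := Nat.mod_add_div (u * v) (p ^ (a + 1))
      omega
    rw [h1, pow_add, pow_one, mul_inv_rev, mul_assoc, inv_mul_cancel, mul_one]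
    refine B.inv_mem ?_
    rw [pow_succ, mul_assoc, pow_mul]
    exact B.pow_mem ha _

/-- Elements of prime power orders for distinct primes have their commutator in the nilpotent
residual. -/
theorem commutator_mem_nilRes [Finite Γ] {X : Subgroup Γ} {p q : ℕ} [Fact p.Prime] [Fact q.Prime]
    (hne : p ≠ q) {a b : Γ} (ha : a ∈ X) (hb : b ∈ X) (hap : ∃ i, a ^ p ^ i = 1)
    (hbq : ∃ j, b ^ q ^ j = 1) : ⁅a, b⁆ ∈ Subnormal.nilRes X := by
  obtain ⟨k, hk⟩ := Subnormal.exists_lcs_eq X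
  let R : Subgroup X := (⊤ : Subgroup X).lowerCentralSeries k
  haveI : Group.IsNilpotent (X ⧸ R) := by
    refine Subgroup.nilpotent_iff_lowerCentralSeries.mpr ⟨k, ?_⟩
    have h := Subgroup.map_lowerCentralSeries (⊤ : Subgroup X) (QuotientGroup.mk' R) k
    rw [Subgroup.map_top_of_surjective _ (QuotientGroup.mk'_surjective R)] at h
    rw [← h, Subgroup.map_eq_bot_iff, QuotientGroup.ker_mk']
  have hfit : ∀ w : X ⧸ R, w ∈ Cfsg.fittingSubgroup (X ⧸ R) := fun w => by
    rw [Cores.fittingSubgroup_eq_top_iff.2 inferInstance]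
    exact Subgroup.mem_top w
  obtain ⟨i, hi⟩ := hap
  obtain ⟨j, hj⟩ := hbq
  have h1 := ShultGross.mem_pCore_of_mem_fitting (r := p)
    (hfit (((⟨a, ha⟩ : X) : X ⧸ R))) ⟨i, by
      rw [← QuotientGroup.mk_pow, show (⟨a, ha⟩ : X) ^ p ^ i = 1 from Subtype.ext hi]; rfl⟩
  have h2 := ShultGross.mem_pCore_of_mem_fitting (r := q)
    (hfit (((⟨b, hb⟩ : X) : X ⧸ R))) ⟨j, by
      rw [← QuotientGroup.mk_pow, show (⟨b, hb⟩ : X) ^ q ^ j = 1 from Subtype.ext hj]; rfl⟩
  have hc := Cores.commute_pCore_of_ne hne h1 h2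
  have h3 : (⁅(⟨a, ha⟩ : X), ⟨b, hb⟩⁆ : X) ∈ R := by
    rw [← QuotientGroup.eq_one_iff, ← QuotientGroup.mk'_apply, map_commutatorElement,
      commutatorElement_eq_one_iff_mul_comm]
    exact hc.eq
  have h4 := Subgroup.mem_map_of_mem X.subtype h3
  rw [Subgroup.top_subtype_lowerCentralSeries, hk k le_rfl] at h4
  exact h4

/-- A commutator of `p`-section elements fixed by a `q`-element is trivial modulo `B`. -/
theorem mem_of_commutator_mem {B X : Subgroup Γ} [hB : B.Normal] {p q : ℕ} [Fact p.Prime]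
    [Fact q.Prime] (hne : p ≠ q) (hp : ∀ x ∈ X, ∃ a, x ^ p ^ a ∈ B) {x f : Γ}
    (hfq : ∃ a, f ^ q ^ a ∈ B) (hc : ⁅f, x⁆ ∈ X) (hcc : ⁅f, ⁅f, x⁆⁆ ∈ B) :
    ⁅f, x⁆ ∈ B := by
  rw [← QuotientGroup.eq_one_iff, ← QuotientGroup.mk'_apply] at hcc ⊢
  set F : Γ ⧸ B := QuotientGroup.mk' B f with hF
  set Y : Γ ⧸ B := QuotientGroup.mk' B x with hY
  rw [map_commutatorElement] at hcc ⊢
  set c : Γ ⧸ B := ⁅F, Y⁆ with hcdef
  rw [map_commutatorElement, ← hcdef, commutatorElement_eq_one_iff_mul_comm] at hcc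
  have hconj : F * Y * F⁻¹ = c * Y := by rw [hcdef, commutatorElement_def]; group
  have hn : ∀ n : ℕ, F ^ n * Y * (F ^ n)⁻¹ = c ^ n * Y := by
    intro n
    induction n with
    | zero => simp
    | succ n ih =>
      calc F ^ (n + 1) * Y * (F ^ (n + 1))⁻¹ = F * (F ^ n * Y * (F ^ n)⁻¹) * F⁻¹ := by
            rw [pow_succ', mul_inv_rev]; simp only [mul_assoc]
        _ = (F * c ^ n * F⁻¹) * (F * Y * F⁻¹) := by rw [ih]; group
        _ = c ^ (n + 1) * Y := by
            rw [hconj, ((show Commute F c from hcc).pow_right n).eq, mul_inv_cancel_right,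
              pow_succ, mul_assoc]
  obtain ⟨a, ha⟩ := hfq
  obtain ⟨b, hb⟩ := hp _ hc
  have h1 : c ^ q ^ a = 1 := by
    have h := hn (q ^ a)
    rw [show F ^ q ^ a = 1 from by rw [hF, ← map_pow]; exact (QuotientGroup.eq_one_iff _).2 ha,
      one_mul, inv_one, mul_one] at h
    exact mul_eq_right.1 h.symm
  have h2 : c ^ p ^ b = 1 := by
    rw [hcdef, hF, hY, ← map_commutatorElement, ← map_pow]
    exact (QuotientGroup.eq_one_iff _).2 hb
  have hcop : (q ^ a).Coprime (p ^ b) :=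
    (((Nat.coprime_primes (Fact.out : q.Prime) (Fact.out : p.Prime)).2 hne.symm).pow a b)
  exact orderOf_eq_one_iff.1 (Nat.eq_one_of_dvd_coprimes hcop (orderOf_dvd_of_pow_eq_one h1)
    (orderOf_dvd_of_pow_eq_one h2))

/-- The Frattini subgroup of the section `X / B`. -/
def secFrattini (p : ℕ) (X B : Subgroup Γ) : Subgroup Γ :=
  B ⊔ ⁅X, X⁆ ⊔ Subgroup.closure ((fun x => x ^ p) '' (X : Set Γ))

theorem le_secFrattini (p : ℕ) (X B : Subgroup Γ) : B ≤ secFrattini p X B :=
  le_sup_left.trans le_sup_left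

theorem commutator_le_secFrattini (p : ℕ) (X B : Subgroup Γ) :
    ⁅X, X⁆ ≤ secFrattini p X B := le_sup_right.trans le_sup_left

theorem pow_mem_secFrattini (p : ℕ) {X : Subgroup Γ} (B : Subgroup Γ) {x : Γ} (hx : x ∈ X) :
    x ^ p ∈ secFrattini p X B :=
  Subgroup.mem_sup_right (Subgroup.subset_closure ⟨x, hx, rfl⟩)

theorem secFrattini_le {p : ℕ} {X B : Subgroup Γ} (h : B ≤ X) : secFrattini p X B ≤ X :=
  sup_le (sup_le h (Subgroup.commutator_le.2 fun a ha b hb => by
    rw [commutatorElement_def]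
    exact X.mul_mem (X.mul_mem (X.mul_mem ha hb) (X.inv_mem ha)) (X.inv_mem hb)))
    ((Subgroup.closure_le _).2 (by rintro _ ⟨x, hx, rfl⟩; exact X.pow_mem hx p))

instance secFrattini_normal [Finite Γ] (p : ℕ) (X B : Subgroup Γ) [hX : X.Normal] [B.Normal] :
    (secFrattini p X B).Normal := by
  have h : (Subgroup.closure ((fun x => x ^ p) '' (X : Set Γ))).Normal := by
    rw [← Subgroup.normalizer_eq_top_iff, eq_top_iff]
    intro g _
    refine CoprimeAction.mem_normalizer_of_conj_mem fun z hz => ?_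
    induction hz using Subgroup.closure_induction with
    | mem z hz =>
      obtain ⟨x, hx, rfl⟩ := hz
      exact Subgroup.subset_closure ⟨g * x * g⁻¹, hX.conj_mem x hx g, by simp [conj_pow]⟩
    | one => simp
    | mul z w _ _ hz hw =>
      rw [show g * (z * w) * g⁻¹ = g * z * g⁻¹ * (g * w * g⁻¹) by group]
      exact mul_mem hz hw
    | inv z _ hz =>
      rw [show g * z⁻¹ * g⁻¹ = (g * z * g⁻¹)⁻¹ by group]
      exact inv_mem hz
  exact Subgroup.sup_normal _ _

/-- The Frattini subgroup of a `p`-section is not needed for generation. -/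
theorem eq_of_sup_secFrattini [Finite Γ] {p : ℕ} [Fact p.Prime] {X B Y : Subgroup Γ} [B.Normal]
    (hp : ∀ x ∈ X, ∃ a, x ^ p ^ a ∈ B) (hBY : B ≤ Y) (hYX : Y ≤ X)
    (hsup : Y ⊔ secFrattini p X B = X) : Y = X := by
  let Q := X ⧸ B.subgroupOf X
  let π : X →* Q := QuotientGroup.mk' (B.subgroupOf X)
  have hπ : Function.Surjective π := QuotientGroup.mk'_surjective _
  have hQ : IsPGroup p Q := by
    intro w
    obtain ⟨⟨x, hx⟩, rfl⟩ := hπ w
    obtain ⟨a, ha⟩ := hp x hx
    exact ⟨a, by rw [← map_pow]; exact (QuotientGroup.eq_one_iff _).2 (by simpa [Subgroup.mem_subgroupOf] using ha)⟩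
  let T : Subgroup Γ := ((frattini Q).comap π).map X.subtype
  have hT : secFrattini p X B ≤ T := by
    refine sup_le (sup_le (fun b hb => ?_) (Subgroup.commutator_le.2 fun a ha b hb => ?_))
      ((Subgroup.closure_le _).2 ?_)
    · refine ⟨⟨b, hYX (hBY hb)⟩, ?_, rfl⟩
      show π _ ∈ frattini Q
      rw [show π ⟨b, hYX (hBY hb)⟩ = 1 from (QuotientGroup.eq_one_iff _).2
        (by simpa [Subgroup.mem_subgroupOf] using hb)]
      exact one_mem _
    · refine ⟨⁅(⟨a, ha⟩ : X), ⟨b, hb⟩⁆, ?_, rfl⟩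
      show π _ ∈ frattini Q
      rw [map_commutatorElement]
      exact PGroups.commutatorElement_mem_frattini hQ _ _
    · rintro _ ⟨x, hx, rfl⟩
      refine ⟨(⟨x, hx⟩ : X) ^ p, ?_, rfl⟩
      show π _ ∈ frattini Q
      rw [map_pow]
      exact PGroups.pow_mem_frattini hQ _
  have hker : π.ker ≤ Y.subgroupOf X := by
    rw [QuotientGroup.ker_mk']
    exact fun z hz => Subgroup.mem_subgroupOf.2 (hBY (Subgroup.mem_subgroupOf.1 hz))
  have htop : (Y.subgroupOf X).map π ⊔ frattini Q = ⊤ := by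
    refine eq_top_iff.2 fun w _ => ?_
    obtain ⟨⟨x, hx⟩, rfl⟩ := hπ w
    have hx' : x ∈ Y ⊔ T := (sup_le_sup_left hT Y) (hsup.ge hx)
    have hle : Y ⊔ T ≤ (((Y.subgroupOf X).map π ⊔ frattini Q).comap π).map X.subtype := by
      refine sup_le (fun y hy => ⟨⟨y, hYX hy⟩, ?_, rfl⟩)
        (Subgroup.map_mono (Subgroup.comap_mono le_sup_right))
      exact Subgroup.mem_sup_left (Subgroup.mem_map_of_mem π (Subgroup.mem_subgroupOf.2 hy))
    obtain ⟨z, hz, hzx⟩ := hle hx'
    obtain rfl : z = ⟨x, hx⟩ := Subtype.ext hzx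
    exact hz
  have h1 := frattini_nongenerating htop
  refine le_antisymm hYX fun x hx => ?_
  have : (⟨x, hx⟩ : X) ∈ Y.subgroupOf X := by
    have h2 := congrArg (Subgroup.comap π) h1
    rw [Subgroup.comap_top, Subgroup.comap_map_eq, sup_eq_left.2 hker] at h2
    rw [h2]; trivial
  exact Subgroup.mem_subgroupOf.1 this

end CfsgLib.FittingHeightPrime
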