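/-
Coordinates over an algebraically closed field on an elementary abelian section, and the splitting
of a representation along the characters of a normalized abelian group.
-/
import Mathlib
import Cfsg.Agent.Lib.FittingHeightPrime.Basic
import Cfsg.Agent.Lib.HallHigmanExc.Blocks

set_option autoImplicit false
set_option linter.style.haveILetI false
set_option linter.unusedSectionVars false

open Module
open scoped commutatorElement IsMulCommutative

namespace CfsgLib.FittingHeightPrime

universe u v w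

/-- Coordinates on the section `K / N`. -/
structure SecRep {Γ : Type w} [Group Γ] (p : ℕ) [Fact p.Prime] (K N : Subgroup Γ) where
  d : ℕ
  vec : Γ → (Fin d → AlgebraicClosure (ZMod p))
  ρ : Γ →* Module.End (AlgebraicClosure (ZMod p)) (Fin d → AlgebraicClosure (ZMod p))
  map_mul : ∀ x ∈ K, ∀ y ∈ K, vec (x * y) = vec x + vec y
  eq_zero : ∀ x ∈ K, vec x = 0 ↔ x ∈ N
  conj : ∀ g : Γ, ∀ x ∈ K, vec (g * x * g⁻¹) = ρ g (vec x)
  span : Submodule.span (AlgebraicClosure (ZMod p)) (vec '' (K : Set Γ)) = ⊤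
  rho_eq_one : ∀ g : Γ, ρ g = 1 ↔ ∀ x ∈ K, ⁅g, x⁆ ∈ N
  rational : ∀ x i, ∃ a : ZMod p, vec x i = algebraMap (ZMod p) (AlgebraicClosure (ZMod p)) a

theorem exists_secRep {Γ : Type w} [Group Γ] [Finite Γ] {p : ℕ} [hp : Fact p.Prime]
    (K N : Subgroup Γ) [hK : K.Normal] [hN : N.Normal] (hNK : N ≤ K)
    (hab : ⁅K, K⁆ ≤ N) (hpow : ∀ x ∈ K, x ^ p ∈ N) : Nonempty (SecRep p K N) := by
  classical
  let N' := N.subgroupOf K
  have hcomm : ∀ a b : K ⧸ N', a * b = b * a := fun a b => by
    induction a using QuotientGroup.induction_on with | _ a =>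
    induction b using QuotientGroup.induction_on with | _ b =>
    rw [← QuotientGroup.mk_mul, ← QuotientGroup.mk_mul, QuotientGroup.eq, Subgroup.mem_subgroupOf]
    have := hab (Subgroup.commutator_mem_commutator (K.inv_mem b.2) (K.inv_mem a.2))
    simpa [commutatorElement_def, mul_assoc] using this
  letI : CommGroup (K ⧸ N') := { (inferInstance : Group (K ⧸ N')) with mul_comm := hcomm }
  let A := Additive (K ⧸ N')
  have hexpA : ∀ a : A, p • a = 0 := fun a => by
    obtain ⟨x, hx⟩ := QuotientGroup.mk_surjective (Additive.toMul a)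
    show Additive.ofMul ((Additive.toMul a) ^ p) = 0
    rw [← hx, ← QuotientGroup.mk_pow, (QuotientGroup.eq_one_iff _).2
      (Subgroup.mem_subgroupOf.2 (by simpa using hpow x x.2))]
    rfl
  haveI : Module (ZMod p) A := AddCommGroup.zmodModule hexpA
  haveI : Finite A := inferInstanceAs (Finite (K ⧸ N'))
  haveI : Module.Finite (ZMod p) A := Module.Finite.of_finite
  let 𝕂 := AlgebraicClosure (ZMod p)
  let b := Module.finBasis (ZMod p) A
  let d := Module.finrank (ZMod p) A
  let f := algebraMap (ZMod p) 𝕂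
  let cl : Γ → A := fun x => if h : x ∈ K then Additive.ofMul ((⟨x, h⟩ : K) : K ⧸ N') else 0
  let vec : Γ → (Fin d → 𝕂) := fun x i => f (b.repr (cl x) i)
  have hcl : ∀ x (h : x ∈ K), cl x = Additive.ofMul ((⟨x, h⟩ : K) : K ⧸ N') := fun x h => by
    simp [cl, h]
  have hni : ∀ g : Γ, N' ≤ N'.comap (MulAut.conjNormal g : MulAut K).toMonoidHom := fun g x hx => by
    rw [Subgroup.mem_comap, Subgroup.mem_subgroupOf]
    simpa [MulAut.conjNormal_apply] using hN.conj_mem _ (Subgroup.mem_subgroupOf.1 hx) g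
  let act : Γ → AddMonoid.End A := fun g => MonoidHom.toAdditive
    (QuotientGroup.map N' N' (MulAut.conjNormal g : MulAut K).toMonoidHom (hni g))
  have hact : ∀ g x, x ∈ K → act g (cl x) = cl (g * x * g⁻¹) := fun g x hx => by
    rw [hcl x hx, hcl _ (hK.conj_mem x hx g)]
    show Additive.ofMul (((MulAut.conjNormal g : MulAut K) ⟨x, hx⟩ : K) : K ⧸ N') = _
    congr 2
  have hsurj : ∀ a : A, ∃ x ∈ K, cl x = a := fun a => by
    obtain ⟨x, hx⟩ := QuotientGroup.mk_surjective (Additive.toMul a)
    exact ⟨x, x.2, by rw [hcl x x.2]; exact congrArg Additive.ofMul hx⟩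
  let ψ : Γ →* Module.End (ZMod p) A :=
    { toFun := fun g => (act g).toZModLinearMap p
      map_one' := LinearMap.ext fun a => by
        obtain ⟨x, hx, rfl⟩ := hsurj a
        show act 1 (cl x) = cl x
        rw [hact 1 x hx, one_mul, inv_one, mul_one]
      map_mul' := fun g h => LinearMap.ext fun a => by
        obtain ⟨x, hx, rfl⟩ := hsurj a
        show act (g * h) (cl x) = act g (act h (cl x))
        rw [hact _ x hx, hact h x hx, hact g _ (hK.conj_mem x hx h)]
        exact congrArg cl (by group) }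
  let M : Module.End (ZMod p) A →* Module.End 𝕂 (Fin d → 𝕂) :=
    (((Matrix.toLinAlgEquiv' : Matrix (Fin d) (Fin d) 𝕂 ≃ₐ[𝕂] _).toRingEquiv.toRingHom.comp
      f.mapMatrix).comp (LinearMap.toMatrixAlgEquiv b).toRingEquiv.toRingHom).toMonoidHom
  have hM : Function.Injective M := fun a a' h => (LinearMap.toMatrixAlgEquiv b).injective
    (Matrix.map_injective f.injective
      ((Matrix.toLinAlgEquiv' : Matrix (Fin d) (Fin d) 𝕂 ≃ₐ[𝕂] _).injective h))
  have hMv : ∀ (F : Module.End (ZMod p) A) a, (fun i => f (b.repr (F a) i)) =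
      M F (fun i => f (b.repr a i)) := by
    intro F a
    funext i
    show f (b.repr (F a) i) =
      (((LinearMap.toMatrixAlgEquiv b F).map f).mulVec (f ∘ (b.repr a))) i
    rw [← RingHom.map_mulVec]
    congr 1
    exact (congrFun (LinearMap.toMatrix_mulVec_repr b b F a) i).symm
  have hinj : ∀ x, x ∈ K → ∀ y, y ∈ K → (vec x = vec y ↔ cl x = cl y) := fun x _ y _ =>
    ⟨fun h => b.repr.injective (Finsupp.ext fun i => f.injective (congrFun h i)),
      fun h => by simp only [vec, h]⟩
  have hzero : ∀ x ∈ K, cl x = 0 ↔ x ∈ N := fun x hx => by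
    rw [hcl x hx]
    show ((⟨x, hx⟩ : K) : K ⧸ N') = 1 ↔ _
    rw [QuotientGroup.eq_one_iff, Subgroup.mem_subgroupOf]
  refine ⟨{ d := d, vec := vec, ρ := M.comp ψ, map_mul := ?_, eq_zero := ?_, conj := ?_, span := ?_,
            rho_eq_one := ?_, rational := fun x i => ⟨_, rfl⟩ }⟩
  · intro x hx y hy
    funext i
    simp only [vec, Pi.add_apply, hcl x hx, hcl y hy, hcl _ (K.mul_mem hx hy)]
    rw [show (⟨x * y, K.mul_mem hx hy⟩ : K) = ⟨x, hx⟩ * ⟨y, hy⟩ from rfl, QuotientGroup.mk_mul,
      ofMul_mul, map_add, Finsupp.add_apply, map_add]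
  · intro x hx
    rw [← hzero x hx]
    constructor
    · intro h
      exact b.repr.injective (Finsupp.ext fun i => f.injective (by
        rw [map_zero, Finsupp.zero_apply, map_zero]; exact congrFun h i))
    · intro h
      funext i
      simp [vec, h]
  · intro g x hx
    show (fun i => f (b.repr (cl (g * x * g⁻¹)) i)) = M (ψ g) _
    rw [← hact g x hx]
    exact hMv (ψ g) (cl x)
  · rw [eq_top_iff, ← (Pi.basisFun 𝕂 (Fin d)).span_eq, Submodule.span_le]
    rintro _ ⟨i, rfl⟩
    obtain ⟨x, hx, hxb⟩ := hsurj (b i)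
    refine Submodule.subset_span ⟨x, hx, funext fun j => ?_⟩
    show f (b.repr (cl x) j) = _
    rw [hxb, b.repr_self, Pi.basisFun_apply, Finsupp.single_apply, Pi.single_apply]
    simp only [apply_ite f, map_one, map_zero, eq_comm]
  · intro g
    rw [MonoidHom.comp_apply, ← M.map_one, hM.eq_iff]
    have h1 : ∀ x ∈ K, act g (cl x) = cl x ↔ ⁅g, x⁆ ∈ N := fun x hx => by
      have hc : ⁅g, x⁆ ∈ K := by
        rw [commutatorElement_def]; exact K.mul_mem (hK.conj_mem x hx g) (K.inv_mem hx)
      rw [hact g x hx, ← hzero _ hc, show g * x * g⁻¹ = ⁅g, x⁆ * x by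
        rw [commutatorElement_def, inv_mul_cancel_right], hcl _ (K.mul_mem hc hx), hcl x hx,
        hcl _ hc,
        show (⟨⁅g, x⁆ * x, K.mul_mem hc hx⟩ : K) = ⟨⁅g, x⁆, hc⟩ * ⟨x, hx⟩ from rfl,
        QuotientGroup.mk_mul, ofMul_mul, add_eq_right]
    constructor
    · intro h x hx
      exact (h1 x hx).1 (LinearMap.congr_fun h (cl x))
    · intro h
      refine LinearMap.ext fun a => ?_
      obtain ⟨x, hx, rfl⟩ := hsurj a
      exact (h1 x hx).2 (h x hx)

section Rep

variable {G : Type w} [Group G] {K : Type u} [Field K] {V : Type v} [AddCommGroup V] [Module K V]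

/-- The sum over the powers of an element. -/
def orbitSum (ρ : G →* Module.End K V) (σ : G) (r : ℕ) : Module.End K V :=
  ∑ i ∈ Finset.range r, ρ σ ^ i

theorem orbitSum_commute (ρ : G →* Module.End K V) {σ g : G} (r : ℕ) (h : g * σ = σ * g) :
    Commute (ρ g) (orbitSum ρ σ r) :=
  Commute.sum_right _ _ _ fun i _ => ((show Commute g σ from h).map ρ).pow_right i

theorem rho_mul_inv (ρ : G →* Module.End K V) (g : G) : ρ g * ρ g⁻¹ = 1 := by
  rw [← map_mul, mul_inv_cancel, map_one]

theorem rho_inv_mul (ρ : G →* Module.End K V) (g : G) : ρ g⁻¹ * ρ g = 1 := by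
  rw [← map_mul, inv_mul_cancel, map_one]

/-- The restriction of a representation to an invariant subspace. -/
def subRep (ρ : G →* Module.End K V) (U : Submodule K V) (h : ∀ g, ∀ v ∈ U, ρ g v ∈ U) :
    G →* Module.End K U where
  toFun g := (ρ g).restrict (h g)
  map_one' := by ext v; simp
  map_mul' g g' := by ext v; simp

theorem subRep_apply (ρ : G →* Module.End K V) (U : Submodule K V) (h : ∀ g, ∀ v ∈ U, ρ g v ∈ U)
    (g : G) (v : U) : ((subRep ρ U h g v : U) : V) = ρ g v := rfl

variable [Finite G]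

open HallHigmanExc

/-- The group of units attached to a subgroup. -/
def unitImage (ρ : G →* Module.End K V) (P : Subgroup G) : Subgroup (Module.End K V)ˣ :=
  P.map ρ.toHomUnits

theorem mem_normalizer_unitImage (ρ : G →* Module.End K V) {P : Subgroup G} {g : G}
    (h : g ∈ Subgroup.normalizer (P : Set G)) :
    ρ.toHomUnits g ∈ Subgroup.normalizer (unitImage ρ P : Set (Module.End K V)ˣ) := by
  rw [Subgroup.mem_normalizer_iff_map_conj_eq] at h ⊢
  rw [unitImage, Subgroup.map_map]
  conv_rhs => rw [← h, Subgroup.map_map]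
  congr 1
  ext x
  simp [MulAut.conj_apply]

theorem finite_unitImage (ρ : G →* Module.End K V) (P : Subgroup G) :
    Finite (unitImage ρ P) :=
  Finite.of_surjective (fun g : P => (⟨ρ.toHomUnits g, Subgroup.mem_map_of_mem _ g.2⟩ : unitImage ρ P))
    (by rintro ⟨_, g, hg, rfl⟩; exact ⟨⟨g, hg⟩, rfl⟩)

theorem isMulCommutative_unitImage (ρ : G →* Module.End K V) {P : Subgroup G}
    (h : ∀ x ∈ P, ∀ y ∈ P, Commute (ρ x) (ρ y)) : IsMulCommutative (unitImage ρ P) :=
  ⟨⟨by
    rintro ⟨_, x, hx, rfl⟩ ⟨_, y, hy, rfl⟩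
    exact Subtype.ext (Units.ext (h x hx y hy))⟩⟩

variable [IsAlgClosed K]

/-- An element fixing the fixed space of `σ` fixes every vector supported on moved characters. -/
theorem fix_of_moved (ρ : G →* Module.End K V) {r : ℕ} (hr : r.Prime) {σ e : G} (hσ : σ ^ r = 1)
    (he : e * σ = σ * e) (hcop : r.Coprime (orderOf e)) (A : Subgroup (Module.End K V)ˣ)
    (hσA : ρ.toHomUnits σ ∈ Subgroup.normalizer (A : Set (Module.End K V)ˣ))
    (heA : ρ.toHomUnits e ∈ Subgroup.normalizer (A : Set (Module.End K V)ˣ))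
    [Finite A] [IsMulCommutative A] (hA : (Nat.card A : K) ≠ 0)
    (hkill : ρ e * orbitSum ρ σ r = orbitSum ρ σ r)
    (l : A →* Kˣ) (hl : twist A hσA l ≠ l) :
    ρ e * blk A l = blk A l := by
  classical
  by_cases hl0 : blk A l = 0
  · rw [hl0, mul_zero]
  let N := Subgroup.normalizer (A : Set (Module.End K V)ˣ)
  let tw : N → (A →* Kˣ) → (A →* Kˣ) := fun g l => twist A g.2 l
  have htw1 : ∀ l, tw 1 l = l := fun l => by
    ext x
    rw [show tw 1 l x = l x from twist_apply A (g := (1 : (Module.End K V)ˣ)) (one_mem _) l x x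
      (by simp)]
  have htwmul : ∀ g h l, tw (g * h) l = tw g (tw h l) := fun g h l => twist_mul A g.2 h.2 l
  have hmove : ∀ (g : N) (m : A →* Kˣ), ((g : (Module.End K V)ˣ) : Module.End K V) * blk A m =
      blk A (tw g m) * ((g : (Module.End K V)ˣ) : Module.End K V) := fun g m =>
    unit_mul_blk A g.2 m
  let s : N := ⟨ρ.toHomUnits σ, hσA⟩
  let ee : N := ⟨ρ.toHomUnits e, heA⟩
  have hs : s ^ r = 1 := by
    refine Subtype.ext ?_
    rw [SubmonoidClass.coe_pow, OneMemClass.coe_one]
    show ρ.toHomUnits σ ^ r = 1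
    rw [← map_pow, hσ, map_one]
  have hse : Commute ee s := Subtype.ext (by
    show ρ.toHomUnits e * ρ.toHomUnits σ = ρ.toHomUnits σ * ρ.toHomUnits e
    rw [← map_mul, ← map_mul, he])
  have hpow : ∀ (g : N) (m : A →* Kˣ), tw g m = m → ∀ i : ℕ, tw (g ^ i) m = m := fun g m h i => by
    induction i with
    | zero => rw [pow_zero, htw1]
    | succ i ih => rw [pow_succ, htwmul, h, ih]
  -- the translates of `l` are distinct
  have hfree : ∀ i, i < r → ∀ j, j < r → tw (s ^ i) l = tw (s ^ j) l → i = j := by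
    intro i hi j hj hij
    by_contra hne
    obtain ⟨a, ha0, har, hat⟩ : ∃ a, 0 < a ∧ a < r ∧ tw (s ^ a) l = l := by
      rcases Nat.lt_or_gt_of_ne hne with hlt | hlt
      · refine ⟨j - i, by omega, by omega, ?_⟩
        have := congrArg (tw (s ^ i)⁻¹) hij
        rw [← htwmul, inv_mul_cancel, htw1, ← htwmul, ← pow_sub_mul_pow s hlt.le,
          ((Commute.refl s).pow_pow _ _).eq, inv_mul_cancel_left] at this
        exact this.symm
      · refine ⟨i - j, by omega, by omega, ?_⟩
        have := congrArg (tw (s ^ j)⁻¹) hij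
        rw [← htwmul, ← htwmul, inv_mul_cancel, htw1, ← pow_sub_mul_pow s hlt.le,
          ((Commute.refl s).pow_pow _ _).eq, inv_mul_cancel_left] at this
        exact this
    obtain ⟨t, -, ht⟩ := Nat.exists_mul_mod_eq_one_of_coprime
      ((Nat.Prime.coprime_iff_not_dvd hr).2 (Nat.not_dvd_of_pos_of_lt ha0 har)).symm hr.one_lt
    have h1 : s ^ (a * t) = s := by
      rw [pow_eq_pow_mod _ hs, ht, pow_one]
    apply hl
    show tw s l = l
    rw [← h1, pow_mul]
    exact hpow _ _ hat t
  set π := orbitSum ρ σ r with hπ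
  have hblock : ∀ (m : A →* Kˣ) (i : ℕ), blk A m * (ρ σ ^ i * blk A l) =
      if m = tw (s ^ i) l then ρ σ ^ i * blk A l else 0 := by
    intro m i
    have h1 : ρ σ ^ i = (((s ^ i : N) : (Module.End K V)ˣ) : Module.End K V) := by
      rw [SubmonoidClass.coe_pow, Units.val_pow_eq_pow_val]; rfl
    rw [h1, hmove, ← mul_assoc, blk_mul_blk A hA]
    split_ifs with h <;> simp
  have hbl : ∀ i, i < r → blk A (tw (s ^ i) l) * (π * blk A l) = ρ σ ^ i * blk A l := by
    intro i hi
    rw [hπ, orbitSum, Finset.sum_mul, Finset.mul_sum, Finset.sum_eq_single i]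
    · rw [hblock, if_pos rfl]
    · intro j hj hji
      rw [hblock, if_neg fun h => hji (hfree i hi j (Finset.mem_range.1 hj) h).symm]
    · exact fun h => absurd (Finset.mem_range.2 hi) h
  have hne : ∀ i, ρ σ ^ i * blk A l ≠ 0 := fun i h => hl0 (by
    have h2 := congrArg (ρ ((σ ^ i)⁻¹) * ·) h
    simp only [mul_zero, ← mul_assoc, ← map_pow, ← map_mul, inv_mul_cancel, map_one, one_mul] at h2
    exact h2)
  have hkey : blk A (tw ee l) * (π * blk A l) = ρ e * blk A l := by
    conv_lhs => rw [← hkill, mul_assoc, ← mul_assoc,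
      show blk A (tw ee l) * ρ e = ρ e * blk A l from (hmove ee l).symm, mul_assoc]
    congr 1
    have h0 := hbl 0 hr.pos
    rwa [pow_zero, htw1, pow_zero, one_mul] at h0
  -- `tw ee l` lies in the orbit
  obtain ⟨i, hi, hel⟩ : ∃ i, i < r ∧ tw ee l = tw (s ^ i) l := by
    by_contra! hall
    have h0 : blk A (tw ee l) * (π * blk A l) = 0 := by
      rw [hπ, orbitSum, Finset.sum_mul, Finset.mul_sum]
      exact Finset.sum_eq_zero fun j hj => by
        rw [hblock, if_neg (hall j (Finset.mem_range.1 hj))]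
    rw [hkey] at h0
    have h2 := congrArg (ρ e⁻¹ * ·) h0
    simp only [mul_zero, ← mul_assoc, rho_inv_mul, one_mul] at h2
    exact hl0 h2
  have hiter : ∀ n : ℕ, tw (ee ^ n) l = tw (s ^ (i * n)) l := by
    intro n
    induction n with
    | zero => simp
    | succ n ih =>
      rw [pow_succ', htwmul, ih, ← htwmul, (hse.pow_right (i * n)).eq, htwmul, hel, ← htwmul,
        ← pow_add]
  have hfix : tw (ee ^ r) l = l := by
    rw [hiter, mul_comm, pow_mul, hs, one_pow, htw1]
  have hele : tw ee l = l := by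
    have hee : r.Coprime (orderOf ee) := by
      refine hcop.coprime_dvd_right (orderOf_dvd_of_pow_eq_one (Subtype.ext ?_))
      rw [SubmonoidClass.coe_pow, OneMemClass.coe_one]
      show ρ.toHomUnits e ^ orderOf e = 1
      rw [← map_pow, pow_orderOf_eq_one, map_one]
    obtain ⟨t, ht⟩ := exists_pow_eq_self_of_coprime hee
    rw [← ht]
    exact hpow _ _ hfix t
  rw [hele] at hkey
  have h0 := hbl 0 hr.pos
  rw [pow_zero, htw1, pow_zero, one_mul] at h0
  exact hkey.symm.trans h0

end Rep

end CfsgLib.FittingHeightPrime
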