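/-
The prime parts of the factors of the nilpotent residual series, and elementary facts about the
action on one section.
-/
import Mathlib
import Cfsg.Agent.Lib.FittingHeightPrime.Basic
import Cfsg.Agent.Lib.CoprimeAction.Abelian
import Cfsg.Agent.Lib.CoprimeAction.Sylow

set_option autoImplicit false
set_option linter.style.haveILetI false

open scoped commutatorElement

namespace CfsgLib.FittingHeightPrime

open Cfsg

variable {Γ : Type*} [Group Γ]

/-- If every element of `K` has a `p`-power in `N` then a Sylow `p`-subgroup covers `K` mod `N`. -/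
theorem le_sylow_sup [Finite Γ] {p : ℕ} [hp : Fact p.Prime] {K N : Subgroup Γ} [N.Normal]
    (P : Sylow p K) (h : ∀ x ∈ K, ∃ a, x ^ p ^ a ∈ N) :
    K ≤ (P : Subgroup K).map K.subtype ⊔ N := by
  haveI : (N.subgroupOf K).Normal := inferInstance
  let π := QuotientGroup.mk' (N.subgroupOf K)
  have hπ : Function.Surjective π := QuotientGroup.mk'_surjective _
  have hQ : IsPGroup p (K ⧸ N.subgroupOf K) := by
    intro w
    obtain ⟨⟨x, hx⟩, rfl⟩ := hπ w
    obtain ⟨a, ha⟩ := h x hx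
    refine ⟨a, ?_⟩
    rw [← map_pow]
    exact (QuotientGroup.eq_one_iff _).2 (Subgroup.mem_subgroupOf.2 (by simpa using ha))
  have htop : (P : Subgroup K).map π = ⊤ := by
    let P' := P.mapSurjective hπ
    have h1 : (⊤ : Subgroup (K ⧸ N.subgroupOf K)) = (P' : Subgroup _) :=
      P'.3 (hQ.to_subgroup ⊤) le_top
    exact h1.symm
  intro x hx
  obtain ⟨y, hy, hyx⟩ := htop.ge (Subgroup.mem_top (π ⟨x, hx⟩))
  have hn : y⁻¹ * ⟨x, hx⟩ ∈ N.subgroupOf K := QuotientGroup.eq.1 hyx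
  have : x = (y : Γ) * ((y : Γ)⁻¹ * x) := by group
  rw [this]
  exact Subgroup.mul_mem_sup (Subgroup.mem_map_of_mem K.subtype hy)
    (by simpa using Subgroup.mem_subgroupOf.1 hn)

/-- An element which is both a `p`- and a `q`-element mod `N` lies in `N`. -/
theorem mem_of_pow_mem {p q : ℕ} (hp : p.Prime) (hq : q.Prime) (hne : p ≠ q) {N : Subgroup Γ}
    {f : Γ} {a b : ℕ} (ha : f ^ p ^ a ∈ N) (hb : f ^ q ^ b ∈ N) : f ∈ N := by
  have hc : IsCoprime ((p ^ a : ℕ) : ℤ) ((q ^ b : ℕ) : ℤ) :=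
    Nat.isCoprime_iff_coprime.2 (((Nat.coprime_primes hp hq).2 hne).pow a b)
  obtain ⟨u, v, huv⟩ := hc
  have : f = (f ^ p ^ a) ^ u * (f ^ q ^ b) ^ v := by
    rw [← zpow_natCast f (p ^ a), ← zpow_natCast f (q ^ b), ← zpow_mul, ← zpow_mul, ← zpow_add,
      mul_comm _ u, mul_comm _ v, huv, zpow_one]
  rw [this]
  exact N.mul_mem (N.zpow_mem ha u) (N.zpow_mem hb v)

/-- The elements which act trivially on `X / B`. -/
def secCentralizer (X B : Subgroup Γ) [B.Normal] : Subgroup Γ :=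
  (Subgroup.centralizer ((X.map (QuotientGroup.mk' B) : Subgroup (Γ ⧸ B)) : Set (Γ ⧸ B))).comap
    (QuotientGroup.mk' B)

theorem mem_secCentralizer {X B : Subgroup Γ} [B.Normal] {f : Γ} :
    f ∈ secCentralizer X B ↔ ∀ x ∈ X, ⁅f, x⁆ ∈ B := by
  rw [secCentralizer, Subgroup.mem_comap, Subgroup.mem_centralizer_iff]
  constructor
  · intro h x hx
    rw [← QuotientGroup.eq_one_iff, ← QuotientGroup.mk'_apply, map_commutatorElement,
      commutatorElement_eq_one_iff_mul_comm]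
    exact (h _ (Subgroup.mem_map_of_mem _ hx)).symm
  · rintro h _ ⟨x, hx, rfl⟩
    have h1 := h x hx
    rw [← QuotientGroup.eq_one_iff, ← QuotientGroup.mk'_apply, map_commutatorElement,
      commutatorElement_eq_one_iff_mul_comm] at h1
    exact h1.symm

instance secCentralizer_normal (X B : Subgroup Γ) [X.Normal] [B.Normal] :
    (secCentralizer X B).Normal := by
  haveI : (X.map (QuotientGroup.mk' B)).Normal :=
    Subgroup.Normal.map inferInstance _ (QuotientGroup.mk'_surjective B)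
  unfold secCentralizer
  infer_instance

/-- A `p`-section is not generated by its commutators with a group acting on it as a `p`-group. -/
theorem not_le_commutator_sup [Finite Γ] {p : ℕ} [Fact p.Prime] {X B F : Subgroup Γ} [X.Normal]
    [B.Normal] (hBX : B < X) (hX : ∀ x ∈ X, ∃ a, x ^ p ^ a ∈ B)
    (hF : ∀ f ∈ F, ∃ a, f ^ p ^ a ∈ secCentralizer X B) : ¬ X ≤ ⁅X, F⁆ ⊔ B := by
  intro hle
  obtain ⟨P⟩ := (inferInstance : Nonempty (Sylow p F))
  have hcov := le_sylow_sup P hF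
  set π := QuotientGroup.mk' B
  set A := X.map π with hA
  haveI : A.Normal := Subgroup.Normal.map inferInstance _ (QuotientGroup.mk'_surjective B)
  set S := ((P : Subgroup F).map F.subtype).map π with hS
  have hA' : IsPGroup p A := by
    rintro ⟨_, x, hx, rfl⟩
    obtain ⟨a, ha⟩ := hX x hx
    refine ⟨a, Subtype.ext ?_⟩
    rw [SubmonoidClass.coe_pow, ← map_pow]
    exact (QuotientGroup.eq_one_iff _).2 ha
  have hS' : IsPGroup p S := (P.isPGroup'.map _).map _
  have hnil : Group.IsNilpotent (A ⊔ S : Subgroup (Γ ⧸ B)) :=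
    (IsPGroup.to_sup_of_normal_left' hA' hS'
      (Subgroup.normalizer_eq_top (H := A) ▸ le_top)).isNilpotent
  have hcomm : A ≤ ⁅A, A ⊔ S⁆ := by
    have h1 : A ≤ (⁅X, F⁆ ⊔ B).map π := Subgroup.map_mono hle
    refine h1.trans ?_
    rw [Subgroup.map_sup, Subgroup.map_commutator, show B.map π = ⊥ from by
      rw [Subgroup.map_eq_bot_iff, QuotientGroup.ker_mk'], sup_bot_eq]
    refine Subgroup.commutator_le.2 fun a ha f' hf' => ?_
    obtain ⟨f, hf, rfl⟩ := hf'
    obtain ⟨u, hu, c, hc, rfl⟩ := Subgroup.mem_sup_of_normal_right.1 (hcov hf)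
    rw [map_mul]
    have hcc : ∀ y ∈ A, π c * y = y * π c := fun y hy =>
      (Subgroup.mem_centralizer_iff.1 (Subgroup.mem_comap.1 hc) y hy).symm
    have : ⁅a, π u * π c⁆ = ⁅a, π u⁆ := by
      rw [commutatorElement_def, commutatorElement_def, mul_inv_rev]
      calc a * (π u * π c) * a⁻¹ * ((π c)⁻¹ * (π u)⁻¹)
          = a * π u * (π c * a⁻¹) * (π c)⁻¹ * (π u)⁻¹ := by simp only [mul_assoc]
        _ = _ := by rw [hcc a⁻¹ (inv_mem ha)]; group
    rw [this]
    exact Subgroup.commutator_mem_commutator ha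
      (Subgroup.mem_sup_right (Subgroup.mem_map_of_mem π hu))
  obtain ⟨n, hn⟩ := (Subgroup.isNilpotent_iff_lowerCentralSeries _).mp hnil
  have hAb : A ≤ ⊥ := hn ▸ (Subnormal.le_nilRes (X := A ⊔ S) le_sup_left hcomm).trans
    (Subnormal.nilRes_le_lcs _ n)
  rw [le_bot_iff, hA, Subgroup.map_eq_bot_iff, QuotientGroup.ker_mk'] at hAb
  exact hBX.not_ge hAb

section Series

variable [Finite Γ] (L : Subgroup Γ) [hL : L.Normal]

instance normal_fitRes' (i : ℕ) : (Subnormal.fitRes i L).Normal := Subnormal.normal_fitRes L i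

/-- The `p`-part of the factor `F_i / F_{i+1}` of the residual series. -/
def pPart (p i : ℕ) : Subgroup Γ :=
  Subnormal.fitRes i L ⊓
    (pCore p (Γ ⧸ Subnormal.fitRes (i + 1) L)).comap (QuotientGroup.mk' _)

/-- The `p'`-part of the factor `F_i / F_{i+1}`. -/
def pPrimePart (p i : ℕ) : Subgroup Γ :=
  Subnormal.fitRes i L ⊓
    (pPrimeCore p (Γ ⧸ Subnormal.fitRes (i + 1) L)).comap (QuotientGroup.mk' _)

instance pPart_normal (p i : ℕ) : (pPart L p i).Normal := by unfold pPart; infer_instance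

instance pPrimePart_normal (p i : ℕ) : (pPrimePart L p i).Normal := by
  unfold pPrimePart; infer_instance

variable {L}

theorem isNilpotent_map_fitRes (i : ℕ) :
    Group.IsNilpotent
      ((Subnormal.fitRes i L).map (QuotientGroup.mk' (Subnormal.fitRes (i + 1) L))) := by
  obtain ⟨k, hk⟩ := Subnormal.exists_lcs_eq (Subnormal.fitRes i L)
  refine (Subgroup.isNilpotent_iff_lowerCentralSeries _).mpr ⟨k, ?_⟩
  rw [← Subgroup.map_lowerCentralSeries, hk k le_rfl, Subgroup.map_eq_bot_iff,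
    QuotientGroup.ker_mk']
  exact le_rfl

theorem mem_pPart {p i : ℕ} [Fact p.Prime] {x : Γ} (hx : x ∈ Subnormal.fitRes i L) {a : ℕ}
    (ha : x ^ p ^ a ∈ Subnormal.fitRes (i + 1) L) : x ∈ pPart L p i := by
  refine ⟨hx, ?_⟩
  haveI : ((Subnormal.fitRes i L).map (QuotientGroup.mk' (Subnormal.fitRes (i + 1) L))).Normal :=
    Subgroup.Normal.map inferInstance _ (QuotientGroup.mk'_surjective _)
  refine ShultGross.mem_pCore_of_mem_fitting
    (Cores.le_fittingSubgroup (isNilpotent_map_fitRes i) (Subgroup.mem_map_of_mem _ hx)) ⟨a, ?_⟩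
  rw [← map_pow]
  exact (QuotientGroup.eq_one_iff _).2 ha

theorem pPart_pow {p i : ℕ} [Fact p.Prime] {x : Γ} (hx : x ∈ pPart L p i) :
    ∃ a, x ^ p ^ a ∈ Subnormal.fitRes (i + 1) L := by
  obtain ⟨a, ha⟩ := Cores.isPGroup_pCore p _ ⟨_, hx.2⟩
  refine ⟨a, ?_⟩
  have h := congrArg Subtype.val ha
  rw [SubmonoidClass.coe_pow, OneMemClass.coe_one, ← map_pow] at h
  exact (QuotientGroup.eq_one_iff _).1 h

theorem pPart_le (p i : ℕ) : pPart L p i ≤ Subnormal.fitRes i L := inf_le_left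

theorem le_pPart (p i : ℕ) [Fact p.Prime] : Subnormal.fitRes (i + 1) L ≤ pPart L p i := fun x hx =>
  mem_pPart (Subnormal.fitRes_succ i L ▸ Subnormal.nilRes_le _ |>.trans le_rfl <| hx) (a := 0)
    (by simpa using hx)

theorem commutator_mem_of_parts {p i : ℕ} [Fact p.Prime] {x y : Γ} (hx : x ∈ pPart L p i)
    (hy : y ∈ pPrimePart L p i) : ⁅x, y⁆ ∈ Subnormal.fitRes (i + 1) L := by
  rw [← QuotientGroup.eq_one_iff, ← QuotientGroup.mk'_apply, map_commutatorElement,
    commutatorElement_eq_one_iff_mul_comm]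
  exact (Cores.commute_pCore_pPrimeCore hx.2 hy.2).eq

theorem mem_fitRes_of_parts {p i : ℕ} [Fact p.Prime] {x : Γ} (hx : x ∈ pPart L p i)
    (hy : x ∈ pPrimePart L p i) : x ∈ Subnormal.fitRes (i + 1) L := by
  rw [← QuotientGroup.eq_one_iff, ← QuotientGroup.mk'_apply]
  exact Subgroup.mem_bot.1 (Cores.disjoint_pCore_pPrimeCore.le_bot ⟨hx.2, hy.2⟩)

/-- Every element of `F_i` is, mod the `p'`-part, a power in the `p`-part. -/
theorem exists_pPart_decomp {p i : ℕ} [hp : Fact p.Prime] {x : Γ}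
    (hx : x ∈ Subnormal.fitRes i L) :
    (∃ a, x ^ p ^ a ∈ pPrimePart L p i) ∧
      ∃ n : ℕ, x ^ n ∈ pPart L p i ∧ (x ^ n)⁻¹ * x ∈ pPrimePart L p i := by
  set F1 := Subnormal.fitRes (i + 1) L
  haveI : ((Subnormal.fitRes i L).map (QuotientGroup.mk' F1)).Normal :=
    Subgroup.Normal.map inferInstance _ (QuotientGroup.mk'_surjective _)
  have hfit : QuotientGroup.mk' F1 x ∈ pCore p (Γ ⧸ F1) ⊔ pPrimeCore p (Γ ⧸ F1) := by
    have h := Cores.le_fittingSubgroup (isNilpotent_map_fitRes i) (Subgroup.mem_map_of_mem _ hx)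
    rw [Cores.fittingSubgroup_eq_iSup_pCore] at h
    refine SetLike.le_def.1 (iSup_le fun q => ?_) h
    haveI : Fact (q : ℕ).Prime := ⟨Nat.prime_of_mem_primeFactors q.2⟩
    by_cases hqp : (q : ℕ) = p
    · rw [hqp]; exact le_sup_left
    · refine le_trans (Cores.le_pPrimeCore ?_) le_sup_right
      obtain ⟨n, hn⟩ := IsPGroup.iff_card.1 (Cores.isPGroup_pCore (q : ℕ) (Γ ⧸ F1))
      rw [hn]
      exact ((Nat.coprime_primes (Fact.out) hp.out).2 hqp).pow_left n
  obtain ⟨u, hu, v, hv, huv⟩ := Subgroup.mem_sup_of_normal_right.1 hfit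
  obtain ⟨a, ha⟩ := Cores.isPGroup_pCore p _ ⟨u, hu⟩
  have hua : u ^ p ^ a = 1 := by simpa using congrArg Subtype.val ha
  have hD : x ^ p ^ a ∈ pPrimePart L p i := by
    refine ⟨Subgroup.pow_mem _ hx _, ?_⟩
    show QuotientGroup.mk' F1 (x ^ p ^ a) ∈ pPrimeCore p (Γ ⧸ F1)
    rw [map_pow, ← huv, (Cores.commute_pCore_pPrimeCore hu hv).mul_pow, hua,
      one_mul]
    exact Subgroup.pow_mem _ hv _
  obtain ⟨n, ⟨b, hb⟩, hn⟩ := exists_pPart hp.out hD
  exact ⟨⟨a, hD⟩, n, mem_pPart (Subgroup.pow_mem _ hx n) (a := b) (by rw [hb]; exact one_mem _), hn⟩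

end Series

end CfsgLib.FittingHeightPrime
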