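/-
A minimal normal section moved by a `q`-subgroup.
-/
import Mathlib
import Cfsg.Agent.Lib.FittingHeightPrime.Sections

set_option autoImplicit false
set_option linter.style.haveILetI false

open scoped commutatorElement

namespace CfsgLib.FittingHeightPrime

variable {Γ : Type*} [Group Γ]

/-- One level of a tower: an irreducible `p`-section with small Frattini subgroup. -/
structure IsLevel (p : ℕ) (K B : Subgroup Γ) : Prop where
  prime : p.Prime
  normalK : K.Normal
  normalB : B.Normal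
  lt : secFrattini p K B < K
  pgroup : ∀ x ∈ K, ∃ a, x ^ p ^ a ∈ B
  irred : ∀ X : Subgroup Γ, X.Normal → secFrattini p K B ≤ X → X ≤ K →
    X = secFrattini p K B ∨ X = K
  central : ∀ m ∈ secFrattini p K B, ∀ x ∈ K, ⁅m, x⁆ ∈ B
  elementary : ∀ m ∈ secFrattini p K B, m ^ p ∈ B
  abelian : ⁅K, K⁆ ≤ B → secFrattini p K B = B

theorem IsLevel.lt' {p : ℕ} {K B : Subgroup Γ} (h : IsLevel p K B) : B < K :=
  (le_secFrattini p K B).trans_lt h.lt

/-- Two consecutive levels. -/
structure Link (p : ℕ) (K B : Subgroup Γ) (p' : ℕ) (K' B' : Subgroup Γ) : Prop where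
  ne : p ≠ p'
  succ_le : K' ≤ B
  kernel : ∀ x ∈ K, x ∈ B ↔ ∀ y ∈ K', ⁅x, y⁆ ∈ secFrattini p' K' B'
  centralizes : ∀ x ∈ K, ∀ m ∈ secFrattini p' K' B', ⁅x, m⁆ ∈ B'

theorem Link.mono {p : ℕ} {K K₀ B : Subgroup Γ} {p' : ℕ} {K' B' : Subgroup Γ}
    (h : Link p K B p' K' B') (h0 : K₀ ≤ K) : Link p K₀ B p' K' B' :=
  ⟨h.ne, h.succ_le, fun x hx => h.kernel x (h0 hx), fun x hx => h.centralizes x (h0 hx)⟩

/-- Powers of a product when the commutator is central. -/
theorem mul_pow_of_central {A : Type*} [Group A] {a b z : A} (hab : b * a = a * b * z)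
    (hza : Commute z a) (hzb : Commute z b) (n : ℕ) :
    (a * b) ^ n = a ^ n * b ^ n * z ^ (n.choose 2) := by
  have hswap : ∀ n : ℕ, b ^ n * a = a * b ^ n * z ^ n := by
    intro n
    induction n with
    | zero => simp
    | succ n ih =>
      calc b ^ (n + 1) * a = b * (b ^ n * a) := by rw [pow_succ', mul_assoc]
        _ = b * a * (b ^ n * z ^ n) := by rw [ih]; simp only [mul_assoc]
        _ = a * b * (z * b ^ n) * z ^ n := by rw [hab]; simp only [mul_assoc]
        _ = a * b * (b ^ n * z) * z ^ n := by rw [(hzb.pow_right n).eq]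
        _ = a * b ^ (n + 1) * z ^ (n + 1) := by
          rw [pow_succ' b, pow_succ' z]; simp only [mul_assoc]
  induction n with
  | zero => simp
  | succ n ih =>
    have hc : (n + 1).choose 2 = n + n.choose 2 := by
      rw [Nat.choose_succ_succ', Nat.choose_one_right]
    calc (a * b) ^ (n + 1) = a ^ n * b ^ n * (z ^ n.choose 2 * a) * b := by
          rw [pow_succ, ih]; simp only [mul_assoc]
      _ = a ^ n * (b ^ n * a) * (z ^ n.choose 2 * b) := by
          rw [(hza.pow_left _).eq]; simp only [mul_assoc]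
      _ = a ^ n * a * b ^ n * (z ^ n * (z ^ n.choose 2 * b)) := by
          rw [hswap]; simp only [mul_assoc]
      _ = a ^ n * a * b ^ n * (b * z ^ (n + 1).choose 2) := by
          rw [← mul_assoc (z ^ n), ← pow_add, ← hc, (hzb.pow_left _).eq]
      _ = _ := by rw [pow_succ a, pow_succ b]; simp only [mul_assoc]

/-- For coprime action on an abelian section `W / N = [W / N, P]`, nothing is centralized. -/
theorem le_of_centralized [Finite Γ] {p q : ℕ} [Fact p.Prime] [Fact q.Prime] (hne : p ≠ q)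
    {W N P Y : Subgroup Γ} [W.Normal] [N.Normal] (hW : ∀ x ∈ W, ∃ a, x ^ p ^ a ∈ N)
    (hab : ⁅W, W⁆ ≤ N) (hP : IsPGroup q P) (hgen : W ≤ ⁅W, P⁆ ⊔ N) (hYW : Y ≤ W)
    (hY : ∀ f ∈ P, ∀ y ∈ Y, ⁅f, y⁆ ∈ N) : Y ≤ N := by
  set π := QuotientGroup.mk' N
  set V := W.map π with hV
  set A := P.map π with hA
  haveI : V.Normal := Subgroup.Normal.map inferInstance _ (QuotientGroup.mk'_surjective N)
  haveI : IsMulCommutative V := ⟨⟨by
    rintro ⟨_, a, ha, rfl⟩ ⟨_, b, hb, rfl⟩
    refine Subtype.ext ?_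
    show π a * π b = π b * π a
    rw [← commutatorElement_eq_one_iff_mul_comm, ← map_commutatorElement]
    exact (QuotientGroup.eq_one_iff _).2 (hab (Subgroup.commutator_mem_commutator ha hb))⟩⟩
  have hVp : IsPGroup p V := by
    rintro ⟨_, x, hx, rfl⟩
    obtain ⟨a, ha⟩ := hW x hx
    refine ⟨a, Subtype.ext ?_⟩
    rw [SubmonoidClass.coe_pow, ← map_pow]
    exact (QuotientGroup.eq_one_iff _).2 ha
  have hcop : (Nat.card A).Coprime (Nat.card V) :=
    IsPGroup.coprime_card_of_ne q p hne.symm _ _ (hP.map π) hVp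
  have h0 := CoprimeAction.inf_commutator_eq_bot (A := A) (V := V)
    (Subgroup.normalizer_eq_top (H := V) ▸ le_top) hcop
  have hVA : V ≤ ⁅V, A⁆ := by
    have h := Subgroup.map_mono (f := π) hgen
    rwa [Subgroup.map_sup, Subgroup.map_commutator, show N.map π = ⊥ from by
      rw [Subgroup.map_eq_bot_iff, QuotientGroup.ker_mk'], sup_bot_eq] at h
  intro y hy
  have hyV : π y ∈ V := Subgroup.mem_map_of_mem π (hYW hy)
  have hyC : π y ∈ Subgroup.centralizer (A : Set (Γ ⧸ N)) := by
    refine Subgroup.mem_centralizer_iff.2 ?_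
    rintro _ ⟨f, hf, rfl⟩
    rw [← commutatorElement_eq_one_iff_mul_comm, ← map_commutatorElement]
    exact (QuotientGroup.eq_one_iff _).2 (hY f hf y hy)
  exact (QuotientGroup.eq_one_iff _).1 (Subgroup.mem_bot.1 (h0.le ⟨⟨hyV, hyC⟩, hVA hyV⟩))

/-- What is trivial on `X / Φ` is trivial on `Φ / B` for a class two `X` of exponent `p` on `Φ`. -/
theorem centralizes_frattini [Finite Γ] {p : ℕ} {X B : Subgroup Γ} [X.Normal] [B.Normal]
    (hBX : B ≤ X) (hcl : ∀ m ∈ secFrattini p X B, ∀ x ∈ X, ⁅m, x⁆ ∈ B)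
    (hel : ∀ m ∈ secFrattini p X B, m ^ p ∈ B) {g : Γ}
    (hg : ∀ y ∈ X, ⁅g, y⁆ ∈ secFrattini p X B) : ∀ m ∈ secFrattini p X B, ⁅g, m⁆ ∈ B := by
  set M := secFrattini p X B with hM
  set π := QuotientGroup.mk' B
  have hMX : M ≤ X := secFrattini_le hBX
  have hone : ∀ {m : Γ}, m ∈ B → π m = 1 := fun h => (QuotientGroup.eq_one_iff _).2 h
  have hMc : ∀ m ∈ M, ∀ x ∈ X, Commute (π m) (π x) := fun m hm x hx => by
    show π m * π x = π x * π m
    rw [← commutatorElement_eq_one_iff_mul_comm, ← map_commutatorElement]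
    exact hone (hcl m hm x hx)
  have hact : ∀ y ∈ X, ∃ m ∈ M, π g * π y * (π g)⁻¹ = π m * π y := fun y hy =>
    ⟨⁅g, y⁆, hg y hy, by
      rw [← map_inv, ← map_mul, ← map_mul, ← map_mul, commutatorElement_def, inv_mul_cancel_right]⟩
  have hgoal : M ≤ (Subgroup.centralizer {π g}).comap π := by
    refine sup_le (sup_le (fun b hb => ?_) (Subgroup.commutator_le.2 fun a ha b hb => ?_))
      ((Subgroup.closure_le _).2 ?_)
    · rw [Subgroup.mem_comap, hone hb]; exact one_mem _
    · rw [Subgroup.mem_comap, Subgroup.mem_centralizer_singleton_iff, map_commutatorElement]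
      obtain ⟨m, hm, hma⟩ := hact a ha
      obtain ⟨m', hm', hmb⟩ := hact b hb
      have h1 : π g * ⁅π a, π b⁆ * (π g)⁻¹ = ⁅π a, π b⁆ := by
        calc π g * ⁅π a, π b⁆ * (π g)⁻¹
            = ⁅π g * π a * (π g)⁻¹, π g * π b * (π g)⁻¹⁆ := by
              simp [commutatorElement_def, mul_assoc]
          _ = ⁅π m * π a, π m' * π b⁆ := by rw [hma, hmb]
          _ = π m * (π a * π m' * (π b * (π a)⁻¹ * ((π m)⁻¹ * (π b)⁻¹))) * (π m')⁻¹ := by
              simp [commutatorElement_def, mul_assoc]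
          _ = π m * (π m' * π a * (π b * (π a)⁻¹ * ((π b)⁻¹ * (π m)⁻¹))) * (π m')⁻¹ := by
              rw [← (hMc m' hm' a ha).eq, ((hMc m hm b hb).inv_inv).eq]
          _ = π m * π m' * ⁅π a, π b⁆ * ((π m)⁻¹ * (π m')⁻¹) := by
              simp [commutatorElement_def, mul_assoc]
          _ = π m * π m' * ((π m)⁻¹ * (π m')⁻¹) * ⁅π a, π b⁆ := by
              have hx : ⁅a, b⁆ ∈ X := hMX (commutator_le_secFrattini p X B
                (Subgroup.commutator_mem_commutator ha hb))
              rw [← map_commutatorElement, mul_assoc (π m * π m'),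
                (((hMc m hm _ hx).symm.inv_right).mul_right ((hMc m' hm' _ hx).symm.inv_right)).eq,
                ← mul_assoc]
          _ = ⁅π a, π b⁆ := by
              rw [(hMc m hm m' (hMX hm')).eq]; group
      calc ⁅π a, π b⁆ * π g = π g * ⁅π a, π b⁆ * (π g)⁻¹ * π g := by rw [h1]
        _ = π g * ⁅π a, π b⁆ := inv_mul_cancel_right _ _
    · rintro _ ⟨x, hx, rfl⟩
      rw [SetLike.mem_coe, Subgroup.mem_comap, Subgroup.mem_centralizer_singleton_iff, map_pow]
      obtain ⟨m, hm, hmx⟩ := hact x hx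
      have h1 : π g * π x ^ p * (π g)⁻¹ = π x ^ p := by
        rw [← conj_pow, hmx, (hMc m hm x hx).mul_pow, ← map_pow, hone (hel m hm), one_mul]
      calc π x ^ p * π g = π g * π x ^ p * (π g)⁻¹ * π g := by rw [h1]
        _ = π g * π x ^ p := inv_mul_cancel_right _ _
  intro m hm
  have := hgoal hm
  rw [Subgroup.mem_comap, Subgroup.mem_centralizer_singleton_iff] at this
  rw [← QuotientGroup.eq_one_iff, ← QuotientGroup.mk'_apply, map_commutatorElement,
    commutatorElement_eq_one_iff_mul_comm]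
  exact this.symm

/-- A normal subgroup `X`, minimal among those moved mod `B` by the `q`-group `P` whose normalizer
covers `Γ / X`, gives a level. -/
theorem level_of_minimal [Finite Γ] {p q : ℕ} [hp : Fact p.Prime] [hq : Fact q.Prime] (hne : p ≠ q)
    {X B P : Subgroup Γ} [X.Normal] [B.Normal] (hBX : B ≤ X)
    (hX : ∀ x ∈ X, ∃ a, x ^ p ^ a ∈ B) (hP : IsPGroup q P)
    (hgen : Subgroup.normalizer (P : Set Γ) ⊔ X = ⊤)
    (hmove : ∃ f ∈ P, ∃ x ∈ X, ⁅f, x⁆ ∉ B)
    (hmin : ∀ Y : Subgroup Γ, Y.Normal → B ≤ Y → Y ≤ X → (∃ f ∈ P, ∃ x ∈ Y, ⁅f, x⁆ ∉ B) → Y = X) :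
    IsLevel p X B ∧ (∀ f ∈ P, ∀ m ∈ secFrattini p X B, ⁅f, m⁆ ∈ B) ∧
      (∃ f ∈ P, ∃ x ∈ X, ⁅f, x⁆ ∉ secFrattini p X B) ∧
      (∀ g : Γ, (∀ y ∈ X, ⁅g, y⁆ ∈ secFrattini p X B) →
        ∀ m ∈ secFrattini p X B, ⁅g, m⁆ ∈ B) := by
  set M := secFrattini p X B with hM
  have hBM : B ≤ M := le_secFrattini p X B
  have hMX : M ≤ X := secFrattini_le hBX
  have hfq : ∀ f ∈ P, ∀ N : Subgroup Γ, ∃ a, f ^ q ^ a ∈ N := fun f hf N => by
    obtain ⟨a, ha⟩ := hP ⟨f, hf⟩
    exact ⟨a, by rw [show f ^ q ^ a = 1 from congrArg Subtype.val ha]; exact one_mem _⟩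
  have hsmall : ∀ Y : Subgroup Γ, Y.Normal → B ≤ Y → Y ≤ X → Y ≠ X →
      ∀ f ∈ P, ∀ y ∈ Y, ⁅f, y⁆ ∈ B := fun Y h1 h2 h3 h4 f hf y hy => by
    by_contra h
    exact h4 (hmin Y h1 h2 h3 ⟨f, hf, y, hy, h⟩)
  have hXB : X ≠ B := fun h => by
    obtain ⟨f, -, x, hx, hfx⟩ := hmove
    rw [h] at hx
    refine hfx ?_
    rw [commutatorElement_def]
    exact B.mul_mem (Subgroup.Normal.conj_mem inferInstance x hx f) (B.inv_mem hx)
  have hMne : M ≠ X := fun h => hXB
    (eq_of_sup_secFrattini (p := p) hX le_rfl hBX (by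
      rw [← hM, sup_eq_right.2 hBM]; exact h)).symm
  have hMlt : M < X := lt_of_le_of_ne hMX hMne
  have hMcent := hsmall M inferInstance hBM hMX hMne
  have hYn : (⁅X, P⁆ ⊔ M).Normal := by
    rw [← Subgroup.normalizer_eq_top_iff, eq_top_iff, ← hgen]
    refine sup_le (fun n hn => ?_) (fun x hx => ?_)
    · refine CoprimeAction.mem_normalizer_of_conj_mem fun z hz => ?_
      have hXn : X.map (MulAut.conj n).toMonoidHom = X :=
        Subgroup.mem_normalizer_iff_map_conj_eq.1 (by rw [Subgroup.normalizer_eq_top]; trivial)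
      have hMn : M.map (MulAut.conj n).toMonoidHom = M :=
        Subgroup.mem_normalizer_iff_map_conj_eq.1 (by rw [Subgroup.normalizer_eq_top]; trivial)
      have h := Subgroup.mem_map_of_mem (MulAut.conj n).toMonoidHom hz
      have hPn : P.map (MulAut.conj n).toMonoidHom = P :=
        Subgroup.mem_normalizer_iff_map_conj_eq.1 hn
      rw [Subgroup.map_sup, Subgroup.map_commutator, hXn, hMn, hPn] at h
      simpa using h
    · refine CoprimeAction.mem_normalizer_of_conj_mem fun z hz => ?_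
      have hzX : z ∈ X := sup_le (Subgroup.commutator_le_left X P) hMX hz
      have : x * z * x⁻¹ = ⁅x, z⁆ * z := by rw [commutatorElement_def, inv_mul_cancel_right]
      rw [this]
      exact mul_mem (Subgroup.mem_sup_right (commutator_le_secFrattini p X B
        (Subgroup.commutator_mem_commutator hx hzX))) hz
  have hY : ⁅X, P⁆ ⊔ M = X := by
    by_contra hY
    obtain ⟨f, hf, x, hx, hfx⟩ := hmove
    have hc : ⁅f, x⁆ ∈ ⁅X, P⁆ := by
      rw [← commutatorElement_inv]
      exact inv_mem (Subgroup.commutator_mem_commutator hx hf)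
    refine hfx (mem_of_commutator_mem hne hX (hfq f hf B) (Subgroup.commutator_le_left X P hc) ?_)
    exact hsmall _ hYn (hBM.trans le_sup_right)
      (sup_le (Subgroup.commutator_le_left X P) hMX) hY f hf _ (Subgroup.mem_sup_left hc)
  have hXP : ⁅X, P⁆ ⊔ B = X := eq_of_sup_secFrattini (p := p) hX le_sup_right
    (sup_le (Subgroup.commutator_le_left X P) hBX) (by
      rw [← hM, sup_assoc, sup_eq_right.2 hBM, hY])
  -- class two
  set π := QuotientGroup.mk' B with hπ
  have hone : ∀ {m : Γ}, m ∈ B → π m = 1 := fun h => (QuotientGroup.eq_one_iff _).2 h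
  have hfm : ∀ f ∈ P, ∀ m ∈ M, Commute (π f) (π m) := fun f hf m hm => by
    show π f * π m = π m * π f
    rw [← commutatorElement_eq_one_iff_mul_comm, ← map_commutatorElement]
    exact hone (hMcent f hf m hm)
  have hclass : ∀ m ∈ M, ∀ x ∈ X, ⁅m, x⁆ ∈ B := by
    intro m hm
    have hle : ⁅X, P⁆ ⊔ B ≤ (Subgroup.centralizer {π m}).comap π := by
      refine sup_le (Subgroup.commutator_le.2 fun x hx f hf => ?_) fun b hb => ?_
      · rw [Subgroup.mem_comap, Subgroup.mem_centralizer_singleton_iff, map_commutatorElement]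
        have hm' : x⁻¹ * m * x ∈ M := by
          simpa using Subgroup.Normal.conj_mem (inferInstance : M.Normal) m hm x⁻¹
        have h2 : π f * ((π x)⁻¹ * π m * π x) = (π x)⁻¹ * π m * π x * π f := by
          simpa [map_mul, map_inv] using (hfm f hf _ hm').eq
        have h3 : (π f)⁻¹ * π m = π m * (π f)⁻¹ := (hfm f hf m hm).inv_left.eq
        rw [commutatorElement_def]
        calc π x * π f * (π x)⁻¹ * (π f)⁻¹ * π m
            = π x * π f * (π x)⁻¹ * (π m * (π f)⁻¹) := by rw [← h3]; simp only [mul_assoc]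
          _ = π x * (π f * ((π x)⁻¹ * π m * π x)) * (π x)⁻¹ * (π f)⁻¹ := by group
          _ = π x * ((π x)⁻¹ * π m * π x * π f) * (π x)⁻¹ * (π f)⁻¹ := by rw [h2]
          _ = π m * (π x * π f * (π x)⁻¹ * (π f)⁻¹) := by group
      · rw [Subgroup.mem_comap, hone hb]; exact one_mem _
    intro x hx
    have := hle (hXP.ge hx)
    rw [Subgroup.mem_comap, Subgroup.mem_centralizer_singleton_iff] at this
    rw [← QuotientGroup.eq_one_iff, ← QuotientGroup.mk'_apply, map_commutatorElement,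
      commutatorElement_eq_one_iff_mul_comm]
    exact this.symm
  have hMc : ∀ m ∈ M, ∀ x ∈ X, Commute (π m) (π x) := fun m hm x hx => by
    show π m * π x = π x * π m
    rw [← commutatorElement_eq_one_iff_mul_comm, ← map_commutatorElement]
    exact hone (hclass m hm x hx)
  -- exponent
  have hcp : ∀ a ∈ X, ∀ b ∈ X, ⁅π a, π b⁆ ^ p = 1 := by
    intro a ha b hb
    have hzM : ⁅a, b⁆ ∈ M := commutator_le_secFrattini p X B
      (Subgroup.commutator_mem_commutator ha hb)
    have hswap : π a * π b * (π a)⁻¹ = ⁅π a, π b⁆ * π b := by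
      rw [commutatorElement_def, inv_mul_cancel_right]
    have hz : Commute ⁅π a, π b⁆ (π b) := by
      rw [← map_commutatorElement]; exact hMc _ hzM b hb
    have h1 : π a * π b ^ p * (π a)⁻¹ = π b ^ p := by
      rw [← map_pow, ← (hMc (b ^ p) (pow_mem_secFrattini p B hb) a ha).eq, mul_inv_cancel_right]
    rw [← conj_pow, hswap, hz.mul_pow] at h1
    exact mul_eq_right.1 h1
  have hψ : ∀ a ∈ X, ∀ b ∈ X, π (a * b) ^ (p * p) = π a ^ (p * p) * π b ^ (p * p) := by
    intro a ha b hb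
    have hzM : ∀ {u v}, u ∈ X → v ∈ X → ⁅u, v⁆ ∈ M := fun hu hv =>
      commutator_le_secFrattini p X B (Subgroup.commutator_mem_commutator hu hv)
    set z := ⁅(π b), π a⁆ with hz
    have hzb' : π b * π a = π a * π b * z := by
      have h1 : π b * π a = z * (π a * π b) := by rw [hz, commutatorElement_def]; group
      rw [h1]
      refine (Commute.mul_right ?_ ?_).eq
      · rw [hz, ← map_commutatorElement]; exact hMc _ (hzM hb ha) a ha
      · rw [hz, ← map_commutatorElement]; exact hMc _ (hzM hb ha) b hb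
    have hpp : z ^ ((p * p).choose 2) = 1 := by
      have hd : p ∣ (p * p).choose 2 := by
        rw [← sq]
        exact hp.out.dvd_choose_pow (by norm_num) (by have := hp.out.two_le; nlinarith)
      obtain ⟨c, hc⟩ := hd
      rw [hc, pow_mul, hz, hcp b hb a ha, one_pow]
    rw [map_mul, mul_pow_of_central hzb' (by rw [hz, ← map_commutatorElement]; exact hMc _ (hzM hb ha) a ha)
      (by rw [hz, ← map_commutatorElement]; exact hMc _ (hzM hb ha) b hb), hpp, mul_one]
  have hexp : ∀ x ∈ X, π x ^ (p * p) = 1 := by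
    let T : Subgroup Γ :=
      { carrier := {x | x ∈ X ∧ π x ^ (p * p) = 1}
        mul_mem' := fun {a b} ha hb => ⟨X.mul_mem ha.1 hb.1, by
          rw [hψ a ha.1 b hb.1, ha.2, hb.2, mul_one]⟩
        one_mem' := ⟨X.one_mem, by simp⟩
        inv_mem' := fun {a} ha => ⟨X.inv_mem ha.1, by rw [map_inv, inv_pow, ha.2, inv_one]⟩ }
    have hle : ⁅X, P⁆ ⊔ B ≤ T := by
      refine sup_le (Subgroup.commutator_le.2 fun x hx f hf => ?_)
        fun b hb => ⟨hBX hb, by rw [hone hb, one_pow]⟩
      have hfx : f * x⁻¹ * f⁻¹ ∈ X := Subgroup.Normal.conj_mem inferInstance _ (X.inv_mem hx) f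
      rw [show ⁅x, f⁆ = x * (f * x⁻¹ * f⁻¹) by rw [commutatorElement_def]; group]
      refine ⟨X.mul_mem hx hfx, ?_⟩
      have hpow : (x⁻¹ ^ p) ^ p ∈ M :=
        Subgroup.pow_mem _ (pow_mem_secFrattini p B (X.inv_mem hx)) p
      rw [hψ x hx _ hfx]
      simp only [map_mul, map_inv]
      rw [conj_pow]
      have h2 : Commute (π f) ((π x)⁻¹ ^ (p * p)) := by
        rw [← map_inv, ← map_pow, pow_mul]; exact hfm f hf _ hpow
      rw [h2.eq, mul_inv_cancel_right, inv_pow, mul_inv_cancel]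
    exact fun x hx => (hle (hXP.ge hx)).2
  have hel : ∀ m ∈ M, m ^ p ∈ B := by
    let T : Subgroup Γ :=
      { carrier := {x | x ∈ M ∧ π x ^ p = 1}
        mul_mem' := fun {a b} ha hb => ⟨M.mul_mem ha.1 hb.1, by
          rw [map_mul, (hMc a ha.1 b (hMX hb.1)).mul_pow, ha.2, hb.2, mul_one]⟩
        one_mem' := ⟨M.one_mem, by simp⟩
        inv_mem' := fun {a} ha => ⟨M.inv_mem ha.1, by rw [map_inv, inv_pow, ha.2, inv_one]⟩ }
    have hle : M ≤ T := by
      refine sup_le (sup_le (fun b hb => ⟨hBM hb, by rw [hone hb, one_pow]⟩)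
        (Subgroup.commutator_le.2 fun a ha b hb => ⟨commutator_le_secFrattini p X B
          (Subgroup.commutator_mem_commutator ha hb), by rw [map_commutatorElement, hcp a ha b hb]⟩))
        ((Subgroup.closure_le _).2 ?_)
      rintro _ ⟨x, hx, rfl⟩
      exact ⟨pow_mem_secFrattini p B hx, by rw [map_pow, ← pow_mul, hexp x hx]⟩
    intro m hm
    rw [← QuotientGroup.eq_one_iff, ← QuotientGroup.mk'_apply, map_pow]
    exact (hle hm).2
  refine ⟨⟨hp.out, inferInstance, inferInstance, hMlt, hX, ?_, hclass, hel, ?_⟩, hMcent, ?_,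
    fun g hg => centralizes_frattini hBX hclass hel hg⟩
  · intro Y hYN hMY hYX
    by_cases h : Y = X
    · exact Or.inr h
    refine Or.inl (le_antisymm ?_ hMY)
    refine le_of_centralized hne (W := X) (N := M) (P := P) (fun x hx => ?_)
      (commutator_le_secFrattini p X B) hP ?_ hYX
      (fun f hf y hy => hBM (hsmall Y hYN (hBM.trans hMY) hYX h f hf y hy))
    · obtain ⟨a, ha⟩ := hX x hx
      exact ⟨a, hBM ha⟩
    · exact hY.ge
  · exact fun hab => le_antisymm (le_of_centralized hne (W := X) (N := B) (P := P) hX hab hP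
      hXP.ge hMX hMcent) hBM
  · by_contra h
    push Not at h
    refine hMne (le_antisymm hMX ?_)
    rw [← hY]
    exact sup_le (Subgroup.commutator_le.2 fun x hx f hf => by
      rw [← commutatorElement_inv]; exact inv_mem (h f hf x hx)) le_rfl

end CfsgLib.FittingHeightPrime
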