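/-
Towers of sections in a minimal solvable group of given Fitting height.
-/
import Mathlib
import Cfsg.Agent.Lib.FittingHeightPrime.Minimal

set_option autoImplicit false
set_option linter.style.haveILetI false

open scoped commutatorElement

namespace CfsgLib.FittingHeightPrime

open Subnormal

variable {Γ : Type*} [Group Γ]

/-- Sections at the levels `j ≤ i < h`, each acting faithfully on the next. -/
structure Tower (L : Subgroup Γ) (j h : ℕ) where
  p : ℕ → ℕ
  K : ℕ → Subgroup Γ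
  B : ℕ → Subgroup Γ
  level : ∀ i, j ≤ i → i < h → IsLevel (p i) (K i) (B i)
  le_res : ∀ i, j ≤ i → i < h → K i ≤ fitRes i L
  link : ∀ i, j ≤ i → i + 1 < h → Link (p i) (K i) (B i) (p (i + 1)) (K (i + 1)) (B (i + 1))

namespace Tower

variable {L : Subgroup Γ} {j h : ℕ}

/-- The Frattini subgroup of a level. -/
abbrev M (T : Tower L j h) (i : ℕ) : Subgroup Γ := secFrattini (T.p i) (T.K i) (T.B i)

theorem K_le_of_le (T : Tower L j h) {i l : ℕ} (hji : j ≤ i) (hil : i ≤ l) (hl : l < h) :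
    T.K l ≤ T.K i := by
  induction l, hil using Nat.le_induction with
  | base => exact le_rfl
  | succ l hle ih =>
    exact ((T.link l (hji.trans hle) hl).succ_le.trans
      (T.level l (hji.trans hle) (by omega)).lt'.le).trans (ih (by omega))

end Tower

/-- From an element moved on the next section, one step down the residual series of `Y`. -/
theorem step_mover [Finite Γ] {Y : Subgroup Γ} {a p p' : ℕ} (hp : p.Prime) (hp' : p'.Prime)
    (hne : p ≠ p') {B K' B' M' : Subgroup Γ} [K'.Normal] [M'.Normal]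
    (hBM : ∀ y ∈ K', ∀ b ∈ B, ⁅b, y⁆ ∈ M') (hp'K : ∀ y ∈ K', ∃ i, y ^ p' ^ i ∈ B')
    (hB'M : B' ≤ M') (hM'K : M' ≤ K') (hcov : ∀ x ∈ K', ∃ y ∈ Y ⊓ K', y⁻¹ * x ∈ M')
    {s : Γ} (hsY : s ∈ fitRes a Y) (hs : ∃ i, s ^ p ^ i ∈ B)
    (hsM : ∀ m ∈ M', ⁅s, m⁆ ∈ B')
    (hmove : ∃ x ∈ K', ⁅s, x⁆ ∉ M') :
    ∃ s' : Γ, s' ∈ fitRes (a + 1) Y ∧ s' ∈ K' ∧ s' ∉ M' := by
  haveI := Fact.mk hp
  haveI := Fact.mk hp'
  obtain ⟨x, hx, hsx⟩ := hmove
  obtain ⟨i, hi⟩ := hs
  -- the `p`-part of `s`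
  obtain ⟨n, hn, hns⟩ := exists_pPart hp hi
  set s1 := s ^ n
  set b := s1⁻¹ * s with hb
  have hs1 : s1 ∈ fitRes a Y := Subgroup.pow_mem _ hsY n
  have hs1s : ∀ y ∈ K', ⁅s, y⁆ = s1 * ⁅b, y⁆ * s1⁻¹ * ⁅s1, y⁆ := fun y _ => by
    rw [hb]; simp [commutatorElement_def, mul_assoc]
  have hs1x : ⁅s1, x⁆ ∉ M' := fun h => hsx (by
    rw [hs1s x hx]
    exact M'.mul_mem (Subgroup.Normal.conj_mem inferInstance _ (hBM x hx b hns) s1) h)
  obtain ⟨y, ⟨hyY, hyK⟩, hyx⟩ := hcov x hx
  have hsm : ∀ m ∈ M', ⁅s1, m⁆ ∈ M' := fun m hm => by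
    rw [commutatorElement_def]
    exact M'.mul_mem (Subgroup.Normal.conj_mem inferInstance m hm s1) (M'.inv_mem hm)
  have hs1y : ⁅s1, y⁆ ∉ M' := fun h => hs1x (by
    rw [show x = y * (y⁻¹ * x) by group, show ⁅s1, y * (y⁻¹ * x)⁆ =
      ⁅s1, y⁆ * (y * ⁅s1, y⁻¹ * x⁆ * y⁻¹) by simp [commutatorElement_def, mul_assoc]]
    exact M'.mul_mem h (Subgroup.Normal.conj_mem inferInstance _ (hsm _ hyx) y))
  have hc : ⁅s1, y⁆ ∈ fitRes a Y := by
    rw [commutatorElement_def, mul_assoc, mul_assoc]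
    refine Subgroup.mul_mem _ hs1 ?_
    rw [← mul_assoc]
    exact CoprimeAction.conj_mem (le_normalizer_fitRes (X := Y) Subgroup.le_normalizer a hyY)
      (Subgroup.inv_mem _ hs1)
  have hcK : ⁅s1, y⁆ ∈ K' := by
    rw [commutatorElement_def]
    exact K'.mul_mem (Subgroup.Normal.conj_mem inferInstance y hyK s1) (K'.inv_mem hyK)
  obtain ⟨e, he⟩ := hp'K _ hcK
  obtain ⟨n', hn', hnc⟩ := exists_pPart hp' he
  set c := ⁅s1, y⁆ ^ n' with hcdef
  have hccne : ⁅s1, ⁅s1, y⁆⁆ ∉ M' := fun h => by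
    refine hs1y (mem_of_commutator_mem (p := p') (q := p) hne.symm (fun z hz => ?_) ?_ hcK h)
    · obtain ⟨e, he⟩ := hp'K z hz; exact ⟨e, hB'M he⟩
    · obtain ⟨e, he⟩ := hn; exact ⟨e, by rw [he]; exact one_mem _⟩
  refine ⟨⁅s1, c⁆, ?_, ?_, fun h => hccne ?_⟩
  · exact commutator_mem_nilRes hne hs1 (Subgroup.pow_mem _ hc n') hn hn'
  · rw [commutatorElement_def]
    exact K'.mul_mem (Subgroup.Normal.conj_mem inferInstance _ (K'.pow_mem hcK n') s1)
      (K'.inv_mem (K'.pow_mem hcK n'))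
  · have hm : c⁻¹ * ⁅s1, y⁆ ∈ M' := hB'M hnc
    rw [show ⁅s1, ⁅s1, y⁆⁆ = ⁅s1, c * (c⁻¹ * ⁅s1, y⁆)⁆ by group,
      show ⁅s1, c * (c⁻¹ * ⁅s1, y⁆)⁆ = ⁅s1, c⁆ * (c * ⁅s1, c⁻¹ * ⁅s1, y⁆⁆ * c⁻¹) by
        simp [commutatorElement_def, mul_assoc]]
    exact M'.mul_mem h (Subgroup.Normal.conj_mem inferInstance _ (hsm _ hm) c)

/-- One step down a tower. -/
theorem Link.step [Finite Γ] {Y : Subgroup Γ} {a p p' : ℕ} {K B K' B' : Subgroup Γ}
    (hl : Link p K B p' K' B') (hp : p.Prime) (hK : ∀ x ∈ K, ∃ i, x ^ p ^ i ∈ B)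
    (hBK : B ≤ K) (hl' : IsLevel p' K' B')
    (hcov : ∀ x ∈ K', ∃ y ∈ Y ⊓ K', y⁻¹ * x ∈ secFrattini p' K' B')
    {s : Γ} (hsK : s ∈ K) (hsB : s ∉ B) (hsY : s ∈ fitRes a Y) :
    ∃ s' : Γ, s' ∈ fitRes (a + 1) Y ∧ s' ∈ K' ∧ s' ∉ secFrattini p' K' B' := by
  haveI := hl'.normalK
  haveI := hl'.normalB
  refine step_mover hp hl'.prime hl.ne
    (fun y hy b hb => (hl.kernel b (hBK hb)).1 hb y hy) hl'.pgroup (le_secFrattini _ _ _)
    hl'.lt.le hcov hsY (hK s hsK) (hl.centralizes s hsK) ?_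
  by_contra hall
  push Not at hall
  exact hsB ((hl.kernel s hsK).2 hall)

namespace Tower

variable {L : Subgroup Γ} {j h : ℕ}

theorem nonvanish [Finite Γ] (T : Tower L j h) {Y : Subgroup Γ} {i a : ℕ} (hji : j ≤ i)
    (hi : i < h) {s : Γ} (hsK : s ∈ T.K i) (hsB : s ∉ T.B i) (hsY : s ∈ fitRes a Y)
    (hcov : ∀ l, i < l → l < h → ∀ x ∈ T.K l, ∃ y ∈ Y ⊓ T.K l, y⁻¹ * x ∈ T.M l) :
    fitRes (a + (h - 1 - i)) Y ≠ ⊥ := by
  generalize hd : h - 1 - i = d
  induction d generalizing i a s with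
  | zero =>
    intro hbot
    rw [Nat.add_zero] at hbot
    rw [hbot, Subgroup.mem_bot] at hsY
    exact hsB (hsY ▸ one_mem _)
  | succ d ih =>
    obtain ⟨s', h1, h2, h3⟩ := (T.link i hji (by omega)).step (T.level i hji hi).prime
      (T.level i hji hi).pgroup (T.level i hji hi).lt'.le (T.level (i + 1) (by omega) (by omega))
      (hcov (i + 1) (by omega) (by omega)) hsK hsB hsY
    have := ih (i := i + 1) (a := a + 1) (by omega) (by omega) h2
      (fun hb => h3 (le_secFrattini _ _ _ hb)) h1 (fun l hl hlh => hcov l (by omega) hlh) (by omega)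
    rwa [show a + 1 + d = a + (d + 1) by omega] at this

end Tower

/-- An intermediate stage of the construction of a tower. -/
structure Stage [Finite Γ] (L : Subgroup Γ) [L.Normal] (j h : ℕ) where
  T : Tower L (j + 1) h
  p : ℕ
  B : Subgroup Γ
  prime : p.Prime
  normalB : B.Normal
  res_le : fitRes (j + 1) L ≤ B
  lt : B < pPart L p j
  link : j + 1 < h → Link p (pPart L p j) B (T.p (j + 1)) (T.K (j + 1)) (T.B (j + 1))

theorem Stage.K_le [Finite Γ] {L : Subgroup Γ} [L.Normal] {j h : ℕ} (S : Stage L j h) {l : ℕ}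
    (hjl : j < l) (hl : l < h) : S.T.K l ≤ S.B :=
  (S.T.K_le_of_le le_rfl hjl hl).trans (S.link (by omega)).succ_le

/-- The bottom stage. -/
theorem exists_stage_bot [Finite Γ] {L : Subgroup Γ} [L.Normal] [Group.IsSolvable L] {h : ℕ}
    (hne : fitRes h L ≠ ⊥) : Nonempty (Stage L h (h + 1)) := by
  have hlt : fitRes (h + 1) L < fitRes h L := by
    refine lt_of_le_of_ne (nilRes_le _) fun he => ?_
    haveI : Group.IsSolvable (fitRes h L) := CoprimeAction.isSolvable_of_le (fitRes_le h L)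
    haveI : Nontrivial (fitRes h L) := (Subgroup.nontrivial_iff_ne_bot _).2 hne
    have h1 : commutator (fitRes h L) = ⊤ := by
      refine Subgroup.map_injective (fitRes h L).subtype_injective ?_
      rw [← MonoidHom.range_eq_map, Subgroup.range_subtype, Subgroup.map_subtype_commutator]
      refine le_antisymm (Subgroup.commutator_le_self _) ?_
      conv_lhs => rw [← he]
      refine (nilRes_le_lcs _ 1).trans ?_
      rw [Subgroup.lowerCentralSeries_succ, Subgroup.lowerCentralSeries_zero]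
    exact (Group.IsSolvable.commutator_lt_top_of_nontrivial (fitRes h L)).ne h1
  haveI := Subnormal.normal_fitRes L (h + 1)
  obtain ⟨x, hx, hxn⟩ := SetLike.exists_of_lt hlt
  have hex : ∃ p, p.Prime ∧ ¬ pPart L p h ≤ fitRes (h + 1) L := by
    by_contra! hall
    set π := QuotientGroup.mk' (fitRes (h + 1) L)
    have hx1 : π x ≠ 1 := fun e => hxn ((QuotientGroup.eq_one_iff _).1 e)
    have ho : orderOf (π x) ≠ 1 := fun e => hx1 (orderOf_eq_one_iff.1 e)
    obtain ⟨p, hp, hpd⟩ := Nat.exists_prime_and_dvd ho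
    haveI := Fact.mk hp
    have hy : x ^ (orderOf (π x) / p) ∈ pPart L p h :=
      mem_pPart (Subgroup.pow_mem _ hx _) (a := 1) (by
        rw [pow_one, ← pow_mul, Nat.div_mul_cancel hpd, ← QuotientGroup.eq_one_iff,
          ← QuotientGroup.mk'_apply, map_pow]
        exact pow_orderOf_eq_one _)
    have h2 : π x ^ (orderOf (π x) / p) = 1 := by
      rw [← map_pow]; exact (QuotientGroup.eq_one_iff _).2 (hall p hp hy)
    have h3 := Nat.le_of_dvd (Nat.div_pos (Nat.le_of_dvd (orderOf_pos _) hpd) hp.pos)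
      (orderOf_dvd_of_pow_eq_one h2)
    exact absurd h3 (not_le.2 (Nat.div_lt_self (orderOf_pos _) hp.one_lt))
  obtain ⟨p, hp, hnle⟩ := hex
  haveI := Fact.mk hp
  exact ⟨{
    T := { p := fun _ => p, K := fun _ => ⊥, B := fun _ => ⊥,
           level := fun i h1 h2 => absurd h2 (by omega),
           le_res := fun i h1 h2 => absurd h2 (by omega),
           link := fun i h1 h2 => absurd h2 (by omega) }
    p := p
    B := fitRes (h + 1) L
    prime := hp
    normalB := inferInstance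
    res_le := le_rfl
    lt := lt_of_le_not_ge (le_pPart p h) hnle
    link := fun hh => absurd hh (by omega) }⟩

/-- A prime for the level above a stage. -/
theorem exists_mover [Finite Γ] {L : Subgroup Γ} [L.Normal] {j h : ℕ} (S : Stage L (j + 1) h) :
    ∃ q : ℕ, q.Prime ∧ q ≠ S.p ∧
      ∃ f ∈ fitRes j L, (∃ a, f ^ q ^ a = 1) ∧ ∃ x ∈ pPart L S.p (j + 1), ⁅f, x⁆ ∉ S.B := by
  by_contra! hall
  haveI := Fact.mk S.prime
  haveI := S.normalB
  set p := S.p
  set X := pPart L p (j + 1) with hX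
  set D := pPrimePart L p (j + 1) with hD
  set F := fitRes j L with hF
  have hF1 : fitRes (j + 1) L = ⁅fitRes (j + 1) L, F⁆ := (commutator_nilRes F).symm
  have hXp : ∀ x ∈ X, ∃ a, x ^ p ^ a ∈ S.B := fun x hx => by
    obtain ⟨a, ha⟩ := pPart_pow hx
    exact ⟨a, S.res_le ha⟩
  have hFp : ∀ f ∈ F, ∃ a, f ^ p ^ a ∈ secCentralizer X S.B := by
    intro f hf
    set C := secCentralizer X S.B
    set π := QuotientGroup.mk' C
    have hdvd : ∀ q : ℕ, q.Prime → q ∣ orderOf (π f) → q = p := by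
      intro q hq hqd
      by_contra hqp
      set u := orderOf f / q ^ (orderOf f).factorization q
      have hu : ¬ q ∣ u := Nat.not_dvd_ordCompl hq (orderOf_pos f).ne'
      have h1 : (f ^ u) ^ q ^ (orderOf f).factorization q = 1 := by
        rw [← pow_mul, mul_comm, Nat.ordProj_mul_ordCompl_eq_self, pow_orderOf_eq_one]
      have h2 : f ^ u ∈ C := mem_secCentralizer.2
        (hall q hq hqp (f ^ u) (Subgroup.pow_mem _ hf u) ⟨_, h1⟩)
      exact hu (hqd.trans (orderOf_dvd_of_pow_eq_one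
        (by rw [← map_pow]; exact (QuotientGroup.eq_one_iff _).2 h2)))
    refine ⟨(orderOf (π f)).primeFactorsList.length, ?_⟩
    rw [← QuotientGroup.eq_one_iff, ← QuotientGroup.mk'_apply, map_pow,
      ← Nat.eq_prime_pow_of_unique_prime_dvd (orderOf_pos _).ne' (fun {q} hq hqd => hdvd q hq hqd)]
    exact pow_orderOf_eq_one _
  refine not_le_commutator_sup S.lt hXp hFp ?_
  have hdec : fitRes (j + 1) L ≤ X ⊔ D := fun x hx => by
    obtain ⟨-, n, h1, h2⟩ := exists_pPart_decomp (p := p) hx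
    rw [show x = x ^ n * ((x ^ n)⁻¹ * x) by group]
    exact Subgroup.mul_mem_sup h1 h2
  have hTn : (⁅X, F⁆ ⊔ S.B ⊔ D).Normal := inferInstance
  have hle : fitRes (j + 1) L ≤ ⁅X, F⁆ ⊔ S.B ⊔ D := by
    conv_lhs => rw [hF1]
    refine (Subgroup.commutator_mono hdec le_rfl).trans (Subgroup.commutator_le.2 fun z hz f hf => ?_)
    obtain ⟨x, hx, d, hd, rfl⟩ := Subgroup.mem_sup_of_normal_right.1 hz
    rw [show ⁅x * d, f⁆ = x * ⁅d, f⁆ * x⁻¹ * ⁅x, f⁆ by simp [commutatorElement_def, mul_assoc]]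
    refine mul_mem (hTn.conj_mem _ (Subgroup.mem_sup_right ?_) x)
      (Subgroup.mem_sup_left (Subgroup.mem_sup_left (Subgroup.commutator_mem_commutator hx hf)))
    rw [commutatorElement_def, mul_assoc, mul_assoc]
    exact D.mul_mem hd (by simpa [mul_assoc] using
      Subgroup.Normal.conj_mem (inferInstance : D.Normal) _ (D.inv_mem hd) f)
  intro x hx
  obtain ⟨t, ht, d, hd, htd⟩ := Subgroup.mem_sup_of_normal_right.1 (hle (pPart_le p (j + 1) hx))
  have htX : t ∈ X := sup_le (Subgroup.commutator_le_left X F) S.lt.le ht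
  have hdX : d ∈ X := by
    rw [show d = t⁻¹ * x by rw [← htd]; group]
    exact X.mul_mem (X.inv_mem htX) hx
  rw [← htd]
  exact mul_mem ht (Subgroup.mem_sup_right (S.res_le (mem_fitRes_of_parts hdX hd)))

/-- One more stage. -/
theorem exists_stage_succ [Finite Γ] {L : Subgroup Γ} [L.Normal] [Group.IsSolvable L] {σ : Γ}
    (htop : L ⊔ Subgroup.zpowers σ = ⊤)
    (hcop : (Nat.card (Subgroup.zpowers σ)).Coprime (Nat.card L)) {j h : ℕ} (hjh : j + 1 < h)
    (hmin : ∀ L' : Subgroup Γ, L' ≤ L → σ ∈ Subgroup.normalizer (L' : Set Γ) →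
      fitRes (h - 1) L' ≠ ⊥ → L' = L)
    (S : Stage L (j + 1) h) : Nonempty (Stage L j h) := by
  obtain ⟨q, hq, hqp, f, hfF, ⟨a, hfa⟩, x₀, hx₀, hfx₀⟩ := exists_mover S
  haveI := Fact.mk hq
  haveI := Fact.mk S.prime
  haveI := S.normalB
  set p := S.p with hp
  set F1 := fitRes (j + 1) L with hF1
  set K2 := pPart L q j with hK2
  have hK2L : K2 ≤ L := (pPart_le q j).trans (fitRes_le j L)
  have hF1K2 : F1 ≤ K2 := le_pPart q j
  have hfK : f ∈ K2 := mem_pPart hfF (a := a) (by rw [hfa]; exact one_mem _)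
  obtain ⟨P0, hP0⟩ := CoprimeAction.exists_invariant_sylow (A := Subgroup.zpowers σ) (K := K2)
    (Subgroup.normalizer_eq_top (H := K2) ▸ le_top)
    (hcop.coprime_dvd_right (Subgroup.card_dvd_of_le hK2L))
    (Or.inl (CoprimeAction.isSolvable_zpowers σ)) q
  set P := (P0 : Subgroup K2).map K2.subtype with hP
  have hPK : P ≤ K2 := Subgroup.map_subtype_le _
  have hPq : IsPGroup q P := P0.isPGroup'.map _
  have hK2P : K2 ≤ P ⊔ F1 := le_sylow_sup P0 (fun x hx => pPart_pow hx)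
  set N := Subgroup.normalizer (P : Set Γ) with hN
  have hPN : P ≤ N := Subgroup.le_normalizer
  have hNtop : N ⊔ F1 = ⊤ := by
    refine eq_top_iff.2 ((Sylow.normalizer_sup_eq_top P0).ge.trans (sup_le le_sup_left ?_))
    exact hK2P.trans (sup_le (hPN.trans le_sup_left) le_sup_right)
  -- the action of `F1` on sections of `pPart / B`
  set Xf := pPart L p (j + 1) with hXf
  have hXfF1 : Xf ≤ F1 := pPart_le p (j + 1)
  have hDtriv : ∀ d ∈ pPrimePart L p (j + 1), ∀ x ∈ Xf, ⁅d, x⁆ ∈ S.B := fun d hd x hx => by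
    rw [← commutatorElement_inv]
    exact S.B.inv_mem (S.res_le (commutator_mem_of_parts hx hd))
  have hpow : ∀ d ∈ F1, ∀ X : Subgroup Γ, X.Normal → X ≤ Xf →
      ∃ b, d ^ p ^ b ∈ secCentralizer X S.B := fun d hd X _ hXle => by
    obtain ⟨⟨b, hb⟩, -⟩ := exists_pPart_decomp (p := p) hd
    exact ⟨b, mem_secCentralizer.2 fun x hx => hDtriv _ hb x (hXle hx)⟩
  have hclose : ∀ g : Γ, (∃ c, g ^ q ^ c = 1) → ∀ u : Γ, u⁻¹ * g ∈ F1 → ∀ X : Subgroup Γ,
      X.Normal → X ≤ Xf → (∀ x ∈ X, ⁅u, x⁆ ∈ S.B) → ∀ x ∈ X, ⁅g, x⁆ ∈ S.B := by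
    intro g ⟨c, hc⟩ u hu X hXn hXle htriv
    obtain ⟨b, hb⟩ := hpow _ hu X hXn hXle
    have hgC : g ^ p ^ b ∈ secCentralizer X S.B := by
      rw [← QuotientGroup.eq_one_iff, ← QuotientGroup.mk'_apply]
      have : QuotientGroup.mk' (secCentralizer X S.B) g =
          QuotientGroup.mk' (secCentralizer X S.B) (u⁻¹ * g) := by
        rw [map_mul, map_inv, show QuotientGroup.mk' (secCentralizer X S.B) u = 1 from
          (QuotientGroup.eq_one_iff _).2 (mem_secCentralizer.2 htriv), inv_one, one_mul]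
      rw [map_pow, this, ← map_pow]
      exact (QuotientGroup.eq_one_iff _).2 hb
    exact mem_secCentralizer.1 (mem_of_pow_mem S.prime hq hqp.symm hgC
      (by rw [hc]; exact one_mem _))
  have hXf : ∀ x ∈ Xf, ∃ e, x ^ p ^ e ∈ S.B := fun x hx => by
    obtain ⟨e, he⟩ := pPart_pow hx; exact ⟨e, S.res_le he⟩
  have hmoveXf : ∃ g ∈ P, ∃ x ∈ Xf, ⁅g, x⁆ ∉ S.B := by
    by_contra! hall
    obtain ⟨u, hu, d, hd, hud⟩ := Subgroup.mem_sup_of_normal_right.1 (hK2P hfK)
    refine hfx₀ (hclose f ⟨a, hfa⟩ u (by rw [← hud]; simpa using hd) Xf inferInstance le_rfl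
      (fun x hx => hall u hu x hx) x₀ hx₀)
  obtain ⟨X, ⟨hXn, hBX, hXle, hXmove⟩, hXmin⟩ := Set.Finite.exists_minimal
    (s := {X : Subgroup Γ | X.Normal ∧ S.B ≤ X ∧ X ≤ Xf ∧ ∃ g ∈ P, ∃ x ∈ X, ⁅g, x⁆ ∉ S.B})
    (Set.toFinite _) ⟨Xf, inferInstance, S.lt.le, le_rfl, hmoveXf⟩
  haveI := hXn
  have hXF1 : X ≤ F1 := hXle.trans hXfF1
  have hXL : X ≤ L := hXF1.trans (fitRes_le _ L)
  -- the subgroup `L'`
  set L' := (L ⊓ N) ⊔ X with hL'
  have hL'L : L' ≤ L := sup_le inf_le_left hXL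
  have hσN : σ ∈ N := hP0 (Subgroup.mem_zpowers σ)
  have hσL' : σ ∈ Subgroup.normalizer (L' : Set Γ) := by
    refine Subgroup.mem_normalizer_iff_map_conj_eq.2 ?_
    have h1 : ∀ {H : Subgroup Γ}, σ ∈ Subgroup.normalizer (H : Set Γ) →
        H.map (MulAut.conj σ).toMonoidHom = H := fun h => Subgroup.mem_normalizer_iff_map_conj_eq.1 h
    rw [hL', Subgroup.map_sup, Subgroup.map_inf _ _ _ (MulAut.conj σ).injective]
    refine congrArg₂ _ (congrArg₂ _ (h1 (H := L) (by rw [Subgroup.normalizer_eq_top]; trivial))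
      (h1 (H := N) (Subgroup.le_normalizer hσN)))
      (h1 (H := X) (by rw [Subgroup.normalizer_eq_top]; trivial))
  have hLsup : L ≤ L' ⊔ F1 := by
    intro l hl
    obtain ⟨n, hn, d, hd, hnd⟩ := Subgroup.mem_sup_of_normal_right.1 (hNtop.ge (Subgroup.mem_top l))
    rw [← hnd]
    refine Subgroup.mul_mem_sup (Subgroup.mem_sup_left ⟨?_, hn⟩) hd
    rw [show n = l * d⁻¹ by rw [← hnd]; group]
    exact L.mul_mem hl (L.inv_mem (fitRes_le _ L hd))
  -- a mover inside `fitRes j L'`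
  have hs : ∃ s ∈ fitRes (j + 1) L', s ∈ X ∧ s ∉ S.B := by
    obtain ⟨g, hg, x, hx, hgx⟩ := hXmove
    haveI : F1.Normal := inferInstance
    have hmap : (fitRes j L').map (QuotientGroup.mk' F1) =
        (fitRes j L).map (QuotientGroup.mk' F1) := by
      rw [map_fitRes, map_fitRes]
      congr 1
      refine le_antisymm (Subgroup.map_mono hL'L) ((Subgroup.map_mono hLsup).trans ?_)
      rw [Subgroup.map_sup, show F1.map (QuotientGroup.mk' F1) = ⊥ from by
        rw [Subgroup.map_eq_bot_iff, QuotientGroup.ker_mk'], sup_bot_eq]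
    obtain ⟨y, hy, hyg⟩ := hmap.ge (Subgroup.mem_map_of_mem _ (pPart_le q j (hPK hg)))
    have hyg' : y⁻¹ * g ∈ F1 := QuotientGroup.eq.1 hyg
    have hgq : ∃ c, g ^ q ^ c = 1 := by
      obtain ⟨c, hc⟩ := hPq ⟨g, hg⟩; exact ⟨c, congrArg Subtype.val hc⟩
    obtain ⟨c, hc⟩ := hgq
    have hyq : y ^ q ^ c ∈ F1 := by
      rw [← QuotientGroup.eq_one_iff, ← QuotientGroup.mk'_apply, map_pow, hyg, ← map_pow, hc,
        map_one]
    obtain ⟨n, hn, hny⟩ := exists_pPart hq hyq
    set y1 := y ^ n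
    have hy1g : y1⁻¹ * g ∈ F1 := by
      rw [show y1⁻¹ * g = (y1⁻¹ * y) * (y⁻¹ * g) by group]
      exact F1.mul_mem hny hyg'
    have hy1 : y1 ∈ fitRes j L' := Subgroup.pow_mem _ hy n
    have hmov : ∃ x ∈ X, ⁅y1, x⁆ ∉ S.B := by
      by_contra! hall
      exact hgx (hclose g ⟨c, hc⟩ y1 hy1g X hXn hXle hall x hx)
    obtain ⟨s, h1, h2, h3⟩ := step_mover (Y := L') (a := j) (p := q) (p' := p) hq S.prime hqp
      (B := (⊥ : Subgroup Γ)) (K' := X) (B' := S.B) (M' := S.B)
      (fun z _ b hb => by rw [Subgroup.mem_bot.1 hb, commutatorElement_one_left]; exact one_mem _)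
      (fun z hz => hXf z (hXle hz)) le_rfl hBX
      (fun z hz => ⟨z, ⟨Subgroup.mem_sup_right hz, hz⟩, by simp⟩) hy1
      (by obtain ⟨e, he⟩ := hn; exact ⟨e, by rw [he]; exact one_mem _⟩)
      (fun m hm => by
        rw [commutatorElement_def]
        exact S.B.mul_mem (Subgroup.Normal.conj_mem inferInstance m hm y1) (S.B.inv_mem hm))
      hmov
    exact ⟨s, h1, h2, h3⟩
  have hLL' : L' = L := by
    refine hmin L' hL'L hσL' ?_
    obtain ⟨s, hs1, hs2, hs3⟩ := hs
    by_cases hlast : j + 1 + 1 < h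
    · have hXl : ∀ l, j + 1 < l → l < h → S.T.K l ≤ L' := fun l h1 h2 =>
        ((S.K_le h1 h2).trans hBX).trans le_sup_right
      have hlink := S.link hlast
      have hlev := S.T.level (j + 1 + 1) le_rfl hlast
      obtain ⟨s', h1, h2, h3⟩ := (hlink.mono hXle).step S.prime
        (fun z hz => hXf z (hXle hz)) hBX hlev
        (fun z hz => ⟨z, ⟨hXl _ (by omega) hlast hz, hz⟩, by simp⟩) hs2 hs3 hs1
      have := S.T.nonvanish (Y := L') le_rfl hlast h2 (fun hb => h3 (le_secFrattini _ _ _ hb)) h1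
        (fun l hl hlh z hz => ⟨z, ⟨hXl l (by omega) hlh hz, hz⟩, by simp⟩)
      rwa [show j + 1 + 1 + (h - 1 - (j + 1 + 1)) = h - 1 by omega] at this
    · intro hbot
      rw [show h - 1 = j + 1 by omega] at hbot
      rw [hbot, Subgroup.mem_bot] at hs1
      exact hs3 (hs1 ▸ one_mem _)
  have hgen : N ⊔ X = ⊤ := by
    rw [eq_top_iff, ← htop]
    refine sup_le ?_ ((Subgroup.zpowers_le.2 hσN).trans le_sup_left)
    conv_lhs => rw [← hLL']
    exact sup_le (inf_le_right.trans le_sup_left) le_sup_right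
  obtain ⟨hlev, hPM, hPmove, hcentM⟩ := level_of_minimal (p := p) (q := q) hqp.symm hBX
    (fun z hz => hXf z (hXle hz)) hPq hgen hXmove
    (fun Y h1 h2 h3 h4 => le_antisymm h3 (hXmin ⟨h1, h2, h3.trans hXle, h4⟩ h3))
  set M := secFrattini p X S.B with hM
  have hF1M : ∀ d ∈ F1, ∀ y ∈ X, ⁅d, y⁆ ∈ M := by
    intro d hd y hy
    have hXXf : ⁅X, Xf⁆ ≤ M := by
      have hn : (⁅X, Xf⁆ ⊔ M).Normal := inferInstance
      rcases hlev.irred _ hn le_sup_right
          (sup_le (Subgroup.commutator_le_left X Xf) hlev.lt.le) with h1 | h1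
      · exact le_sup_left.trans h1.le
      · exfalso
        refine not_le_commutator_sup (p := p) (X := X) (B := S.B) (F := Xf) hlev.lt'
          (fun z hz => hXf z (hXle hz)) (fun g hg => ?_) ?_
        · obtain ⟨e, he⟩ := hXf g hg
          exact ⟨e, mem_secCentralizer.2 fun z hz => by
            rw [commutatorElement_def, mul_assoc, mul_assoc]
            refine S.B.mul_mem he ?_
            rw [← mul_assoc]
            exact Subgroup.Normal.conj_mem inferInstance _ (S.B.inv_mem he) z⟩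
        · refine (eq_of_sup_secFrattini (p := p) (X := X) (B := S.B) (Y := ⁅X, Xf⁆ ⊔ S.B)
            (fun z hz => hXf z (hXle hz)) le_sup_right
            (sup_le (Subgroup.commutator_le_left X Xf) hBX) ?_).ge
          rw [sup_assoc, sup_eq_right.2 (le_secFrattini p X S.B)]
          exact h1
    obtain ⟨-, n, hn1, hn2⟩ := exists_pPart_decomp (p := p) hd
    have h2 : d ∈ secCentralizer X M := by
      rw [show d = d ^ n * ((d ^ n)⁻¹ * d) by group]
      refine Subgroup.mul_mem _ (mem_secCentralizer.2 fun z hz => ?_)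
        (mem_secCentralizer.2 fun z hz => le_secFrattini _ _ _ (hDtriv _ hn2 z (hXle hz)))
      rw [← commutatorElement_inv]
      exact M.inv_mem (hXXf (Subgroup.commutator_mem_commutator hz hn1))
    exact mem_secCentralizer.1 h2 y hy
  have hF1B : ∀ d ∈ F1, ∀ m ∈ M, ⁅d, m⁆ ∈ S.B := fun d hd => hcentM d (hF1M d hd)
  let B2 := K2 ⊓ secCentralizer X M
  have hB2lt : B2 < K2 := by
    refine lt_of_le_of_ne inf_le_left fun he => ?_
    obtain ⟨g, hg, z, hz, hgz⟩ := hPmove
    exact hgz (mem_secCentralizer.1 (he.ge (hPK hg)).2 z hz)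
  refine ⟨{
    T := {
      p := Function.update S.T.p (j + 1) p
      K := Function.update S.T.K (j + 1) X
      B := Function.update S.T.B (j + 1) S.B
      level := fun i hi hih => ?_
      le_res := fun i hi hih => ?_
      link := fun i hi hih => ?_ }
    p := q
    B := B2
    prime := hq
    normalB := inferInstance
    res_le := le_inf hF1K2 fun d hd => mem_secCentralizer.2 (hF1M d hd)
    lt := hB2lt
    link := fun _ => ?_ }⟩
  · rcases eq_or_lt_of_le hi with rfl | hlt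
    · simp only [Function.update_self]; exact hlev
    · simp only [Function.update_of_ne (show i ≠ j + 1 by omega)]
      exact S.T.level i (by omega) hih
  · rcases eq_or_lt_of_le hi with rfl | hlt
    · simp only [Function.update_self]; exact hXF1
    · simp only [Function.update_of_ne (show i ≠ j + 1 by omega)]
      exact S.T.le_res i (by omega) hih
  · rcases eq_or_lt_of_le hi with rfl | hlt
    · simp only [Function.update_self, Function.update_of_ne (show j + 1 + 1 ≠ j + 1 by omega)]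
      exact (S.link hih).mono hXle
    · simp only [Function.update_of_ne (show i ≠ j + 1 by omega),
        Function.update_of_ne (show i + 1 ≠ j + 1 by omega)]
      exact S.T.link i (by omega) hih
  · simp only [Function.update_self]
    refine ⟨hqp, le_inf (hXF1.trans hF1K2) fun z hz => mem_secCentralizer.2 fun y hy => ?_,
      fun z hz => ⟨fun hb => mem_secCentralizer.1 hb.2, fun hb => ⟨hz, mem_secCentralizer.2 hb⟩⟩,
      fun z hz m hm => ?_⟩
    · exact commutator_le_secFrattini p X S.B (Subgroup.commutator_mem_commutator hz hy)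
    · obtain ⟨u, hu, d, hd, rfl⟩ := Subgroup.mem_sup_of_normal_right.1 (hK2P hz)
      rw [show ⁅u * d, m⁆ = u * ⁅d, m⁆ * u⁻¹ * ⁅u, m⁆ by simp [commutatorElement_def, mul_assoc]]
      exact S.B.mul_mem (Subgroup.Normal.conj_mem inferInstance _ (hF1B d hd m hm) u)
        (hPM u hu m hm)

/-- A minimal solvable group with `fitRes (h - 1) L ≠ ⊥` has a tower of `h` levels. -/
theorem exists_tower [Finite Γ] {L : Subgroup Γ} [L.Normal] [Group.IsSolvable L] {σ : Γ}
    (htop : L ⊔ Subgroup.zpowers σ = ⊤)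
    (hcop : (Nat.card (Subgroup.zpowers σ)).Coprime (Nat.card L)) {h : ℕ}
    (hne : fitRes h L ≠ ⊥)
    (hmin : ∀ L' : Subgroup Γ, L' ≤ L → σ ∈ Subgroup.normalizer (L' : Set Γ) →
      fitRes h L' ≠ ⊥ → L' = L) : Nonempty (Tower L 0 (h + 1)) := by
  have hstage : ∀ d, d ≤ h → Nonempty (Stage L (h - d) (h + 1)) := by
    intro d
    induction d with
    | zero => exact fun _ => exists_stage_bot hne
    | succ d ih =>
      intro hd
      obtain ⟨S⟩ := ih (by omega)
      have he : h - d = h - (d + 1) + 1 := by omega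
      exact exists_stage_succ htop hcop (by omega) (by simpa using hmin) (he ▸ S)
  obtain ⟨S⟩ := Nat.sub_self h ▸ hstage h le_rfl
  haveI := Fact.mk S.prime
  haveI := S.normalB
  set p := S.p
  have hXf : ∀ x ∈ pPart L p 0, ∃ e, x ^ p ^ e ∈ S.B := fun x hx => by
    obtain ⟨e, he⟩ := pPart_pow hx; exact ⟨e, S.res_le he⟩
  obtain ⟨X, ⟨hXn, hBX, hXle⟩, hXmin⟩ := Set.Finite.exists_minimal
    (s := {X : Subgroup Γ | X.Normal ∧ S.B < X ∧ X ≤ pPart L p 0})
    (Set.toFinite _) ⟨_, inferInstance, S.lt, le_rfl⟩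
  haveI := hXn
  have hXp : ∀ x ∈ X, ∃ e, x ^ p ^ e ∈ S.B := fun x hx => hXf x (hXle hx)
  have hBM : secFrattini p X S.B = S.B := by
    by_contra hne'
    have hle : secFrattini p X S.B ≤ X := secFrattini_le hBX.le
    have h1 : secFrattini p X S.B = X := le_antisymm hle
      (hXmin ⟨inferInstance, lt_of_le_of_ne (le_secFrattini p X S.B) (Ne.symm hne'),
        hle.trans hXle⟩ hle)
    exact hBX.ne (eq_of_sup_secFrattini (p := p) hXp le_rfl hBX.le
      (by rw [sup_eq_right.2 (le_secFrattini p X S.B), h1]))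
  have hlev : IsLevel p X S.B := by
    refine ⟨S.prime, hXn, S.normalB, by rw [hBM]; exact hBX, hXp, fun Y hYn hMY hYX => ?_,
      fun m hm x hx => ?_, fun m hm => ?_, fun _ => hBM⟩
    · rw [hBM] at hMY ⊢
      rcases eq_or_lt_of_le hMY with h1 | h1
      · exact Or.inl h1.symm
      · exact Or.inr (le_antisymm hYX (hXmin ⟨hYn, h1, hYX.trans hXle⟩ hYX))
    · rw [hBM] at hm
      rw [commutatorElement_def, mul_assoc, mul_assoc]
      refine S.B.mul_mem hm ?_
      rw [← mul_assoc]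
      exact Subgroup.Normal.conj_mem inferInstance _ (S.B.inv_mem hm) x
    · rw [hBM] at hm
      exact S.B.pow_mem hm _
  refine ⟨{
    p := Function.update S.T.p 0 p
    K := Function.update S.T.K 0 X
    B := Function.update S.T.B 0 S.B
    level := fun i _ hih => ?_
    le_res := fun i _ hih => ?_
    link := fun i _ hih => ?_ }⟩
  · rcases Nat.eq_zero_or_pos i with rfl | hlt
    · simp only [Function.update_self]; exact hlev
    · simp only [Function.update_of_ne (show i ≠ 0 by omega)]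
      exact S.T.level i hlt hih
  · rcases Nat.eq_zero_or_pos i with rfl | hlt
    · simp only [Function.update_self]
      exact hXle.trans (pPart_le p 0)
    · simp only [Function.update_of_ne (show i ≠ 0 by omega)]
      exact S.T.le_res i hlt hih
  · rcases Nat.eq_zero_or_pos i with rfl | hlt
    · simp only [Function.update_self, Function.update_of_ne (show (0 + 1) ≠ 0 by omega)]
      exact (S.link hih).mono hXle
    · simp only [Function.update_of_ne (show i ≠ 0 by omega),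
        Function.update_of_ne (show i + 1 ≠ 0 by omega)]
      exact S.T.link i hlt hih

end CfsgLib.FittingHeightPrime
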