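/-
Fixed points of the operator on the sections of a tower.
-/
import Mathlib
import Cfsg.Agent.Lib.FittingHeightPrime.Tower
import Cfsg.Agent.Lib.FittingHeightPrime.SectionRep

set_option autoImplicit false
set_option linter.style.haveILetI false

open scoped commutatorElement

namespace CfsgLib.FittingHeightPrime

variable {Γ : Type*} [Group Γ]

/-- `Γ` is the product of a normal subgroup `L` and an operator `σ` of prime order prime to `|L|`. -/
structure Ctx (L : Subgroup Γ) (σ : Γ) (r : ℕ) : Prop where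
  prime : r.Prime
  pow_eq : σ ^ r = 1
  normal : L.Normal
  top : L ⊔ Subgroup.zpowers σ = ⊤
  coprime : r.Coprime (Nat.card L)

/-- The fixed points in `L`. -/
def fixedPart (L : Subgroup Γ) (σ : Γ) : Subgroup Γ := L ⊓ Subgroup.centralizer {σ}

theorem mem_fixedPart {L : Subgroup Γ} {σ x : Γ} :
    x ∈ fixedPart L σ ↔ x ∈ L ∧ x * σ = σ * x := by
  rw [fixedPart, Subgroup.mem_inf, Subgroup.mem_centralizer_singleton_iff]

theorem centralizer_le_normalizer_fixedPart [Finite Γ] {L : Subgroup Γ} [L.Normal] {σ g : Γ}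
    (hg : g * σ = σ * g) : g ∈ Subgroup.normalizer (fixedPart L σ : Set Γ) := by
  refine CoprimeAction.mem_normalizer_of_conj_mem fun x hx => ?_
  rw [mem_fixedPart] at hx ⊢
  refine ⟨Subgroup.Normal.conj_mem inferInstance x hx.1 g, ?_⟩
  exact (((show Commute g σ from hg).mul_left hx.2).mul_left (show Commute g σ from hg).inv_left).eq

/-- `σ` and the members of `R` normalize `⁅K', R⁆ ⊔ M'`. -/
theorem mem_normalizer_span {K' M' R : Subgroup Γ} [K'.Normal] [M'.Normal] {g : Γ}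
    (hg : g ∈ Subgroup.normalizer (R : Set Γ)) :
    g ∈ Subgroup.normalizer ((⁅K', R⁆ ⊔ M' : Subgroup Γ) : Set Γ) := by
  refine Subgroup.mem_normalizer_iff_map_conj_eq.2 ?_
  show (⁅K', R⁆ ⊔ M').map (MulAut.conj g : Γ →* Γ) = _
  have h1 : ∀ {H : Subgroup Γ}, g ∈ Subgroup.normalizer (H : Set Γ) →
      H.map (MulAut.conj g : Γ →* Γ) = H := fun h => Subgroup.mem_normalizer_iff_map_conj_eq.1 h
  rw [Subgroup.map_sup, Subgroup.map_commutator, h1 hg,
    h1 (H := K') (by rw [Subgroup.normalizer_eq_top]; trivial),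
    h1 (H := M') (by rw [Subgroup.normalizer_eq_top]; trivial)]

theorem span_le {K' M' R : Subgroup Γ} [K'.Normal] (hM : M' ≤ K') : ⁅K', R⁆ ⊔ M' ≤ K' :=
  sup_le (Subgroup.commutator_le_left K' R) hM

theorem mem_normalizer_of_normal (H : Subgroup Γ) [H.Normal] (g : Γ) :
    g ∈ Subgroup.normalizer (H : Set Γ) := by rw [Subgroup.normalizer_eq_top]; trivial

variable [Finite Γ] {L : Subgroup Γ} {σ : Γ} {r : ℕ} (hc : Ctx L σ r)

include hc

theorem Ctx.cop {H : Subgroup Γ} (hH : H ≤ L) :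
    (Nat.card (Subgroup.zpowers σ)).Coprime (Nat.card H) := by
  rw [Nat.card_zpowers]
  exact (hc.coprime.coprime_dvd_left (orderOf_dvd_of_pow_eq_one hc.pow_eq)).coprime_dvd_right
    (Subgroup.card_dvd_of_le hH)

theorem Ctx.cop_r {H : Subgroup Γ} (hH : H ≤ L) : r.Coprime (Nat.card H) :=
  hc.coprime.coprime_dvd_right (Subgroup.card_dvd_of_le hH)

theorem Ctx.cop_elt {x : Γ} (hx : x ∈ L) : r.Coprime (orderOf x) := by
  rw [← Nat.card_zpowers]
  exact hc.cop_r (Subgroup.zpowers_le.2 hx)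

/-- A coset fixed by `σ` contains a fixed element. -/
theorem Ctx.exists_fixed {X N : Subgroup Γ} (hXL : X ≤ L) (hNX : N ≤ X)
    (hXN : X ≤ Subgroup.normalizer (N : Set Γ)) (hσN : σ ∈ Subgroup.normalizer (N : Set Γ)) {x : Γ}
    (hx : x ∈ X) (hfix : ⁅σ, x⁆ ∈ N) : ∃ c ∈ X, c * σ = σ * c ∧ c⁻¹ * x ∈ N := by
  let T : Subgroup Γ :=
    { carrier := {a | a ∈ Subgroup.normalizer (N : Set Γ) ∧ ⁅a, x⁆ ∈ N}
      one_mem' := ⟨one_mem _, by rw [commutatorElement_one_left]; exact one_mem _⟩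
      mul_mem' := fun {a b} ha hb => ⟨mul_mem ha.1 hb.1, by
        rw [show ⁅a * b, x⁆ = a * ⁅b, x⁆ * a⁻¹ * ⁅a, x⁆ by simp [commutatorElement_def, mul_assoc]]
        exact mul_mem (CoprimeAction.conj_mem ha.1 hb.2) ha.2⟩
      inv_mem' := fun {a} ha => ⟨inv_mem ha.1, by
        rw [show ⁅a⁻¹, x⁆ = a⁻¹ * ⁅a, x⁆⁻¹ * a⁻¹⁻¹ by simp [commutatorElement_def, mul_assoc]]
        exact CoprimeAction.conj_mem (inv_mem ha.1) (inv_mem ha.2)⟩ }
  obtain ⟨c, hcm, hcN⟩ := CoprimeAction.exists_centralizer_mem_coset_of_commutator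
    (A := Subgroup.zpowers σ) (hc.cop hXL) (Or.inl (CoprimeAction.isSolvable_zpowers σ)) hNX hXN
    (Subgroup.zpowers_le.2 hσN) hx fun a ha => by
      have : a ∈ T := Subgroup.zpowers_le.2 (show σ ∈ T from ⟨hσN, hfix⟩) ha
      simpa [commutatorElement_def] using this.2
  refine ⟨c, hcm.1, (Subgroup.mem_centralizer_iff.1 hcm.2 σ (Subgroup.mem_zpowers σ)).symm, ?_⟩
  simpa using N.inv_mem hcN

/-- `⁅K, ⟨σ⟩⁆` is generated by its commutators with `σ`. -/
theorem Ctx.gen {K : Subgroup Γ} [K.Normal] (hK : K ≤ L) :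
    ⁅K, Subgroup.zpowers σ⁆ ≤ ⁅⁅K, Subgroup.zpowers σ⁆, Subgroup.zpowers σ⁆ :=
  (CoprimeAction.commutator_commutator_eq (fun a _ => mem_normalizer_of_normal K a) (hc.cop hK)
    (Or.inl (CoprimeAction.isSolvable_zpowers σ))).ge

/-- `K = ⁅K, ⟨σ⟩⁆ C_K(σ)`. -/
theorem Ctx.decomp {K : Subgroup Γ} (hσK : σ ∈ Subgroup.normalizer (K : Set Γ)) (hK : K ≤ L) {x : Γ}
    (hx : x ∈ K) : ∃ y ∈ ⁅K, Subgroup.zpowers σ⁆, ∃ c ∈ K, c * σ = σ * c ∧ x = y * c := by
  obtain ⟨y, hy, c, hcc, h⟩ := CoprimeAction.commutator_sup_centralizer_aux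
    (Subgroup.zpowers_le.2 hσK) (hc.cop hK) (Or.inl (CoprimeAction.isSolvable_zpowers σ)) hx
  exact ⟨y, hy, c, hcc.1,
    (Subgroup.mem_centralizer_iff.1 hcc.2 σ (Subgroup.mem_zpowers σ)).symm, h⟩

/-- The fixed points of `⁅K, ⟨σ⟩⁆` lie in the Frattini subgroup of the section. -/
theorem Ctx.fixed_mem {p : ℕ} {K B : Subgroup Γ} (hlev : IsLevel p K B) (hK : K ≤ L) {c : Γ}
    (hcR : c ∈ ⁅K, Subgroup.zpowers σ⁆) (hcσ : c * σ = σ * c) : c ∈ secFrattini p K B := by
  haveI := hlev.normalK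
  haveI := hlev.normalB
  set M := secFrattini p K B
  set π := QuotientGroup.mk' M
  set V := K.map π
  set A := (Subgroup.zpowers σ).map π
  haveI : V.Normal := Subgroup.Normal.map inferInstance _ (QuotientGroup.mk'_surjective M)
  haveI : IsMulCommutative V := ⟨⟨by
    rintro ⟨_, a, ha, rfl⟩ ⟨_, b, hb, rfl⟩
    refine Subtype.ext ?_
    show π a * π b = π b * π a
    rw [← commutatorElement_eq_one_iff_mul_comm, ← map_commutatorElement]
    exact (QuotientGroup.eq_one_iff _).2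
      (commutator_le_secFrattini p K B (Subgroup.commutator_mem_commutator ha hb))⟩⟩
  have hcop : (Nat.card A).Coprime (Nat.card V) :=
    ((hc.cop hK).coprime_dvd_left (Subgroup.card_map_dvd _ π)).coprime_dvd_right
      (Subgroup.card_map_dvd _ π)
  have h0 := CoprimeAction.inf_commutator_eq_bot (A := A) (V := V)
    (fun a _ => mem_normalizer_of_normal V a) hcop
  have h1 : π c ∈ ⁅V, A⁆ := by
    rw [← Subgroup.map_commutator]; exact Subgroup.mem_map_of_mem π hcR
  have h2 : π c ∈ V := Subgroup.commutator_le_left V A h1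
  have h3 : π c ∈ Subgroup.centralizer (A : Set (Γ ⧸ M)) := by
    refine Subgroup.mem_centralizer_iff.2 ?_
    rintro _ ⟨a, ha, rfl⟩
    obtain ⟨j, rfl⟩ := Subgroup.mem_zpowers_iff.1 ha
    rw [← map_mul, ← map_mul, ((show Commute c σ from hcσ).zpow_right j).eq]
  exact (QuotientGroup.eq_one_iff _).1 (Subgroup.mem_bot.1 (h0.le ⟨⟨h2, h3⟩, h1⟩))

omit hc in
/-- The representation of a level. -/
theorem IsLevel.exists_secRep {p : ℕ} [Fact p.Prime] {K B : Subgroup Γ} (h : IsLevel p K B) :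
    Nonempty (SecRep p K (secFrattini p K B)) := by
  haveI := h.normalK
  haveI := h.normalB
  exact FittingHeightPrime.exists_secRep K (secFrattini p K B) (secFrattini_le h.lt'.le)
    (commutator_le_secFrattini p K B) (fun x hx => pow_mem_secFrattini p B hx)

end CfsgLib.FittingHeightPrime
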