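/-
A group with scalar commutators and scalar centre generates a matrix algebra, and a normalizing
unit splits as a product of an element of that algebra and a commuting one.
-/
import Mathlib
import Cfsg.Agent.Lib.HallHigmanExc.Exceptional

set_option autoImplicit false
set_option linter.style.haveILetI false
set_option linter.unusedSectionVars false

open Module
open scoped commutatorElement

namespace CfsgLib.FittingHeightPrime

open HallHigmanExc HallHigmanB

universe u v w

variable {K : Type u} [Field K] {W : Type v} [AddCommGroup W] [Module K W]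
  {Q : Type w} [Group Q]

/-- The matrix algebra generated by the image of `Q`, with the basis given by `Q ⧸ commKer`. -/
structure MatrixModel (σ : Q →* Module.End K W) (U : Submodule K W) where
  lift : Module.End K U →ₐ[K] Module.End K W
  injective : Function.Injective lift
  basis : Basis (Q ⧸ commKer σ) K (Module.End K U)
  basis_spec : ∀ x, lift (basis x) = σ (Quotient.out x)
  mem_range : ∀ g, σ g ∈ lift.range
  indep : ∀ D : (Q ⧸ commKer σ) → Module.End K W,
    (∀ x g, Commute (D x) (σ g)) → ∀ s : Finset (Q ⧸ commKer σ),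
      ∑ x ∈ s, lift (basis x) * D x = 0 → ∀ x ∈ s, D x = 0
  commute_scalar : ∀ F : Module.End K U, (∀ g, Commute (lift F) (σ g)) →
    ∃ c : K, F = c • (1 : Module.End K U)
  nontrivial : Nontrivial U

theorem exists_matrixModel [IsAlgClosed K] [FiniteDimensional K W] [Nontrivial W] [Finite Q]
    (σ : Q →* Module.End K W)
    (hcomm : ∀ a b : Q, ∃ c : K, σ (a * b * a⁻¹ * b⁻¹) = c • (1 : Module.End K W))
    (hscal : ∀ g ∈ commKer σ, ∃ c : K, σ g = c • (1 : Module.End K W)) :
    ∃ U : Submodule K W, Nonempty (MatrixModel σ U) := by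
  classical
  haveI hSn := commKer_normal hcomm
  choose χ hχ using hcomm
  let X := Q ⧸ commKer σ
  haveI : Fintype X := Fintype.ofFinite X
  let rep : X → Q := fun x => Quotient.out x
  have hrep : ∀ x : X, (QuotientGroup.mk (rep x) : X) = x := fun x => Quotient.out_eq x
  have hunit : ∀ a : Q, σ a * σ a⁻¹ = 1 ∧ σ a⁻¹ * σ a = 1 := fun a =>
    ⟨by rw [← map_mul, mul_inv_cancel, map_one], by rw [← map_mul, inv_mul_cancel, map_one]⟩
  have hne0 : ∀ a : Q, σ a ≠ 0 := fun a h => by
    have h1 := (hunit a).1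
    rw [h, zero_mul] at h1
    exact zero_ne_one h1
  have hswap : ∀ g a : Q, σ g * σ a = χ g a • (σ a * σ g) := fun g a => by
    rw [← map_mul, ← map_mul, show g * a = g * a * g⁻¹ * a⁻¹ * (a * g) by group, map_mul, hχ,
      smul_mul_assoc, one_mul]
  have hχ0 : ∀ g a, χ g a ≠ 0 := fun g a h0 => by
    have h2 := hswap g a
    rw [h0, zero_smul, ← map_mul] at h2
    exact hne0 _ h2
  have hχinj : ∀ x y : X, (∀ g, χ g (rep x) = χ g (rep y)) → x = y := by
    intro x y hxy
    rw [← hrep x, ← hrep y]
    refine QuotientGroup.eq.2 fun g => ?_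
    set a := rep x
    set b := rep y
    have h1 : σ g * σ a⁻¹ = (χ g a)⁻¹ • (σ a⁻¹ * σ g) := by
      have e1 : σ a⁻¹ * σ g = χ g a • (σ g * σ a⁻¹) := by
        calc σ a⁻¹ * σ g = σ a⁻¹ * ((σ g * σ a) * σ a⁻¹) := by
              rw [mul_assoc, (hunit a).1, mul_one]
          _ = _ := by
            rw [hswap, smul_mul_assoc, mul_smul_comm, ← mul_assoc, ← mul_assoc, (hunit a).2,
              one_mul]
      rw [e1, smul_smul, inv_mul_cancel₀ (hχ0 g a), one_smul]
    show σ (a⁻¹ * b) * σ g = σ g * σ (a⁻¹ * b)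
    rw [map_mul, ← mul_assoc (σ g), h1, smul_mul_assoc, mul_assoc _ (σ g), hswap g b, ← hxy g,
      mul_smul_comm, smul_smul, inv_mul_cancel₀ (hχ0 g a), one_smul, mul_assoc]
  have hsc : ∀ a b : Q, (a : X) = (b : X) → ∃ c : K, σ a = c • σ b := by
    intro a b hab
    obtain ⟨c, hc⟩ := hscal _ (QuotientGroup.eq.1 hab.symm)
    exact ⟨c, by rw [show a = b * (b⁻¹ * a) by group, map_mul, hc, mul_smul_comm, mul_one]⟩
  obtain ⟨U, hU⟩ : ∃ U, Minimal (fun U : Submodule K W => U ≠ ⊥ ∧ ∀ g, ∀ w ∈ U, σ g w ∈ U) U :=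
    exists_minimal_of_wellFoundedLT _ ⟨⊤, top_ne_bot, fun g w _ => Submodule.mem_top⟩
  obtain ⟨hUne, hUinv⟩ := hU.prop
  haveI : Nontrivial U := Submodule.nontrivial_iff_ne_bot.2 hUne
  let σU : Q →* Module.End K U :=
    { toFun := fun g => (σ g).restrict (hUinv g)
      map_one' := by ext w; simp
      map_mul' := fun g h => by ext w; simp }
  have hirr : ∀ W' : Submodule K U, (∀ g, ∀ w ∈ W', σU g w ∈ W') → W' = ⊥ ∨ W' = ⊤ := by
    intro W' hW'
    by_cases hb : W' = ⊥
    · exact Or.inl hb
    right
    have h : U ≤ W'.map U.subtype := hU.le_of_le ⟨fun h => hb (by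
        rw [← Submodule.map_bot U.subtype] at h
        exact Submodule.map_injective_of_injective U.subtype_injective h), by
      rintro g _ ⟨w, hw, rfl⟩
      exact ⟨σU g w, hW' g w hw, rfl⟩⟩ (Submodule.map_subtype_le U W')
    rw [eq_top_iff]
    intro w _
    obtain ⟨w', hw', he⟩ := h w.2
    rwa [← U.subtype_injective he]
  let eU : X → Module.End K U := fun x => σU (rep x)
  have heU0 : ∀ x, eU x ≠ 0 := fun x h => by
    have h1 : σU (rep x) * σU (rep x)⁻¹ = 1 := by rw [← map_mul, mul_inv_cancel, map_one]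
    rw [show σU (rep x) = 0 from h, zero_mul] at h1
    exact zero_ne_one h1
  have hliU : LinearIndependent K eU := by
    refine linearIndependent_of_eigen eU heU0 (fun g => (LinearMap.mulLeft K (σU g)).comp
      (LinearMap.mulRight K (σU g⁻¹))) (fun x g => χ g (rep x)) (fun x g => ?_) hχinj
    show σU g * (σU (rep x) * σU g⁻¹) = _
    have hswapU : σU g * σU (rep x) = χ g (rep x) • (σU (rep x) * σU g) := by
      refine LinearMap.ext fun w => Subtype.ext ?_
      exact LinearMap.congr_fun (hswap g (rep x)) (w : W)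
    rw [← mul_assoc, hswapU, smul_mul_assoc, mul_assoc, ← map_mul σU g, mul_inv_cancel, map_one,
      mul_one]
  let b : Basis X K (Module.End K U) := Basis.mk hliU (by
    rw [← span_range_eq_top σU hirr, Submodule.span_le]
    rintro _ ⟨g, rfl⟩
    obtain ⟨c, hc⟩ := hsc g (rep (g : X)) (hrep _).symm
    have : σU g = c • eU (g : X) :=
      LinearMap.ext fun w => Subtype.ext (LinearMap.congr_fun hc (w : W))
    rw [this]
    exact Submodule.smul_mem _ _ (Submodule.subset_span ⟨_, rfl⟩))
  let lin : Module.End K U →ₗ[K] Module.End K W := b.constr K fun x => σ (rep x)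
  have hlb : ∀ x, lin (b x) = σ (rep x) := fun x => b.constr_basis K _ x
  have hres : ∀ F : Module.End K U, ∀ w : U, lin F (w : W) = ((F w : U) : W) := by
    intro F w
    conv_rhs => rw [← b.sum_repr F]
    conv_lhs => rw [← b.sum_repr F]
    simp only [map_sum, map_smul, hlb, LinearMap.sum_apply, LinearMap.smul_apply,
      Submodule.coe_sum, Submodule.coe_smul]
    refine Finset.sum_congr rfl fun x _ => ?_
    rw [Basis.mk_apply]
    rfl
  have hlinσ : ∀ g, lin (σU g) = σ g := fun g => by
    obtain ⟨c, hc⟩ := hsc g (rep (g : X)) (hrep _).symm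
    have : σU g = c • b (g : X) := by
      rw [Basis.mk_apply]
      exact LinearMap.ext fun w => Subtype.ext (LinearMap.congr_fun hc (w : W))
    rw [this, map_smul, hlb, hc]
  have hlmul : ∀ F F', lin (F * F') = lin F * lin F' := by
    intro F F'
    have hb : ∀ x y, lin (b x * b y) = lin (b x) * lin (b y) := fun x y => by
      rw [hlb, hlb, Basis.mk_apply, Basis.mk_apply,
        show eU x * eU y = σU (rep x * rep y) from (map_mul σU _ _).symm, hlinσ, map_mul]
    conv_lhs => rw [← b.sum_repr F, ← b.sum_repr F']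
    conv_rhs => rw [← b.sum_repr F, ← b.sum_repr F']
    simp only [Finset.sum_mul, Finset.mul_sum, map_sum, map_smul, smul_mul_assoc, mul_smul_comm, hb]
  have hl1 : lin 1 = 1 := by rw [← map_one σU, hlinσ, map_one]
  let lift : Module.End K U →ₐ[K] Module.End K W := AlgHom.ofLinearMap lin hl1 hlmul
  have hlinj : Function.Injective lift := fun F F' h => LinearMap.ext fun w => Subtype.ext (by
    rw [← hres, ← hres]
    exact LinearMap.congr_fun h (w : W))
  refine ⟨U, ⟨⟨lift, hlinj, b, hlb, fun g => ⟨σU g, hlinσ g⟩, ?_, ?_, inferInstance⟩⟩⟩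
  · intro D hD s hsum
    by_contra! hne
    obtain ⟨x0, hx0s, hx0⟩ := hne
    let Y := {x : X // x ∈ s ∧ D x ≠ 0}
    let e' : Y → Module.End K W := fun x => σ (rep x.1) * D x.1
    have hli : LinearIndependent K e' := by
      refine linearIndependent_of_eigen e' (fun x h => x.2.2 ?_)
        (fun g => (LinearMap.mulLeft K (σ g)).comp (LinearMap.mulRight K (σ g⁻¹)))
        (fun x g => χ g (rep x.1)) (fun x g => ?_) (fun x y h => Subtype.ext (hχinj _ _ h))
      · have h1 := congrArg (σ (rep x.1)⁻¹ * ·) h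
        simpa [e', ← mul_assoc, (hunit _).2] using h1
      · show σ g * (σ (rep x.1) * D x.1 * σ g⁻¹) = _
        rw [mul_assoc, (hD x.1 g⁻¹).eq, ← mul_assoc, ← mul_assoc, hswap, smul_mul_assoc,
          smul_mul_assoc, mul_assoc (σ (rep x.1)), (hunit g).1, mul_one]
    have h0 : ∑ x : Y, (1 : K) • e' x = 0 := by
      simp only [one_smul, e']
      rw [← Finset.sum_subtype (s.filter fun x => D x ≠ 0) (by simp) fun x => σ (rep x) * D x]
      refine (Finset.sum_filter_of_ne (p := fun x => D x ≠ 0)
        fun x _ h => mt (fun hD0 : D x = 0 => by rw [hD0, mul_zero]) h).trans ?_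
      rw [← hsum]
      exact Finset.sum_congr rfl fun x _ => congrArg (· * D x) (hlb x).symm
    exact one_ne_zero (Fintype.linearIndependent_iff.1 hli (fun _ => 1) h0 ⟨x0, hx0s, hx0⟩)
  · intro F hF
    refine exists_scalar (fun g => σU g) hirr fun g => hlinj ?_
    rw [map_mul, map_mul]
    show lin F * lin (σU g) = lin (σU g) * lin F
    rw [hlinσ]
    exact hF g

variable {σ : Q →* Module.End K W} {U : Submodule K W}

/-- A unit normalizing the image splits. -/
theorem MatrixModel.exists_split [IsAlgClosed K] [FiniteDimensional K W] [Finite Q]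
    (M : MatrixModel σ U) (φ : MulAut Q) (θ : (Module.End K W)ˣ)
    (hθ : ∀ g, (θ : Module.End K W) * σ g = σ (φ g) * (θ : Module.End K W)) {P : ℕ} (hP : 0 < P)
    (hθP : θ ^ P = 1) :
    ∃ (T : (Module.End K U)ˣ) (C : (Module.End K W)ˣ), T ^ P = 1 ∧ C ^ P = 1 ∧
      (∀ g, Commute (C : Module.End K W) (σ g)) ∧
      (θ : Module.End K W) = M.lift (T : Module.End K U) * (C : Module.End K W) := by
  classical
  haveI : Fintype (Q ⧸ commKer σ) := Fintype.ofFinite _
  haveI := M.nontrivial
  let γ : Module.End K W →ₐ[K] Module.End K W := AlgHom.ofLinearMap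
    ((LinearMap.mulLeft K (θ : Module.End K W)).comp
      (LinearMap.mulRight K ((θ⁻¹ : (Module.End K W)ˣ) : Module.End K W)))
    (by show (θ : Module.End K W) * (1 * _) = 1; rw [one_mul, Units.mul_inv])
    (fun f f' => by
      show (θ : Module.End K W) * ((f * f') * _) =
        (θ : Module.End K W) * (f * _) * ((θ : Module.End K W) * (f' * _))
      simp only [mul_assoc]
      rw [← mul_assoc ((θ⁻¹ : (Module.End K W)ˣ) : Module.End K W) (θ : Module.End K W),
        Units.inv_mul, one_mul])
  have hγσ : ∀ g, γ (σ g) = σ (φ g) := fun g => by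
    show (θ : Module.End K W) * (σ g * _) = _
    rw [← mul_assoc, hθ, mul_assoc, Units.mul_inv, mul_one]
  have hγr : ∀ F, γ (M.lift F) ∈ M.lift.range := by
    intro F
    rw [← M.basis.sum_repr F]
    simp only [map_sum, map_smul, M.basis_spec, hγσ]
    exact sum_mem fun x _ => Subalgebra.smul_mem _ (M.mem_range _) _
  let le := AlgEquiv.ofInjective M.lift M.injective
  let α : Module.End K U →ₐ[K] Module.End K U :=
    (le.symm.toAlgHom).comp ((γ.comp M.lift).codRestrict M.lift.range hγr)
  have hlα : ∀ F, M.lift (α F) = γ (M.lift F) := fun F => by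
    have := congrArg Subtype.val (le.apply_symm_apply ((γ.comp M.lift).codRestrict M.lift.range hγr F))
    exact this
  have hαinj : Function.Injective α := fun F F' h => M.injective (by
    have h1 := congrArg M.lift h
    rw [hlα, hlα] at h1
    have h2 := congrArg (fun f => ((θ⁻¹ : (Module.End K W)ˣ) : Module.End K W) * f *
      (θ : Module.End K W)) h1
    simpa [γ, ← mul_assoc] using h2)
  let αe : Module.End K U ≃ₐ[K] Module.End K U :=
    AlgEquiv.ofBijective α ⟨hαinj, (LinearMap.injective_iff_surjective (f := α.toLinearMap)).1 hαinj⟩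
  obtain ⟨T₀, hT₀⟩ := αe.eq_linearEquivConjAlgEquiv
  have hconj : ∀ F : Module.End K U, α F = T₀.toLinearMap * F * T₀.symm.toLinearMap := fun F => by
    have h := AlgEquiv.congr_fun hT₀ F
    exact h
  let T : (Module.End K U)ˣ := ⟨T₀.toLinearMap, T₀.symm.toLinearMap,
    LinearMap.ext fun w => T₀.apply_symm_apply w, LinearMap.ext fun w => T₀.symm_apply_apply w⟩
  let liftU : (Module.End K U)ˣ →* (Module.End K W)ˣ := Units.map M.lift.toMonoidHom
  have hγT : ∀ F, (θ : Module.End K W) * M.lift F =
      M.lift (T : Module.End K U) * M.lift F * M.lift ((T⁻¹ : _) : Module.End K U) *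
        (θ : Module.End K W) := fun F => by
    rw [← map_mul, ← map_mul, show (T : Module.End K U) * F * ((T⁻¹ : _) : Module.End K U) = α F from
      (hconj F).symm, hlα]
    show _ = (θ : Module.End K W) * (M.lift F * _) * (θ : Module.End K W)
    rw [mul_assoc, mul_assoc, Units.inv_mul, mul_one]
  let C : (Module.End K W)ˣ := (liftU T)⁻¹ * θ
  have hCl : ∀ F, Commute (C : Module.End K W) (M.lift F) := fun F => by
    show M.lift ((T⁻¹ : _) : Module.End K U) * (θ : Module.End K W) * M.lift F =
      M.lift F * (M.lift ((T⁻¹ : _) : Module.End K U) * (θ : Module.End K W))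
    rw [mul_assoc, hγT, ← mul_assoc, ← mul_assoc, ← mul_assoc, ← map_mul, ← map_mul, ← map_mul,
      Units.inv_mul, one_mul, ← mul_assoc, ← map_mul]
  have hCσ : ∀ g, Commute (C : Module.End K W) (σ g) := fun g => by
    obtain ⟨F, hF⟩ := M.mem_range g
    rw [← hF]; exact hCl F
  have hθC : θ = liftU T * C := by simp [C]
  have hcomm : Commute (liftU T) C := Units.ext (hCl _).symm
  obtain ⟨ω, hω⟩ : ∃ ω : K, ((T ^ P : (Module.End K U)ˣ) : Module.End K U) = ω • 1 := by
    refine M.commute_scalar _ fun g => ?_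
    have h1 : liftU (T ^ P) = (C ^ P)⁻¹ := by
      rw [map_pow]
      refine eq_inv_of_mul_eq_one_left ?_
      rw [← hcomm.mul_pow, ← hθC, hθP]
    have h2 : M.lift ((T ^ P : (Module.End K U)ˣ) : Module.End K U) =
        (((C ^ P)⁻¹ : (Module.End K W)ˣ) : Module.End K W) := congrArg Units.val h1
    rw [h2]
    refine Commute.units_inv_left ?_
    rw [Units.val_pow_eq_pow_val]
    exact (hCσ g).pow_left P
  have hω0 : ω ≠ 0 := fun h => by
    rw [h, zero_smul] at hω
    exact (T ^ P).ne_zero hω
  obtain ⟨c, hc⟩ := IsAlgClosed.exists_pow_nat_eq ω hP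
  have hc0 : c ≠ 0 := fun h => hω0 (by rw [← hc, h, zero_pow hP.ne'])
  let s : (Module.End K U)ˣ := Units.map (algebraMap K (Module.End K U)).toMonoidHom (Units.mk0 c hc0)
  let s' : (Module.End K W)ˣ := Units.map (algebraMap K (Module.End K W)).toMonoidHom (Units.mk0 c hc0)
  have hs : (s : Module.End K U) = c • 1 := Algebra.algebraMap_eq_smul_one c
  have hss : liftU s = s' := Units.ext (M.lift.commutes c)
  have hsc : Commute s T := Units.ext (Algebra.commutes c (T : Module.End K U))
  have hs' : ∀ f : (Module.End K W)ˣ, Commute s' f := fun f =>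
    Units.ext (Algebra.commutes c (f : Module.End K W))
  have hT1 : (s⁻¹ * T) ^ P = 1 := by
    rw [hsc.inv_left.mul_pow, inv_pow, inv_mul_eq_one]
    refine Units.ext ?_
    rw [Units.val_pow_eq_pow_val, hs, _root_.smul_pow, one_pow, hc, hω]
  refine ⟨s⁻¹ * T, s' * C, hT1, ?_, fun g => ?_, ?_⟩
  · have hc' : Commute (liftU (s⁻¹ * T)) (s' * C) := by
      rw [map_mul, map_inv, hss]
      refine Commute.mul_left ?_ ?_
      · exact ((hs' _).inv_left)
      · exact Commute.mul_right (hs' _).symm hcomm
    have h := congrArg (liftU ·) hT1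
    simp only [map_pow, map_one] at h
    have h2 : θ = liftU (s⁻¹ * T) * (s' * C) := by
      rw [map_mul, map_inv, hss, mul_assoc, ← mul_assoc (liftU T), ← (hs' (liftU T)).eq,
        mul_assoc, inv_mul_cancel_left]
      exact hθC
    rw [h2, hc'.mul_pow, h, one_mul] at hθP
    exact hθP
  · rw [Units.val_mul]
    exact Commute.mul_left (Algebra.commutes c (σ g)) (hCσ g)
  · have h2 : θ = liftU (s⁻¹ * T) * (s' * C) := by
      rw [map_mul, map_inv, hss, mul_assoc, ← mul_assoc (liftU T), ← (hs' (liftU T)).eq,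
        mul_assoc, inv_mul_cancel_left]
      exact hθC
    exact congrArg Units.val h2

end CfsgLib.FittingHeightPrime
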