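/-
An element of prime power order fixing the fixed space of an element of coprime prime order which
acts semiregularly on a group with scalar commutators.
-/
import Mathlib
import Cfsg.Agent.Lib.FittingHeightPrime.Tensor

set_option autoImplicit false
set_option linter.style.haveILetI false
set_option linter.unusedSectionVars false

open Module Polynomial
open scoped commutatorElement

namespace CfsgLib.FittingHeightPrime

open HallHigmanExc HallHigmanB

universe u v w

variable {K : Type u} [Field K]

/-- The averaging operator attached to the eigenvalue `μ` of `T`. -/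
noncomputable def eigProj {A : Type v} [Ring A] [Algebra K A] (r : ℕ) (μ : K) (T : A) : A :=
  (r : K)⁻¹ • ∑ i ∈ Finset.range r, μ⁻¹ ^ i • T ^ i

section Proj

variable {A : Type v} [Ring A] [Algebra K A] {r : ℕ}

theorem sum_smul_shift {c : K} {T : A} (hc : c ^ r = 1) (hT : T ^ r = 1) :
    ∑ i ∈ Finset.range r, c ^ (i + 1) • T ^ (i + 1) = ∑ i ∈ Finset.range r, c ^ i • T ^ i := by
  have h1 := Finset.sum_range_succ (fun i => c ^ i • T ^ i) r
  have h2 := Finset.sum_range_succ' (fun i => c ^ i • T ^ i) r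
  simp only [hc, hT, pow_zero] at h1 h2
  rw [h1] at h2
  exact (add_right_cancel h2).symm

theorem mul_eigProj {μ : K} (hμ : μ ^ r = 1) (hμ0 : μ ≠ 0) {T : A} (hT : T ^ r = 1) :
    T * eigProj r μ T = μ • eigProj r μ T := by
  unfold eigProj
  rw [mul_smul_comm, smul_comm μ, Finset.mul_sum]
  congr 1
  rw [← sum_smul_shift (c := μ⁻¹) (T := T) (by rw [inv_pow, hμ, inv_one]) hT, Finset.smul_sum]
  refine Finset.sum_congr rfl fun i _ => ?_
  rw [mul_smul_comm, ← pow_succ', smul_smul, pow_succ' μ⁻¹, ← mul_assoc, mul_inv_cancel₀ hμ0,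
    one_mul]

theorem eigProj_commute {μ : K} {T x : A} (h : Commute x T) : Commute x (eigProj r μ T) :=
  Commute.smul_right (Commute.sum_right _ _ _ fun i _ => (h.pow_right i).smul_right _) _

theorem sum_eigProj {ζ : K} (hζ : IsPrimitiveRoot ζ r) (hr1 : 1 < r) (hr : (r : K) ≠ 0) (T : A) :
    ∑ k ∈ Finset.range r, eigProj r (ζ ^ k) T = 1 := by
  simp only [eigProj, ← Finset.smul_sum]
  rw [Finset.sum_comm]
  simp only [← Finset.sum_smul]
  rw [Finset.sum_eq_single 0]
  · simp [smul_smul, inv_mul_cancel₀ hr]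
  · intro i hi hi0
    have hne : (ζ⁻¹ ^ i) ≠ 1 := fun h => hi0 (by
      rw [inv_pow, inv_eq_one] at h
      have := Nat.le_of_dvd (Nat.pos_of_ne_zero hi0) (hζ.dvd_of_pow_eq_one i h)
      exact absurd (Finset.mem_range.1 hi) (by omega))
    have h2 : ∑ k ∈ Finset.range r, (ζ ^ k)⁻¹ ^ i = 0 := by
      rw [show (fun k => (ζ ^ k)⁻¹ ^ i) = fun k => (ζ⁻¹ ^ i) ^ k from
        funext fun k => by rw [← inv_pow, ← pow_mul, ← pow_mul, mul_comm], geom_sum_eq hne,
        ← pow_mul, mul_comm, pow_mul, inv_pow, hζ.pow_eq_one, inv_one, one_pow, sub_self, zero_div]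
    rw [h2, zero_smul]
  · exact fun h => absurd (Finset.mem_range.2 (by omega)) h

theorem eigProj_mul {ζ : K} (hζ : IsPrimitiveRoot ζ r) (hr : 1 < r) {T : A} (hT : T ^ r = 1)
    {k l : ℕ} (hk : k < r) (hl : l < r) (hkl : k ≠ l) :
    eigProj r (ζ ^ k) T * eigProj r (ζ ^ l) T = 0 := by
  have hζ0 : ζ ≠ 0 := hζ.ne_zero (by omega)
  have hpow : ∀ k : ℕ, (ζ ^ k) ^ r = 1 := fun k => by
    rw [← pow_mul, mul_comm, pow_mul, hζ.pow_eq_one, one_pow]
  have h1 := mul_eigProj (hpow k) (pow_ne_zero k hζ0) hT
  have h2 := mul_eigProj (hpow l) (pow_ne_zero l hζ0) hT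
  have hc : Commute T (eigProj r (ζ ^ k) T) := eigProj_commute (Commute.refl T)
  have e1 : eigProj r (ζ ^ k) T * (T * eigProj r (ζ ^ l) T) =
      ζ ^ k • (eigProj r (ζ ^ k) T * eigProj r (ζ ^ l) T) := by
    rw [← mul_assoc, ← hc.eq, h1, smul_mul_assoc]
  rw [h2, mul_smul_comm] at e1
  by_contra hne
  exact hkl ((hζ.pow_inj hk hl) (smul_left_injective K hne e1).symm)

theorem eigProj_idem {ζ : K} (hζ : IsPrimitiveRoot ζ r) (hr : 1 < r) (hr0 : (r : K) ≠ 0) {T : A}
    (hT : T ^ r = 1) {k : ℕ} (hk : k < r) :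
    eigProj r (ζ ^ k) T * eigProj r (ζ ^ k) T = eigProj r (ζ ^ k) T := by
  conv_rhs => rw [← mul_one (eigProj r (ζ ^ k) T), ← sum_eigProj hζ hr hr0 T, Finset.mul_sum]
  rw [Finset.sum_eq_single k]
  · exact fun l hl hlk => eigProj_mul hζ hr hT hk (Finset.mem_range.1 hl) hlk.symm
  · exact fun h => absurd (Finset.mem_range.2 hk) h

end Proj

theorem minpoly_natDegree_le {U : Type v} [AddCommGroup U] [Module K U] [FiniteDimensional K U]
    (T : Module.End K U) : (minpoly K T).natDegree ≤ finrank K U :=
  (natDegree_le_of_dvd (LinearMap.minpoly_dvd_charpoly T) (LinearMap.charpoly_monic T).ne_zero).trans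
    (LinearMap.charpoly_natDegree T).le

/-- The commutant of an operator of prime power order. -/
theorem sq_finrank_le_commutant_of_pow_eq_one [IsAlgClosed K] {U : Type v} [AddCommGroup U]
    [Module K U] [FiniteDimensional K U] {p : ℕ} (hp : p.Prime) {T : Module.End K U} {k : ℕ}
    (hT : T ^ p ^ k = 1) :
    finrank K U ^ 2 ≤ (minpoly K T).natDegree * finrank K (LinearMap.ker
      (LinearMap.mulLeft K T - LinearMap.mulRight K T)) := by
  classical
  by_cases hU : Nontrivial U
  swap
  · rw [not_nontrivial_iff_subsingleton] at hU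
    simp [Module.finrank_zero_of_subsingleton (R := K) (M := U)]
  by_cases hpK : (p : K) = 0
  · haveI : Fact p.Prime := ⟨hp⟩
    haveI : CharP K p := (CharP.charP_iff_prime_eq_zero hp).2 hpK
    haveI : CharP (Module.End K U) p :=
      charP_of_injective_algebraMap (algebraMap K _).injective p
    have hnil : (T - 1) ^ p ^ k = 0 := by
      rw [sub_pow_char_pow_of_commute (p := p) (n := k) (h := Commute.one_right T), hT, one_pow,
        sub_self]
    have hdvd : minpoly K T ∣ (Polynomial.X - Polynomial.C (1 : K)) ^ p ^ k :=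
      minpoly.dvd K T (by simp [hnil])
    obtain ⟨j, -, hj⟩ := (dvd_prime_pow (prime_X_sub_C (1 : K)) (p ^ k)).1 hdvd
    have hmin := eq_of_monic_of_associated (minpoly.monic (IsIntegral.of_finite K T))
      ((monic_X_sub_C (1 : K)).pow j) hj
    have hjs : (T - 1) ^ j = 0 := by
      have := minpoly.aeval K T
      rw [hmin] at this
      simpa using this
    have h := sq_finrank_le_commutant hjs
    have e : LinearMap.mulLeft K (T - 1) - LinearMap.mulRight K (T - 1) =
        LinearMap.mulLeft K T - LinearMap.mulRight K T := LinearMap.ext fun F => by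
      simp [sub_mul, mul_sub]
    rw [e] at h
    rw [show (minpoly K T).natDegree = j by rw [hmin, natDegree_pow, natDegree_X_sub_C, mul_one]]
    exact h
  · have hPK : ((p ^ k : ℕ) : K) ≠ 0 := by rw [Nat.cast_pow]; exact pow_ne_zero _ hpK
    have hss : T.IsSemisimple := Module.End.isSemisimple_of_squarefree_aeval_eq_zero
      (separable_X_pow_sub_C (1 : K) hPK one_ne_zero).squarefree (by simp [hT])
    refine commutant_bound_semisimple hss fun S hS => ?_
    refine le_trans ?_ (card_roots' (minpoly K T))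
    refine le_trans (Finset.card_le_card (t := (minpoly K T).roots.toFinset) fun μ hμ => ?_)
      (Multiset.toFinset_card_le _)
    rw [Multiset.mem_toFinset, mem_roots (minpoly.ne_zero (IsIntegral.of_finite K T))]
    exact Module.End.hasEigenvalue_iff_isRoot.1 (hS μ hμ)

theorem sq_sum_le {ι : Type*} (s : Finset ι) (m a b : ι → ℕ)
    (h : ∀ i ∈ s, m i ^ 2 ≤ a i * b i) :
    (∑ i ∈ s, m i) ^ 2 ≤ (∑ i ∈ s, a i) * ∑ i ∈ s, b i := by
  classical
  induction s using Finset.induction_on with
  | empty => simp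
  | insert i t hi ih =>
    rw [Finset.sum_insert hi, Finset.sum_insert hi, Finset.sum_insert hi]
    have h1 := h i (Finset.mem_insert_self i t)
    have h2 := ih fun j hj => h j (Finset.mem_insert_of_mem hj)
    set A := ∑ j ∈ t, a j
    set B := ∑ j ∈ t, b j
    set M := ∑ j ∈ t, m j
    have h3 : (m i * M) ^ 2 ≤ (a i * B) * (A * b i) := by
      calc (m i * M) ^ 2 = m i ^ 2 * M ^ 2 := mul_pow _ _ _
        _ ≤ (a i * b i) * (A * B) := Nat.mul_le_mul h1 h2
        _ = _ := by ring
    have h4 : 2 * (m i * M) ≤ a i * B + A * b i := by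
      refine (Nat.pow_le_pow_iff_left two_ne_zero).1 ?_
      have h5 : 4 * ((a i * B) * (A * b i)) ≤ (a i * B + A * b i) ^ 2 := by
        zify
        nlinarith [sq_nonneg ((a i * B : ℤ) - A * b i)]
      calc (2 * (m i * M)) ^ 2 = 4 * (m i * M) ^ 2 := by ring
        _ ≤ 4 * ((a i * B) * (A * b i)) := Nat.mul_le_mul_left 4 h3
        _ ≤ _ := h5
    nlinarith

/-- Commuting operators, one semisimple of order `r`: their common commutant is large. -/
theorem exists_commutant_bound [IsAlgClosed K] {U : Type v} [AddCommGroup U] [Module K U]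
    [FiniteDimensional K U] {r q b : ℕ} (hr : 1 < r) (hr0 : (r : K) ≠ 0) (hq : q.Prime) {ζ : K}
    (hζ : IsPrimitiveRoot ζ r) {T E : Module.End K U} (hTE : Commute E T) (hT : T ^ r = 1)
    (hE : E ^ q ^ b = 1) (S : Finset ℕ)
    (hspec : ∀ k ∈ S, ∃ κ : K, E * eigProj r (ζ ^ k) T = κ • eigProj r (ζ ^ k) T)
    (hSr : S ⊆ Finset.range r) :
    ∃ t : ℕ, t ≤ finrank K U ∧ t + S.card * q ^ b ≤ r * q ^ b + S.card ∧
      finrank K U ^ 2 ≤ t * finrank K (LinearMap.ker
        (LinearMap.mulLeft K (T * E) - LinearMap.mulRight K (T * E))) := by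
  classical
  have hζ0 : ζ ≠ 0 := hζ.ne_zero (by omega)
  let P : Fin r → Module.End K U := fun k => eigProj r (ζ ^ (k : ℕ)) T
  have hPT : ∀ k, T * P k = (ζ ^ (k : ℕ)) • P k := fun k => mul_eigProj
    (by rw [← pow_mul, mul_comm, pow_mul, hζ.pow_eq_one, one_pow]) (pow_ne_zero _ hζ0) hT
  have hPC : ∀ k, Commute T (P k) := fun k => eigProj_commute (Commute.refl T)
  have hPE : ∀ k, Commute E (P k) := fun k => eigProj_commute hTE
  have hPP : ∀ k l, P k * P l = if k = l then P l else 0 := fun k l => by
    split_ifs with h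
    · subst h; exact eigProj_idem hζ hr hr0 hT k.2
    · exact eigProj_mul hζ hr hT k.2 l.2 fun he => h (Fin.ext he)
  have hPsum : ∑ k, P k = 1 := by
    rw [← sum_eigProj hζ hr hr0 T]
    exact (Finset.sum_range fun k => eigProj r (ζ ^ k) T).symm
  let Uk : Fin r → Submodule K U := fun k => LinearMap.range (P k)
  let inc : ∀ k, Uk k →ₗ[K] U := fun k => (Uk k).subtype
  let pr : ∀ k, U →ₗ[K] Uk k := fun k => (P k).rangeRestrict
  have hfix : ∀ k (u : Uk k), P k (u : U) = u := by
    rintro k ⟨_, v, rfl⟩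
    show (P k * P k) v = P k v
    rw [hPP, if_pos rfl]
  have hzero : ∀ k l, k ≠ l → ∀ u : Uk l, P k (u : U) = 0 := by
    rintro k l hkl ⟨_, v, rfl⟩
    show (P k * P l) v = 0
    rw [hPP, if_neg hkl, LinearMap.zero_apply]
  have hTu : ∀ k (u : Uk k), T (u : U) = (ζ ^ (k : ℕ)) • (u : U) := by
    rintro k ⟨_, v, rfl⟩
    exact LinearMap.congr_fun (hPT k) v
  let Ek : ∀ k, Module.End K (Uk k) := fun k => E.restrict (p := Uk k) (q := Uk k) (by
    rintro _ ⟨v, rfl⟩
    exact ⟨E v, (LinearMap.congr_fun (hPE k).eq v).symm⟩)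
  have hEk : ∀ k (u : Uk k), ((Ek k u : Uk k) : U) = E (u : U) := fun k u => rfl
  have hEkpow : ∀ k, Ek k ^ q ^ b = 1 := fun k => by
    refine LinearMap.ext fun u => Subtype.ext ?_
    have : ∀ n, (((Ek k ^ n) u : Uk k) : U) = (E ^ n) (u : U) := fun n => by
      induction n with
      | zero => rfl
      | succ n ih => rw [pow_succ', pow_succ', Module.End.mul_apply, hEk, ih]; rfl
    rw [this, hE]; rfl
  let s : Fin r → ℕ := fun k => (minpoly K (Ek k)).natDegree
  let D : Fin r → ℕ := fun k => finrank K (LinearMap.ker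
    (LinearMap.mulLeft K (Ek k) - LinearMap.mulRight K (Ek k)))
  have hdim : finrank K U = ∑ k, finrank K (Uk k) := by
    rw [← Module.finrank_pi_fintype K]
    refine LinearEquiv.finrank_eq (LinearEquiv.ofBijective (LinearMap.pi pr) ⟨?_, ?_⟩)
    · intro v w h
      have h' : ∀ k, P k v = P k w := fun k => congrArg Subtype.val (congrFun h k)
      rw [← Module.End.one_apply (R := K) v, ← Module.End.one_apply (R := K) w, ← hPsum,
        LinearMap.sum_apply, LinearMap.sum_apply]
      exact Finset.sum_congr rfl fun k _ => h' k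
    · intro f
      refine ⟨∑ k, (f k : U), funext fun l => Subtype.ext ?_⟩
      show P l (∑ k, (f k : U)) = f l
      rw [map_sum, Finset.sum_eq_single l]
      · exact hfix l (f l)
      · exact fun k _ hkl => hzero l k hkl.symm (f k)
      · exact fun h => absurd (Finset.mem_univ l) h
  let Φ : (∀ k, LinearMap.ker (LinearMap.mulLeft K (Ek k) - LinearMap.mulRight K (Ek k))) →ₗ[K]
      Module.End K U :=
    { toFun := fun F => ∑ k, (inc k).comp ((F k : Module.End K (Uk k)).comp (pr k))
      map_add' := fun F G => by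
        simp [LinearMap.add_comp, LinearMap.comp_add, Finset.sum_add_distrib]
      map_smul' := fun c F => by
        simp [LinearMap.smul_comp, LinearMap.comp_smul, Finset.smul_sum] }
  have hΦ : ∀ F v, Φ F v = ∑ k, (((F k : Module.End K (Uk k)) (pr k v) : Uk k) : U) := fun F v => by
    show (∑ k, (inc k).comp ((F k : Module.End K (Uk k)).comp (pr k))) v = _
    rw [LinearMap.sum_apply]
    rfl
  have hrange : LinearMap.range Φ ≤
      LinearMap.ker (LinearMap.mulLeft K (T * E) - LinearMap.mulRight K (T * E)) := by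
    rintro _ ⟨F, rfl⟩
    rw [LinearMap.mem_ker, LinearMap.sub_apply, sub_eq_zero, LinearMap.mulLeft_apply,
      LinearMap.mulRight_apply]
    have hcT : Commute (Φ F) T := by
      refine LinearMap.ext fun v => ?_
      rw [Module.End.mul_apply, Module.End.mul_apply, hΦ, hΦ, map_sum]
      refine Finset.sum_congr rfl fun k _ => ?_
      have h1 : pr k (T v) = (ζ ^ (k : ℕ)) • pr k v := Subtype.ext (by
        show P k (T v) = ζ ^ (k : ℕ) • P k v
        rw [← Module.End.mul_apply (P k) T, ← (hPC k).eq, hPT, LinearMap.smul_apply])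
      rw [h1, map_smul, Submodule.coe_smul, hTu]
    have hcE : Commute (Φ F) E := by
      refine LinearMap.ext fun v => ?_
      rw [Module.End.mul_apply, Module.End.mul_apply, hΦ, hΦ, map_sum]
      refine Finset.sum_congr rfl fun k _ => ?_
      have h1 : pr k (E v) = Ek k (pr k v) := Subtype.ext (by
        show P k (E v) = E (P k v)
        rw [← Module.End.mul_apply (P k) E, ← (hPE k).eq, Module.End.mul_apply])
      have h2 : Ek k * (F k : Module.End K (Uk k)) = (F k : Module.End K (Uk k)) * Ek k := by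
        have h := (F k).2
        rw [LinearMap.mem_ker, LinearMap.sub_apply, sub_eq_zero] at h
        exact h
      rw [h1, ← Module.End.mul_apply (F k : Module.End K (Uk k)) (Ek k), ← h2,
        Module.End.mul_apply, hEk]
    exact (hcT.mul_right hcE).eq.symm
  have hinj : Function.Injective Φ := by
    intro F G h
    funext l
    refine Subtype.ext (LinearMap.ext fun u => Subtype.ext ?_)
    have h' := LinearMap.congr_fun h (u : U)
    rw [hΦ, hΦ, Finset.sum_eq_single l, Finset.sum_eq_single l] at h'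
    · rwa [show pr l (u : U) = u from Subtype.ext (hfix l u)] at h'
    all_goals first
      | (intro k _ hkl
         rw [show pr k (u : U) = 0 from Subtype.ext (hzero k l hkl u), map_zero, Submodule.coe_zero])
      | exact fun hh => absurd (Finset.mem_univ l) hh
  have hD : ∑ k, D k ≤ finrank K (LinearMap.ker
      (LinearMap.mulLeft K (T * E) - LinearMap.mulRight K (T * E))) := by
    rw [← Module.finrank_pi_fintype K]
    exact (LinearMap.finrank_range_of_inj hinj).symm.le.trans (Submodule.finrank_mono hrange)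
  have hs1 : ∀ k, s k ≤ q ^ b := fun k => by
    refine (natDegree_le_of_dvd (minpoly.dvd K (Ek k) (p := X ^ q ^ b - C 1) (by simp [hEkpow k]))
      (X_pow_sub_C_ne_zero (pow_pos hq.pos b) _)).trans ?_
    rw [natDegree_X_pow_sub_C]
  have hs2 : ∀ k : Fin r, (k : ℕ) ∈ S → s k ≤ 1 := fun k hk => by
    obtain ⟨κ, hκ⟩ := hspec _ hk
    have : aeval (Ek k) (X - C κ) = 0 := by
      rw [map_sub, aeval_X, aeval_C]
      refine LinearMap.ext fun u => Subtype.ext ?_
      rw [LinearMap.sub_apply, Submodule.coe_sub, hEk, Module.algebraMap_end_apply,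
        Submodule.coe_smul, LinearMap.zero_apply, Submodule.coe_zero, sub_eq_zero]
      have h := LinearMap.congr_fun hκ (u : U)
      rw [Module.End.mul_apply, LinearMap.smul_apply] at h
      rwa [show eigProj r (ζ ^ (k : ℕ)) T (u : U) = u from hfix k u] at h
    refine (natDegree_le_of_dvd (minpoly.dvd K (Ek k) this) (X_sub_C_ne_zero κ)).trans ?_
    rw [natDegree_X_sub_C]
  refine ⟨∑ k, s k, ?_, ?_, ?_⟩
  · rw [hdim]
    exact Finset.sum_le_sum fun k _ => minpoly_natDegree_le (Ek k)
  · calc (∑ k, s k) + S.card * q ^ b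
        ≤ (∑ k : Fin r, if (k : ℕ) ∈ S then 1 else q ^ b) + S.card * q ^ b :=
          Nat.add_le_add_right (Finset.sum_le_sum fun k _ => by
            split_ifs with h
            · exact hs2 k h
            · exact hs1 k) _
      _ ≤ r * q ^ b + S.card := by
        rw [Fin.sum_univ_eq_sum_range (fun k => if k ∈ S then 1 else q ^ b) r, Finset.sum_ite,
          Finset.sum_const, Finset.sum_const, smul_eq_mul, smul_eq_mul, mul_one,
          Finset.filter_mem_eq_inter, Finset.inter_eq_right.2 hSr, add_assoc, ← add_mul]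
        have : (Finset.filter (fun k => ¬ k ∈ S) (Finset.range r)).card + S.card = r := by
          rw [show Finset.filter (fun k => ¬ k ∈ S) (Finset.range r) = Finset.range r \ S by
            ext k; simp, Finset.card_sdiff_of_subset hSr, Finset.card_range]
          have := Finset.card_le_card hSr
          rw [Finset.card_range] at this
          omega
        rw [this]
        omega
  · refine le_trans ?_ (Nat.mul_le_mul_left _ hD)
    rw [hdim]
    exact sq_sum_le _ _ _ _ fun k _ => sq_finrank_le_commutant_of_pow_eq_one hq (hEkpow k)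

variable {W : Type v} [AddCommGroup W] [Module K W] {Q : Type w} [Group Q]

/-- If `η` fixes the fixed space of `θ` and `θη` acts semiregularly, then `η` has order at most
two and everything centralizing the image centralizes `θ`. -/
theorem eigen_count [IsAlgClosed K] [FiniteDimensional K W] [Nontrivial W] [Finite Q]
    (σ : Q →* Module.End K W)
    (hcomm : ∀ a b : Q, ∃ c : K, σ (a * b * a⁻¹ * b⁻¹) = c • (1 : Module.End K W))
    (hscal : ∀ g ∈ commKer σ, ∃ c : K, σ g = c • (1 : Module.End K W))
    (hnab : ∃ a b : Q, ¬ Commute (σ a) (σ b))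
    {r q b : ℕ} [Fact r.Prime] [Fact q.Prime] (hrq : r ≠ q) (hr0 : (r : K) ≠ 0) (hb : 1 ≤ b)
    (φs φe : MulAut Q) (θ η : (Module.End K W)ˣ)
    (hθ : ∀ g, (θ : Module.End K W) * σ g = σ (φs g) * (θ : Module.End K W))
    (hη : ∀ g, (η : Module.End K W) * σ g = σ (φe g) * (η : Module.End K W))
    (hθη : Commute θ η) (hθr : θ ^ r = 1) (hηq : η ^ q ^ b = 1)
    (hfree : ∀ g : Q, ∀ i, 0 < i → i < r * q ^ b →
      g⁻¹ * ((φs * φe) ^ i) g ∈ commKer σ → g ∈ commKer σ)
    (hkill : (η : Module.End K W) * ∑ i ∈ Finset.range r, (θ : Module.End K W) ^ i =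
      ∑ i ∈ Finset.range r, (θ : Module.End K W) ^ i) :
    q ^ b = 2 ∧ ∀ f : Module.End K W, (∀ g, Commute f (σ g)) →
      Commute f (θ : Module.End K W) := by
  classical
  have hr : 1 < r := (Fact.out : r.Prime).one_lt
  have hq : q.Prime := Fact.out
  obtain ⟨U, ⟨M⟩⟩ := exists_matrixModel σ hcomm hscal
  haveI := M.nontrivial
  haveI : Fintype (Q ⧸ commKer σ) := Fintype.ofFinite _
  obtain ⟨T, C, hT, hC, hCσ, hθT⟩ := M.exists_split φs θ hθ (by omega) hθr
  obtain ⟨E, C', hE, hC', hC'σ, hηE⟩ := M.exists_split φe η hη (pow_pos hq.pos b) hηq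
  have hlc : ∀ f : Module.End K W, (∀ g, Commute f (σ g)) → ∀ F, Commute f (M.lift F) := by
    intro f hf F
    rw [← M.basis.sum_repr F]
    simp only [map_sum, map_smul, M.basis_spec]
    exact Commute.sum_right _ _ _ fun x _ => (hf _).smul_right _
  -- `T` and `E` commute
  let liftU : (Module.End K U)ˣ →* (Module.End K W)ˣ := Units.map M.lift.toMonoidHom
  have hθT' : θ = liftU T * C := Units.ext hθT
  have hηE' : η = liftU E * C' := Units.ext hηE
  have hCl : ∀ X, Commute C (liftU X) := fun X => Units.ext (hlc _ hCσ (X : Module.End K U))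
  have hC'l : ∀ X, Commute C' (liftU X) := fun X => Units.ext (hlc _ hC'σ (X : Module.End K U))
  have h12 : liftU (T * E) * (C * C') = liftU (E * T) * (C' * C) := by
    have h := hθη.eq
    rw [hθT', hηE'] at h
    rw [map_mul, map_mul]
    calc liftU T * liftU E * (C * C') = liftU T * (liftU E * C) * C' := by simp only [mul_assoc]
      _ = liftU T * C * (liftU E * C') := by rw [← (hCl E).eq]; simp only [mul_assoc]
      _ = liftU E * C' * (liftU T * C) := h
      _ = liftU E * (C' * liftU T) * C := by simp only [mul_assoc]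
      _ = _ := by rw [(hC'l T).eq]; simp only [mul_assoc]
  set Z := (E * T)⁻¹ * (T * E) with hZ
  obtain ⟨ε, hε⟩ : ∃ ε : K, (Z : Module.End K U) = ε • 1 := by
    refine M.commute_scalar _ fun g => ?_
    have hZl : liftU Z = (C' * C) * (C * C')⁻¹ := by
      rw [hZ, map_mul, map_inv, eq_mul_inv_iff_mul_eq, mul_assoc, h12, inv_mul_cancel_left]
    rw [show M.lift (Z : Module.End K U) = ((liftU Z : _) : Module.End K W) from rfl, hZl]
    rw [Units.val_mul, Units.val_mul]
    refine ((hC'σ g).mul_left (hCσ g)).mul_left (Commute.units_inv_left ?_)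
    rw [Units.val_mul]
    exact (hCσ g).mul_left (hC'σ g)
  have hZc : ∀ X : (Module.End K U)ˣ, Commute Z X := fun X => Units.ext (by
    show (Z : Module.End K U) * (X : Module.End K U) = (X : Module.End K U) * (Z : Module.End K U)
    rw [hε, smul_mul_assoc, one_mul, mul_smul_comm, mul_one])
  have hTE : Commute T E := by
    have hconj : E⁻¹ * T * E = T * Z := by rw [hZ]; group
    have h1 : Z ^ r = 1 := by
      have := congrArg (· ^ r) hconj
      have h3 : (E⁻¹ * T * E) ^ r = E⁻¹ * T ^ r * E := by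
        simpa using conj_pow (a := E⁻¹) (b := T) (i := r)
      rw [h3, hT, mul_one, inv_mul_cancel, (hZc T).symm.mul_pow, hT, one_mul] at this
      exact this.symm
    have hconj2 : T * E * T⁻¹ = E * Z := by
      calc T * E * T⁻¹ = E * (T * Z) * T⁻¹ := by rw [← hconj]; group
        _ = E * (Z * T) * T⁻¹ := by rw [(hZc T).eq]
        _ = E * Z := by group
    have h2 : Z ^ q ^ b = 1 := by
      have := congrArg (· ^ q ^ b) hconj2
      simp only [conj_pow, hE, mul_one, mul_inv_cancel, (hZc E).symm.mul_pow, one_mul] at this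
      exact this.symm
    have hZ1 : Z = 1 := orderOf_eq_one_iff.1 (Nat.eq_one_of_dvd_coprimes
      (((Nat.coprime_primes (Fact.out : r.Prime) hq).2 hrq).pow_right b)
      (orderOf_dvd_of_pow_eq_one h1) (orderOf_dvd_of_pow_eq_one h2))
    rw [hZ1, mul_one] at hconj
    calc T * E = E * (E⁻¹ * T * E) := by group
      _ = E * T := by rw [hconj]
  haveI : NeZero ((r : ℕ) : K) := ⟨hr0⟩
  haveI : NeZero r := ⟨by omega⟩
  obtain ⟨ζ, hζ⟩ := HasEnoughRootsOfUnity.exists_primitiveRoot K r
  have hζ0 : ζ ≠ 0 := hζ.ne_zero (by omega)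
  have hμr : ∀ k : ℕ, (ζ ^ k) ^ r = 1 := fun k => by
    rw [← pow_mul, mul_comm, pow_mul, hζ.pow_eq_one, one_pow]
  have hCr : (C : Module.End K W) ^ r = 1 := by rw [← Units.val_pow_eq_pow_val, hC, Units.val_one]
  have hTr : (T : Module.End K U) ^ r = 1 := by rw [← Units.val_pow_eq_pow_val, hT, Units.val_one]
  have hEq : (E : Module.End K U) ^ q ^ b = 1 := by
    rw [← Units.val_pow_eq_pow_val, hE, Units.val_one]
  -- the eigenvalues of `C`
  let Ac : Finset ℕ := (Finset.range r).filter fun k =>
    eigProj r (ζ ^ k) (C : Module.End K W) ≠ 0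
  have hopp : ∀ k, k < r → ∃ k' < r, ζ ^ k' = (ζ ^ k)⁻¹ := fun k hk =>
    hζ.eq_pow_of_pow_eq_one (by rw [inv_pow, hμr, inv_one])
  choose! opp hopp1 hopp2 using hopp
  have hspec : ∀ k ∈ Ac, ∃ κ : K, (E : Module.End K U) * eigProj r (ζ ^ opp k) (T : Module.End K U) =
      κ • eigProj r (ζ ^ opp k) (T : Module.End K U) := by
    intro k hk
    obtain ⟨hk1, hk2⟩ := Finset.mem_filter.1 hk
    set D := eigProj r (ζ ^ k) (C : Module.End K W) with hDdef
    set Pu := eigProj r (ζ ^ opp k) (T : Module.End K U) with hPu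
    have hCD : ∀ i : ℕ, (C : Module.End K W) ^ i * D = (ζ ^ k) ^ i • D := by
      intro i
      induction i with
      | zero => rw [pow_zero, pow_zero, one_mul, one_smul]
      | succ i ih =>
        rw [pow_succ, mul_assoc, mul_eigProj (hμr k) (pow_ne_zero _ hζ0) hCr, mul_smul_comm, ih,
          smul_smul, pow_succ']
    have hsum : (∑ i ∈ Finset.range r, (θ : Module.End K W) ^ i) * D =
        M.lift ((r : K) • Pu) * D := by
      rw [hPu, eigProj, smul_smul, mul_inv_cancel₀ hr0, one_smul, map_sum, Finset.sum_mul,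
        Finset.sum_mul]
      refine Finset.sum_congr rfl fun i _ => ?_
      rw [hθT, ((hlc _ hCσ (T : Module.End K U)).symm.mul_pow i), mul_assoc, hCD, map_smul,
        map_pow, hopp2 k (Finset.mem_range.1 hk1), inv_inv, mul_smul_comm, smul_mul_assoc]
    by_cases hPu0 : (r : K) • Pu = 0
    · exact ⟨0, by rw [(smul_eq_zero.1 hPu0).resolve_left hr0, mul_zero, zero_smul]⟩
    set A := (E : Module.End K U) * ((r : K) • Pu) with hA
    set B := (r : K) • Pu with hB
    have hkey : M.lift A * ((C' : Module.End K W) * D) = M.lift B * D := by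
      rw [← hsum, hA, map_mul, ← hkill, mul_assoc (η : Module.End K W), hsum, hηE]
      rw [mul_assoc (M.lift (E : Module.End K U)) (M.lift B), ← mul_assoc (M.lift B),
        ← (hlc _ hC'σ B).eq]
      simp only [mul_assoc]
    have hD' : ∀ g, Commute ((C' : Module.End K W) * D) (σ g) := fun g =>
      (hC'σ g).mul_left (eigProj_commute (hCσ g).symm).symm
    have hD'' : ∀ g, Commute D (σ g) := fun g => (eigProj_commute (hCσ g).symm).symm
    have hcoef : ∀ x, M.basis.repr A x • ((C' : Module.End K W) * D) = M.basis.repr B x • D := by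
      intro x
      rw [← sub_eq_zero]
      refine M.indep (fun x => M.basis.repr A x • ((C' : Module.End K W) * D) -
        M.basis.repr B x • D) (fun x g => ((hD' g).smul_left _).sub_left ((hD'' g).smul_left _))
        Finset.univ ?_ x (Finset.mem_univ x)
      have hexp : ∀ (F : Module.End K U) (Y : Module.End K W),
          ∑ x, M.lift (M.basis x) * (M.basis.repr F x • Y) = M.lift F * Y := fun F Y => by
        simp only [mul_smul_comm, ← smul_mul_assoc, ← Finset.sum_mul, ← map_smul, ← map_sum,
          M.basis.sum_repr]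
      simp only [mul_sub, Finset.sum_sub_distrib, hexp]
      exact sub_eq_zero.2 hkey
    obtain ⟨x, hx⟩ : ∃ x, M.basis.repr B x ≠ 0 := by
      by_contra! hall
      exact hPu0 (M.basis.repr.injective (by rw [map_zero]; exact Finsupp.ext hall))
    have ha : M.basis.repr A x ≠ 0 := fun h0 => by
      have := hcoef x
      rw [h0, zero_smul] at this
      exact hk2 ((smul_eq_zero.1 this.symm).resolve_left hx)
    set c := (M.basis.repr A x)⁻¹ * M.basis.repr B x
    have hC'D : (C' : Module.End K W) * D = c • D := by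
      rw [show c • D = (M.basis.repr A x)⁻¹ • (M.basis.repr B x • D) from (smul_smul _ _ _).symm,
        ← hcoef x, smul_smul, inv_mul_cancel₀ ha, one_smul]
    have hc0 : c ≠ 0 := mul_ne_zero (inv_ne_zero ha) hx
    have hrep : c • A = B := by
      refine M.basis.repr.injective (Finsupp.ext fun y => ?_)
      have h := hcoef y
      rw [hC'D, smul_smul] at h
      rw [map_smul, Finsupp.smul_apply, smul_eq_mul, mul_comm]
      exact smul_left_injective K hk2 h
    refine ⟨c⁻¹, ?_⟩
    refine smul_right_injective _ hr0 ?_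
    show (r : K) • ((E : Module.End K U) * Pu) = (r : K) • (c⁻¹ • Pu)
    rw [← mul_smul_comm, smul_comm, ← hB, ← hA]
    calc A = c⁻¹ • (c • A) := by rw [smul_smul, inv_mul_cancel₀ hc0, one_smul]
      _ = c⁻¹ • B := by rw [hrep]
  let S := Ac.image opp
  have hopp_inj : Set.InjOn opp Ac := fun k hk l hl h => by
    have hk' := Finset.mem_range.1 (Finset.mem_filter.1 hk).1
    have hl' := Finset.mem_range.1 (Finset.mem_filter.1 hl).1
    refine hζ.pow_inj hk' hl' (inv_injective ?_)
    rw [← hopp2 k hk', ← hopp2 l hl', h]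
  have hScard : S.card = Ac.card := Finset.card_image_of_injOn hopp_inj
  have hTE' : Commute (E : Module.End K U) (T : Module.End K U) := congrArg Units.val hTE.symm.eq
  obtain ⟨t, htd, htS, hbound⟩ := exists_commutant_bound (S := S) hr hr0 hq hζ hTE' hTr hEq
    (fun k hk => by
      obtain ⟨k', hk', rfl⟩ := Finset.mem_image.1 hk
      exact hspec k' hk')
    (fun k hk => by
      obtain ⟨k', hk', rfl⟩ := Finset.mem_image.1 hk
      exact Finset.mem_range.2 (hopp1 k' (Finset.mem_range.1 (Finset.mem_filter.1 hk').1)))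
  have hAc : 1 ≤ Ac.card := by
    by_contra h0
    have h1 : Ac = ∅ := Finset.card_eq_zero.1 (by omega)
    have h2 := sum_eigProj hζ hr hr0 (C : Module.End K W)
    rw [Finset.sum_eq_zero fun k hk => by
      by_contra hne
      exact Finset.notMem_empty k (h1 ▸ Finset.mem_filter.2 ⟨hk, hne⟩)] at h2
    exact zero_ne_one h2
  -- the orbit count
  set d := finrank K U
  set P := r * q ^ b with hPdef
  set τ := T * E with hτ
  let φ := φs * φe
  have hθη' : ∀ g, (θ : Module.End K W) * (η : Module.End K W) * σ g =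
      σ (φ g) * ((θ : Module.End K W) * (η : Module.End K W)) := fun g => by
    rw [mul_assoc, hη, ← mul_assoc, hθ, mul_assoc]; rfl
  have hlift : (θ : Module.End K W) * (η : Module.End K W) =
      M.lift (τ : Module.End K U) * ((C : Module.End K W) * (C' : Module.End K W)) := by
    rw [hθT, hηE, hτ, Units.val_mul, map_mul, mul_assoc (M.lift (T : Module.End K U)),
      ← mul_assoc (C : Module.End K W), (hlc _ hCσ (E : Module.End K U)).eq]
    simp only [mul_assoc]
  let L : Module.End K U →ₗ[K] Module.End K U :=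
    (LinearMap.mulLeft K (τ : Module.End K U)).comp
      (LinearMap.mulRight K ((τ⁻¹ : _) : Module.End K U))
  have hLσ : ∀ F, M.lift (L F) * ((θ : Module.End K W) * (η : Module.End K W)) =
      (θ : Module.End K W) * (η : Module.End K W) * M.lift F := by
    intro F
    have hc : Commute ((C : Module.End K W) * (C' : Module.End K W)) (M.lift F) :=
      (hlc _ hCσ F).mul_left (hlc _ hC'σ F)
    show M.lift ((τ : Module.End K U) * (F * ((τ⁻¹ : _) : Module.End K U))) * _ = _
    rw [hlift, map_mul, map_mul, mul_assoc (M.lift (τ : Module.End K U)),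
      ← mul_assoc (M.lift F * M.lift _), mul_assoc (M.lift F), ← map_mul, Units.inv_mul, map_one,
      mul_one, mul_assoc (M.lift (τ : Module.End K U)), hc.eq]
  have hsc : ∀ a b : Q, (a : Q ⧸ commKer σ) = (b : Q ⧸ commKer σ) → ∃ c : K, σ a = c • σ b := by
    intro a b hab
    obtain ⟨c, hc⟩ := hscal _ (QuotientGroup.eq.1 hab.symm)
    exact ⟨c, by rw [show a = b * (b⁻¹ * a) by group, map_mul, hc, mul_smul_comm, mul_one]⟩
  haveI := commKer_normal hcomm
  have hne0 : ∀ a : Q, σ a ≠ 0 := fun a h => by
    have h1 : σ a * σ a⁻¹ = 1 := by rw [← map_mul, mul_inv_cancel, map_one]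
    rw [h, zero_mul] at h1
    exact zero_ne_one h1
  have hφS : commKer σ ≤ (commKer σ).comap φ.toMonoidHom := by
    intro g hg a
    obtain ⟨a', rfl⟩ := φ.surjective a
    have key : ∀ x y : Q, σ (φ x) * σ (φ y) * ((θ : Module.End K W) * η) =
        (θ : Module.End K W) * η * (σ x * σ y) := fun x y => by
      rw [mul_assoc, ← hθη', ← mul_assoc, ← hθη', mul_assoc]
    have hu : IsUnit ((θ : Module.End K W) * η) := θ.isUnit.mul η.isUnit
    show σ (φ g) * σ (φ a') = σ (φ a') * σ (φ g)
    refine hu.mul_right_cancel ?_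
    rw [key, key, (hg a').eq]
  let f : Q ⧸ commKer σ → Q ⧸ commKer σ :=
    QuotientGroup.map (commKer σ) (commKer σ) φ.toMonoidHom hφS
  have hfsurj : Function.Surjective f := fun x => by
    induction x using QuotientGroup.induction_on with | _ g => exact ⟨(φ.symm g : Q), by simp [f]⟩
  let π : Equiv.Perm (Q ⧸ commKer σ) :=
    Equiv.ofBijective f ⟨Finite.injective_iff_surjective.2 hfsurj, hfsurj⟩
  have hπ : ∀ (i : ℕ) (g : Q),
      (π ^ i) (g : Q ⧸ commKer σ) = (((φ ^ i) g : Q) : Q ⧸ commKer σ) := by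
    intro i
    induction i with
    | zero => intro g; rfl
    | succ i ih =>
      intro g
      rw [pow_succ', pow_succ', Equiv.Perm.mul_apply, ih, MulAut.mul_apply]
      rfl
  have hLb : ∀ x, ∃ e : K, e ≠ 0 ∧ L (M.basis x) = e • M.basis (π x) := by
    intro x
    obtain ⟨e, he⟩ := hsc (φ (Quotient.out x)) (Quotient.out (π x)) (by
      rw [QuotientGroup.out_eq']
      conv_rhs => rw [← QuotientGroup.out_eq' x]
      rfl)
    refine ⟨e, fun h0 => hne0 _ (by rw [he, h0, zero_smul]), M.injective ?_⟩
    refine (θ.isUnit.mul η.isUnit).mul_right_cancel ?_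
    rw [hLσ, M.basis_spec, hθη', he, map_smul, M.basis_spec]
  choose ω hω0 hωe using hLb
  have hPpos : 1 ≤ P := Nat.mul_pos (by omega) (pow_pos hq.pos b)
  have hπP : π ^ P = 1 := by
    ext x
    induction x using QuotientGroup.induction_on with | _ g => ?_
    rw [hπ]
    show (((φ ^ P) g : Q) : Q ⧸ commKer σ) = (g : Q ⧸ commKer σ)
    refine QuotientGroup.eq.2 fun a => ?_
    have hpow : ∀ i : ℕ, (((θ * η) ^ i : (Module.End K W)ˣ) : Module.End K W) * σ g =
        σ ((φ ^ i) g) * (((θ * η) ^ i : (Module.End K W)ˣ) : Module.End K W) := by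
      intro i
      induction i with
      | zero => simp
      | succ i ih =>
        rw [pow_succ', Units.val_mul, mul_assoc, ih, ← mul_assoc, Units.val_mul, hθη', mul_assoc,
          pow_succ' φ i]
        rfl
    have h := hpow P
    rw [show (θ * η) ^ P = 1 by
      rw [hθη.mul_pow, hPdef, pow_mul, hθr, one_pow, mul_comm r, pow_mul η, hηq, one_pow, one_mul],
      Units.val_one, one_mul, mul_one] at h
    have h1 : σ (((φ ^ P) g)⁻¹ * g) = 1 := by
      rw [map_mul, h, ← map_mul, inv_mul_cancel, map_one]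
    rw [h1]
    exact Commute.one_left _
  have horb := finrank_fixed_monomial M.basis L π ω hω0 hωe (P := P) hPpos
    ((1 : Q) : Q ⧸ commKer σ) hπP
    (by show ((φ 1 : Q) : Q ⧸ commKer σ) = _; rw [map_one])
    (by
      intro x i hi hiP hx
      induction x using QuotientGroup.induction_on with | _ g => ?_
      rw [hπ] at hx
      exact (QuotientGroup.eq_one_iff _).2 (hfree g i hi hiP (QuotientGroup.eq.1 hx.symm)))
  have hN : Fintype.card (Q ⧸ commKer σ) = d ^ 2 := by
    rw [← finrank_eq_card_basis M.basis, Module.finrank_linearMap, pow_two]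
  rw [hN] at horb
  have hker : LinearMap.ker (LinearMap.mulLeft K ((T : Module.End K U) * (E : Module.End K U)) -
      LinearMap.mulRight K ((T : Module.End K U) * (E : Module.End K U))) ≤
      LinearMap.ker (L - 1) := by
    intro F hF
    rw [LinearMap.mem_ker, LinearMap.sub_apply, LinearMap.mulLeft_apply, LinearMap.mulRight_apply,
      sub_eq_zero] at hF
    rw [LinearMap.mem_ker, LinearMap.sub_apply, Module.End.one_apply, sub_eq_zero]
    show (τ : Module.End K U) * (F * ((τ⁻¹ : _) : Module.End K U)) = F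
    rw [← mul_assoc, show (τ : Module.End K U) * F = F * (τ : Module.End K U) from by
      rw [hτ, Units.val_mul]; exact hF, mul_assoc, Units.mul_inv, mul_one]
  have hd : 2 ≤ d := by
    obtain ⟨a0, b0, hab⟩ := hnab
    have hX : 1 < Fintype.card (Q ⧸ commKer σ) := by
      rw [Fintype.one_lt_card_iff]
      exact ⟨(a0 : Q ⧸ commKer σ), ((1 : Q) : Q ⧸ commKer σ),
        fun h => hab ((QuotientGroup.eq_one_iff a0).1 h b0)⟩
    rw [hN] at hX
    by_contra hlt
    interval_cases d <;> simp at hX
  -- conclusion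
  set D := finrank K (LinearMap.ker (LinearMap.mulLeft K
    ((T : Module.End K U) * (E : Module.End K U)) -
      LinearMap.mulRight K ((T : Module.End K U) * (E : Module.End K U))))
  have hD1 : P * D + 1 ≤ d ^ 2 + P :=
    le_trans (Nat.add_le_add_right (Nat.mul_le_mul_left P (Submodule.finrank_mono hker)) 1) horb
  have h1 : P * d ^ 2 + t ≤ t * (d ^ 2 + P) := by
    calc P * d ^ 2 + t ≤ P * (t * D) + t := by
          exact Nat.add_le_add_right (Nat.mul_le_mul_left P hbound) t
      _ = t * (P * D + 1) := by ring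
      _ ≤ _ := Nat.mul_le_mul_left t hD1
  have htP : P ≤ t + 1 := by
    by_contra hlt
    obtain ⟨e, he⟩ := Nat.le.dest (show t + 2 ≤ P by omega)
    rw [← he] at h1
    have h2 : d ^ 2 * (2 + e) + t ≤ t * (t + 2 + e) := by nlinarith
    have h3 : t ^ 2 ≤ d ^ 2 := Nat.pow_le_pow_left htd 2
    rcases Nat.lt_or_ge t 2 with ht | ht
    · have hd4 : 4 ≤ d ^ 2 := by nlinarith
      have := Nat.mul_le_mul_right (2 + e) hd4
      interval_cases t <;> nlinarith
    · have h4 := Nat.mul_le_mul_right (2 + e) h3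
      have h5 : t * 2 ≤ t * t := Nat.mul_le_mul_left t ht
      have h6 := Nat.mul_le_mul_right e h5
      nlinarith
  have hq2 : 2 ≤ q ^ b := hq.two_le.trans (Nat.le_self_pow (by omega) q)
  rw [hScard] at htS
  have hcount : Ac.card * q ^ b ≤ Ac.card + 1 := by omega
  have hone : q ^ b = 2 ∧ Ac.card = 1 := by
    have : Ac.card * 2 ≤ Ac.card * q ^ b := Nat.mul_le_mul_left _ hq2
    have hcard : Ac.card = 1 := by omega
    rw [hcard] at hcount
    omega
  refine ⟨hone.1, fun g hg => ?_⟩
  obtain ⟨k, hk⟩ := Finset.card_eq_one.1 hone.2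
  have hkr : k < r := Finset.mem_range.1 (Finset.mem_filter.1 (hk ▸ Finset.mem_singleton_self k)).1
  have h2 := sum_eigProj hζ hr hr0 (C : Module.End K W)
  rw [Finset.sum_eq_single k (fun l hl hlk => by
      by_contra hne
      exact hlk (Finset.mem_singleton.1 (hk ▸ Finset.mem_filter.2 ⟨hl, hne⟩)))
    (fun hh => absurd (Finset.mem_range.2 hkr) hh)] at h2
  have hCs : (C : Module.End K W) = (ζ ^ k) • 1 := by
    conv_lhs => rw [← mul_one (C : Module.End K W), ← h2,
      mul_eigProj (hμr k) (pow_ne_zero _ hζ0) hCr, h2]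
  rw [hθT, hCs, mul_smul_comm, mul_one]
  exact (hlc g hg _).smul_right _

end CfsgLib.FittingHeightPrime
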