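/-
Representations of a group generated by a coprime operator and a subgroup it moves: blocks of an
abelian normal subgroup, and eigenvectors of the operator.
-/
import Mathlib
import Cfsg.Agent.Lib.FittingHeightPrime.SectionRep
import Cfsg.Agent.Lib.FittingHeightPrime.EigenCount

set_option autoImplicit false
set_option linter.style.haveILetI false
set_option linter.unusedSectionVars false

open Module
open scoped commutatorElement IsMulCommutative

namespace CfsgLib.FittingHeightPrime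

open HallHigmanExc

universe u v w

variable {G : Type w} [Group G] {K : Type u} [Field K] {V : Type v} [AddCommGroup V] [Module K V]

theorem uMem (ρ : G →* Module.End K V) {P : Subgroup G} {x : G} (hx : x ∈ P) :
    ρ.toHomUnits x ∈ unitImage ρ P := Subgroup.mem_map_of_mem _ hx

theorem isPGroup_unitImage (ρ : G →* Module.End K V) {P : Subgroup G} {p : ℕ}
    (h : ∀ x ∈ P, ∃ a, ρ x ^ p ^ a = 1) : IsPGroup p (unitImage ρ P) := by
  rintro ⟨_, x, hx, rfl⟩
  obtain ⟨a, ha⟩ := h x hx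
  refine ⟨a, Subtype.ext (Units.ext ?_)⟩
  simpa using ha

theorem card_unitImage_ne_zero [Finite G] (ρ : G →* Module.End K V) {P : Subgroup G} {p : ℕ}
    [Fact p.Prime] (hpK : (p : K) ≠ 0) (h : ∀ x ∈ P, ∃ a, ρ x ^ p ^ a = 1) :
    (Nat.card (unitImage ρ P) : K) ≠ 0 := by
  haveI := finite_unitImage ρ P
  obtain ⟨n, hn⟩ := IsPGroup.iff_card.1 (isPGroup_unitImage ρ h)
  rw [hn, Nat.cast_pow]
  exact pow_ne_zero _ hpK

/-- The elements whose image commutes with `f`. -/
def commStab (ρ : G →* Module.End K V) (f : Module.End K V) : Subgroup G where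
  carrier := {g | Commute (ρ g) f}
  one_mem' := by simp
  mul_mem' := fun {a b} ha hb => by
    show Commute (ρ (a * b)) f
    rw [map_mul]; exact ha.mul_left hb
  inv_mem' := fun {a} ha => by
    show ρ a⁻¹ * f = f * ρ a⁻¹
    calc ρ a⁻¹ * f = ρ a⁻¹ * (f * ρ a) * ρ a⁻¹ := by
          rw [mul_assoc, mul_assoc, rho_mul_inv, mul_one]
      _ = ρ a⁻¹ * (ρ a * f) * ρ a⁻¹ := by rw [(show Commute (ρ a) f from ha).eq]
      _ = f * ρ a⁻¹ := by rw [← mul_assoc, rho_inv_mul, one_mul]

theorem mem_commStab {ρ : G →* Module.End K V} {f : Module.End K V} {g : G} :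
    g ∈ commStab ρ f ↔ Commute (ρ g) f := Iff.rfl

/-- The representation on the range of an endomorphism. -/
def restrictTo (ρ : G →* Module.End K V) (f : Module.End K V) :
    commStab ρ f →* Module.End K (LinearMap.range f) :=
  subRep (ρ.comp (commStab ρ f).subtype) (LinearMap.range f) fun g v hv => by
    obtain ⟨w, rfl⟩ := hv
    exact ⟨ρ g w, (LinearMap.congr_fun g.2.eq w).symm⟩

theorem restrictTo_apply (ρ : G →* Module.End K V) (f : Module.End K V) (g : commStab ρ f)
    (v : LinearMap.range f) : ((restrictTo ρ f g v : LinearMap.range f) : V) = ρ g v := rfl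

theorem subRep_eigProj (ρ : G →* Module.End K V) (U : Submodule K V)
    (h : ∀ g, ∀ v ∈ U, ρ g v ∈ U) (g : G) (r : ℕ) (ζ : K) (v : U) :
    ((eigProj r ζ (subRep ρ U h g) v : U) : V) = eigProj r ζ (ρ g) (v : V) := by
  simp only [eigProj, LinearMap.smul_apply, LinearMap.sum_apply, Submodule.coe_smul,
    Submodule.coe_sum, ← map_pow, subRep_apply]

theorem restrictTo_eigProj (ρ : G →* Module.End K V) (f : Module.End K V) (g : commStab ρ f)
    (r : ℕ) (ζ : K) (v : LinearMap.range f) :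
    ((eigProj r ζ (restrictTo ρ f g) v : LinearMap.range f) : V) = eigProj r ζ (ρ g) (v : V) := by
  simp only [eigProj, LinearMap.smul_apply, LinearMap.sum_apply, Submodule.coe_smul,
    Submodule.coe_sum, ← map_pow, restrictTo_apply, SubgroupClass.coe_pow]

/-- The hypotheses on an operator `σ` of prime order `r`, a `σ`-group `R` with image a `p`-group
and a central subgroup `Z` of it. -/
structure RepData (ρ : G →* Module.End K V) (σ : G) (r p : ℕ) (R Z : Subgroup G) : Prop where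
  prime : r.Prime
  pow_eq : σ ^ r = 1
  normR : σ ∈ Subgroup.normalizer (R : Set G)
  normZ : σ ∈ Subgroup.normalizer (Z : Set G)
  le : Z ≤ R
  cop : r.Coprime (Nat.card R)
  gen : R ≤ ⁅R, Subgroup.zpowers σ⁆
  fixed_mem : ∀ c ∈ R, c * σ = σ * c → c ∈ Z
  comm_mem : ∀ x ∈ R, ∀ y ∈ R, ⁅x, y⁆ ∈ Z
  central : ∀ z ∈ Z, ∀ x ∈ R, Commute (ρ z) (ρ x)
  pgroup : ∀ x ∈ R, ∃ a, ρ x ^ p ^ a = 1
  hp : p.Prime
  hpK : (p : K) ≠ 0
  hrK : (r : K) ≠ 0

variable {ρ : G →* Module.End K V} {σ : G} {r p : ℕ} {R Z : Subgroup G}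

theorem RepData.sub (D : RepData ρ σ r p R Z) (U : Submodule K V)
    (h : ∀ g, ∀ v ∈ U, ρ g v ∈ U) : RepData (subRep ρ U h) σ r p R Z :=
  { prime := D.prime
    pow_eq := D.pow_eq
    normR := D.normR
    normZ := D.normZ
    le := D.le
    cop := D.cop
    gen := D.gen
    fixed_mem := D.fixed_mem
    comm_mem := D.comm_mem
    central := fun z hz x hx => LinearMap.ext fun v => Subtype.ext
      (LinearMap.congr_fun (D.central z hz x hx).eq (v : V))
    pgroup := fun x hx => by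
      obtain ⟨a, ha⟩ := D.pgroup x hx
      refine ⟨a, LinearMap.ext fun v => Subtype.ext ?_⟩
      rw [← map_pow, subRep_apply, map_pow, ha]
      rfl
    hp := D.hp
    hpK := D.hpK
    hrK := D.hrK }

theorem gen_subgroupOf {H : Subgroup G} (hR : R ≤ H) (hσ : σ ∈ H)
    (hg : R ≤ ⁅R, Subgroup.zpowers σ⁆) :
    R.subgroupOf H ≤ ⁅R.subgroupOf H, Subgroup.zpowers (⟨σ, hσ⟩ : H)⁆ := by
  rw [← Subgroup.map_le_map_iff_of_injective H.subtype_injective, Subgroup.map_commutator,
    MonoidHom.map_zpowers, Subgroup.map_subgroupOf_eq_of_le hR]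
  exact hg

theorem normalizer_subgroupOf {H N : Subgroup G} {g : G} (hg : g ∈ H)
    (hN : g ∈ Subgroup.normalizer (N : Set G)) :
    (⟨g, hg⟩ : H) ∈ Subgroup.normalizer (N.subgroupOf H : Set H) :=
  Subgroup.mem_normalizer_iff.2 fun x => by
    simpa [Subgroup.mem_subgroupOf] using Subgroup.mem_normalizer_iff.1 hN x

theorem RepData.subgroupOf (D : RepData ρ σ r p R Z) {H : Subgroup G} (hR : R ≤ H) (hσ : σ ∈ H) :
    RepData (ρ.comp H.subtype) (⟨σ, hσ⟩ : H) r p (R.subgroupOf H) (Z.subgroupOf H) :=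
  { prime := D.prime
    pow_eq := Subtype.ext (by simp [D.pow_eq])
    normR := normalizer_subgroupOf hσ D.normR
    normZ := normalizer_subgroupOf hσ D.normZ
    le := fun x hx => Subgroup.mem_subgroupOf.2 (D.le (Subgroup.mem_subgroupOf.1 hx))
    cop := by rw [Nat.card_congr (Subgroup.subgroupOfEquivOfLe hR).toEquiv]; exact D.cop
    gen := gen_subgroupOf hR hσ D.gen
    fixed_mem := fun c hc he => Subgroup.mem_subgroupOf.2
      (D.fixed_mem c (Subgroup.mem_subgroupOf.1 hc) (congrArg Subtype.val he))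
    comm_mem := fun x hx y hy => Subgroup.mem_subgroupOf.2
      (by simpa [commutatorElement_def] using
        D.comm_mem x (Subgroup.mem_subgroupOf.1 hx) y (Subgroup.mem_subgroupOf.1 hy))
    central := fun z hz x hx => D.central z (Subgroup.mem_subgroupOf.1 hz) x
      (Subgroup.mem_subgroupOf.1 hx)
    pgroup := fun x hx => D.pgroup x (Subgroup.mem_subgroupOf.1 hx)
    hp := D.hp
    hpK := D.hpK
    hrK := D.hrK }

theorem RepData.restrictTo (D : RepData ρ σ r p R Z) {f : Module.End K V}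
    (hR : R ≤ commStab ρ f) (hσ : σ ∈ commStab ρ f) :
    RepData (FittingHeightPrime.restrictTo ρ f) (⟨σ, hσ⟩ : commStab ρ f) r p
      (R.subgroupOf (commStab ρ f)) (Z.subgroupOf (commStab ρ f)) :=
  (D.subgroupOf hR hσ).sub _ _

/-- The elements of `R` commuting with all of `R` on `V`. -/
def radical (ρ : G →* Module.End K V) (R : Subgroup G) : Subgroup G :=
  R ⊓ ⨅ y : R, commStab ρ (ρ (y : G))

theorem mem_radical {x : G} :
    x ∈ radical ρ R ↔ x ∈ R ∧ ∀ y ∈ R, Commute (ρ x) (ρ y) := by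
  simp only [radical, Subgroup.mem_inf, Subgroup.mem_iInf, mem_commStab, Subtype.forall]

section Blocks

variable [Finite G] {A : Subgroup (Module.End K V)ˣ} [Finite A] [IsMulCommutative A]

theorem twist_congr {g h : (Module.End K V)ˣ}
    (hg : g ∈ Subgroup.normalizer (A : Set (Module.End K V)ˣ))
    (hh : h ∈ Subgroup.normalizer (A : Set (Module.End K V)ˣ)) (e : g = h) (l : A →* Kˣ) :
    twist A hg l = twist A hh l := by subst e; rfl

theorem twist_one' {h : (1 : (Module.End K V)ˣ) ∈ Subgroup.normalizer (A : Set (Module.End K V)ˣ)}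
    (l : A →* Kˣ) : twist A h l = l :=
  MonoidHom.ext fun x => twist_apply A h l x x (by simp)

theorem rho_mul_blk {g : G}
    (hg : ρ.toHomUnits g ∈ Subgroup.normalizer (A : Set (Module.End K V)ˣ)) (l : A →* Kˣ) :
    ρ g * blk A l = blk A (twist A hg l) * ρ g :=
  unit_mul_blk A hg l

theorem blk_mul_rho_mul_blk (hA : (Nat.card A : K) ≠ 0) {g : G}
    (hg : ρ.toHomUnits g ∈ Subgroup.normalizer (A : Set (Module.End K V)ˣ)) (l m : A →* Kˣ)
    [Decidable (m = twist A hg l)] :
    blk A m * (ρ g * blk A l) = if m = twist A hg l then ρ g * blk A l else 0 := by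
  classical
  rw [rho_mul_blk hg, ← mul_assoc, blk_mul_blk A hA]
  split_ifs <;> simp

theorem twist_eq_of_commute (hA : (Nat.card A : K) ≠ 0) {g : G}
    (hg : ρ.toHomUnits g ∈ Subgroup.normalizer (A : Set (Module.End K V)ˣ)) {l : A →* Kˣ}
    (hl : blk A l ≠ 0) (h : Commute (ρ g) (blk A l)) : twist A hg l = l := by
  classical
  by_contra hne
  have h1 := rho_mul_blk hg l
  rw [h.eq] at h1
  have h2 := congrArg (blk A l * ·) h1
  rw [← mul_assoc, ← mul_assoc, blk_mul_blk A hA l l, blk_mul_blk A hA l (twist A hg l),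
    if_pos rfl, if_neg (Ne.symm hne), zero_mul] at h2
  have h3 := congrArg (· * ρ g⁻¹) h2
  simp only [mul_assoc, rho_mul_inv, mul_one, zero_mul] at h3
  exact hl h3

theorem commute_of_twist_eq {g : G}
    (hg : ρ.toHomUnits g ∈ Subgroup.normalizer (A : Set (Module.End K V)ˣ)) {l : A →* Kˣ}
    (h : twist A hg l = l) : Commute (ρ g) (blk A l) := by
  show _ = _
  rw [rho_mul_blk hg, h]

/-- A moved character is moved by all the nontrivial powers. -/
theorem twist_pow_ne (hr : r.Prime) (hσ : σ ^ r = 1)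
    (hσA : ρ.toHomUnits σ ∈ Subgroup.normalizer (A : Set (Module.End K V)ˣ)) {l : A →* Kˣ}
    (hl : twist A hσA l ≠ l) {i : ℕ} (hi : 0 < i) (hir : i < r)
    (hiA : ρ.toHomUnits (σ ^ i) ∈ Subgroup.normalizer (A : Set (Module.End K V)ˣ)) :
    twist A hiA l ≠ l := by
  intro h
  have hpow : ∀ (t : ℕ) (ht : ρ.toHomUnits (σ ^ i) ^ t ∈
      Subgroup.normalizer (A : Set (Module.End K V)ˣ)), twist A ht l = l := by
    intro t
    induction t with
    | zero => intro ht; rw [twist_congr ht (one_mem _) (pow_zero _), twist_one']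
    | succ t ih =>
      intro ht
      rw [twist_congr ht (mul_mem (pow_mem hiA t) hiA) (pow_succ _ t),
        twist_mul A (pow_mem hiA t) hiA l, h, ih]
  obtain ⟨t, -, ht⟩ := Nat.exists_mul_mod_eq_one_of_coprime
    ((Nat.Prime.coprime_iff_not_dvd hr).2 (Nat.not_dvd_of_pos_of_lt hi hir)).symm hr.one_lt
  refine hl ((twist_congr hσA (pow_mem hiA t) ?_ l).trans (hpow t _))
  rw [← map_pow, ← pow_mul]
  conv_lhs => rw [← pow_one σ, ← ht]
  rw [← pow_eq_pow_mod _ hσ]

/-- The diagonal part of the eigenprojection at a moved block. -/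
theorem blk_mul_eigProj_mul_blk (hA : (Nat.card A : K) ≠ 0) (hr : r.Prime) (hσ : σ ^ r = 1)
    (hσA : ρ.toHomUnits σ ∈ Subgroup.normalizer (A : Set (Module.End K V)ˣ)) {l : A →* Kˣ}
    (hl : twist A hσA l ≠ l) (ζ : K) :
    blk A l * (eigProj r ζ (ρ σ) * blk A l) = (r : K)⁻¹ • blk A l := by
  classical
  simp only [eigProj, smul_mul_assoc, mul_smul_comm, Finset.sum_mul, Finset.mul_sum, ← map_pow]
  congr 1
  have hpA : ∀ i, ρ.toHomUnits (σ ^ i) ∈ Subgroup.normalizer (A : Set (Module.End K V)ˣ) :=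
    fun i => by rw [map_pow]; exact pow_mem hσA i
  rw [Finset.sum_eq_single 0]
  · rw [pow_zero, one_smul, pow_zero, map_one, one_mul, blk_mul_blk A hA, if_pos rfl]
  · intro i hi hi0
    rw [blk_mul_rho_mul_blk hA (hpA i), if_neg (fun h => twist_pow_ne hr hσ hσA hl
      (Nat.pos_of_ne_zero hi0) (Finset.mem_range.1 hi) (hpA i) h.symm), smul_zero]
  · exact fun h => absurd (Finset.mem_range.2 hr.pos) h

theorem eigProj_mul_blk_ne_zero (hA : (Nat.card A : K) ≠ 0) (hr : r.Prime) (hrK : (r : K) ≠ 0)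
    (hσ : σ ^ r = 1) (hσA : ρ.toHomUnits σ ∈ Subgroup.normalizer (A : Set (Module.End K V)ˣ))
    {l : A →* Kˣ} (hl : twist A hσA l ≠ l) (hl0 : blk A l ≠ 0) (ζ : K) :
    eigProj r ζ (ρ σ) * blk A l ≠ 0 := fun h => by
  have h1 := blk_mul_eigProj_mul_blk hA hr hσ hσA hl ζ
  rw [h, mul_zero] at h1
  exact hl0 ((smul_eq_zero.1 h1.symm).resolve_left (inv_ne_zero hrK))

end Blocks

section UnitImage

variable [Finite G] {P : Subgroup G} [Finite (unitImage ρ P)] [IsMulCommutative (unitImage ρ P)]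

theorem rho_mul_blk_self {x : G} (hx : x ∈ P) (l : unitImage ρ P →* Kˣ) :
    ρ x * blk (unitImage ρ P) l =
      (l ⟨ρ.toHomUnits x, uMem ρ hx⟩ : K) • blk (unitImage ρ P) l :=
  mul_blk (unitImage ρ P) l ⟨ρ.toHomUnits x, uMem ρ hx⟩

theorem commute_blk_of_commute {g : G} (h : ∀ x ∈ P, Commute (ρ g) (ρ x))
    (l : unitImage ρ P →* Kˣ) : Commute (ρ g) (blk (unitImage ρ P) l) :=
  commute_blk _ (by rintro ⟨_, x, hx, rfl⟩; exact h x hx) l

/-- A fixed block is centralized by the commutators with the operator. -/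
theorem rho_mul_blk_of_mem_commutator (hσP : σ ∈ Subgroup.normalizer (P : Set G))
    {l : unitImage ρ P →* Kˣ} (h : Commute (ρ σ) (blk (unitImage ρ P) l)) {x : G}
    (hx : x ∈ ⁅P, Subgroup.zpowers σ⁆) :
    ρ x * blk (unitImage ρ P) l = blk (unitImage ρ P) l := by
  set e := blk (unitImage ρ P) l with he
  let T : Subgroup G :=
    { carrier := {g | ρ g * e = e}
      one_mem' := by simp
      mul_mem' := fun {a b} ha hb => by
        show ρ (a * b) * e = e
        rw [map_mul, mul_assoc, hb, ha]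
      inv_mem' := fun {a} ha => by
        show ρ a⁻¹ * e = e
        conv_lhs => rw [← (show ρ a * e = e from ha), ← mul_assoc, rho_inv_mul, one_mul] }
  refine (Subgroup.commutator_le.2 fun y hy a ha => ?_ : ⁅P, Subgroup.zpowers σ⁆ ≤ T) hx
  have haE : a ∈ commStab ρ e := Subgroup.zpowers_le.2 (show σ ∈ commStab ρ e from h) ha
  have h1 : Commute (ρ a⁻¹) e := (commStab ρ e).inv_mem haE
  show ρ ⁅y, a⁆ * e = e
  set c : K := ((l ⟨ρ.toHomUnits y, uMem ρ hy⟩ : Kˣ) : K) with hcdef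
  have hy1 : ρ y * e = c • e := rho_mul_blk_self hy l
  have hy2 : ρ y⁻¹ * e = c⁻¹ • e := by
    have h2 := congrArg (ρ y⁻¹ * ·) hy1
    simp only [mul_smul_comm, ← mul_assoc, rho_inv_mul, one_mul] at h2
    conv_rhs => rw [h2, smul_smul, inv_mul_cancel₀ (Units.ne_zero _), one_smul]
  rw [commutatorElement_def, map_mul, map_mul, map_mul, mul_assoc, h1.eq, ← mul_assoc,
    mul_assoc (ρ y * ρ a) (ρ y⁻¹), hy2, mul_smul_comm, smul_mul_assoc, mul_assoc (ρ y),
    (show Commute (ρ a) e from haE).eq, ← mul_assoc (ρ y), hy1, smul_mul_assoc, smul_mul_assoc,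
    smul_smul, inv_mul_cancel₀ (Units.ne_zero _), one_smul, mul_assoc, rho_mul_inv, mul_one]

end UnitImage

/-- A fixed point free operator on a group with scalar commutators forces the exceptional case. -/
theorem RepData.exceptional_of_eigProj [Finite G] [IsAlgClosed K] [FiniteDimensional K V]
    (D : RepData ρ σ r p R Z)
    (hcomm : ∀ x ∈ R, ∀ y ∈ R, ∃ c : K, ρ ⁅x, y⁆ = c • (1 : Module.End K V))
    (hnab : ∃ x ∈ R, ∃ y ∈ R, ¬ Commute (ρ x) (ρ y)) {ζ : K} (hζ : ζ ≠ 0)
    (h0 : eigProj r ζ (ρ σ) = 0) :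
    p = 2 ∧ ∃ m, 1 ≤ m ∧ r - 1 = 2 ^ m ∧ (radical ρ R).relIndex R = 2 ^ (2 * m) := by
  classical
  haveI := Fact.mk D.prime
  haveI := Fact.mk D.hp
  let A := unitImage ρ R
  haveI : Finite A := finite_unitImage ρ R
  let θ : (Module.End K V)ˣ := ρ.toHomUnits σ
  let τ : A →* Module.End K V := (Units.coeHom _).comp A.subtype
  have hθN : θ ∈ Subgroup.normalizer (A : Set (Module.End K V)ˣ) :=
    mem_normalizer_unitImage ρ D.normR
  let φ : MulAut A := A.normalizerMonoidHom ⟨θ, hθN⟩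
  have hφpow : ∀ (i : ℕ) (a : A), (((φ ^ i) a : A) : (Module.End K V)ˣ) =
      θ ^ i * (a : (Module.End K V)ˣ) * (θ ^ i)⁻¹ := by
    intro i a
    induction i with
    | zero => simp
    | succ i ih =>
      rw [pow_succ', MulAut.mul_apply]
      show θ * (((φ ^ i) a : A) : (Module.End K V)ˣ) * θ⁻¹ = _
      rw [ih, pow_succ', mul_inv_rev]; simp only [mul_assoc]
  have hτu : ∀ x (hx : x ∈ R), τ ⟨ρ.toHomUnits x, uMem ρ hx⟩ = ρ x := fun x hx => rfl
  have hck : ∀ x (hx : x ∈ R), (⟨ρ.toHomUnits x, uMem ρ hx⟩ : A) ∈ commKer τ ↔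
      x ∈ radical ρ R := by
    intro x hx
    rw [mem_commKer, mem_radical]
    exact ⟨fun h => ⟨hx, fun y hy => h ⟨_, uMem ρ hy⟩⟩, fun h a => by
      obtain ⟨_, y, hy, rfl⟩ := a
      exact h.2 y hy⟩
  have hrad : radical ρ R ≤ R := fun x hx => (mem_radical.1 hx).1
  have hradN : σ ∈ Subgroup.normalizer (radical ρ R : Set G) := by
    refine CoprimeAction.mem_normalizer_of_conj_mem fun x hx => ?_
    rw [mem_radical] at hx ⊢
    refine ⟨CoprimeAction.conj_mem D.normR hx.1, fun y hy => ?_⟩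
    have hy' : σ⁻¹ * y * σ ∈ R := CoprimeAction.conj_mem' D.normR hy
    have h := (hx.2 _ hy').eq
    show _ = _
    rw [← map_mul, ← map_mul] at h ⊢
    have h1 := congrArg (fun z => ρ σ * z * ρ σ⁻¹) h
    simp only [← map_mul] at h1
    convert h1 using 2 <;> group
  have hrad_fixed : ∀ c ∈ R, c * σ = σ * c → c ∈ radical ρ R := fun c hc he =>
    mem_radical.2 ⟨hc, fun y hy => D.central c (D.fixed_mem c hc he) y hy⟩
  have hfree : ∀ a : A, ∀ i, 0 < i → i < r ^ 1 → a⁻¹ * (φ ^ i) a ∈ commKer τ →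
      a ∈ commKer τ := by
    rintro ⟨_, x, hx, rfl⟩ i hi hir h
    rw [pow_one] at hir
    rw [hck x hx]
    have hxi : σ ^ i * x * (σ ^ i)⁻¹ ∈ R :=
      CoprimeAction.conj_mem (pow_mem D.normR i) hx
    have h1 : x⁻¹ * (σ ^ i * x * (σ ^ i)⁻¹) ∈ radical ρ R := by
      rw [← hck _ (R.mul_mem (R.inv_mem hx) hxi)]
      convert h using 1
      refine Subtype.ext ?_
      rw [Subgroup.coe_mul, Subgroup.coe_inv, hφpow]
      simp [θ, map_mul, map_inv, map_pow]
    obtain ⟨t, -, ht⟩ := Nat.exists_mul_mod_eq_one_of_coprime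
      ((Nat.Prime.coprime_iff_not_dvd D.prime).2 (Nat.not_dvd_of_pos_of_lt hi hir)).symm
        D.prime.one_lt
    have hσi : σ = (σ ^ i) ^ t := by
      rw [← pow_mul]
      conv_lhs => rw [← pow_one σ, ← ht]
      exact (pow_eq_pow_mod _ D.pow_eq).symm
    have hcop : (Nat.card (Subgroup.zpowers (σ ^ i))).Coprime (Nat.card (radical ρ R)) := by
      refine (D.cop.coprime_dvd_right (Subgroup.card_dvd_of_le hrad)).coprime_dvd_left ?_
      rw [Nat.card_zpowers]
      exact orderOf_dvd_of_pow_eq_one (by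
        rw [← pow_mul, mul_comm, pow_mul, D.pow_eq, one_pow])
    let T : Subgroup G :=
      { carrier := {g | g ∈ Subgroup.normalizer (radical ρ R : Set G) ∧
          x⁻¹ * (g * x * g⁻¹) ∈ radical ρ R}
        one_mem' := ⟨one_mem _, by simp⟩
        mul_mem' := fun {a b} ha hb => ⟨mul_mem ha.1 hb.1, by
          rw [show x⁻¹ * (a * b * x * (a * b)⁻¹) =
            x⁻¹ * (a * x * a⁻¹) * (a * (x⁻¹ * (b * x * b⁻¹)) * a⁻¹) by group]
          exact mul_mem ha.2 (CoprimeAction.conj_mem ha.1 hb.2)⟩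
        inv_mem' := fun {a} ha => ⟨inv_mem ha.1, by
          rw [show x⁻¹ * (a⁻¹ * x * a⁻¹⁻¹) = a⁻¹ * (x⁻¹ * (a * x * a⁻¹))⁻¹ * a⁻¹⁻¹ by group]
          exact CoprimeAction.conj_mem (inv_mem ha.1) (inv_mem ha.2)⟩ }
    obtain ⟨c, hcR, hcN⟩ := CoprimeAction.exists_centralizer_mem_coset_of_le
      (A := Subgroup.zpowers (σ ^ i)) (K := R) (N := radical ρ R)
      (Subgroup.zpowers_le.2 (pow_mem hradN i)) hrad hcop
      (Or.inl (CoprimeAction.isSolvable_zpowers _)) hx (fun a ha =>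
        (Subgroup.zpowers_le.2 (show σ ^ i ∈ T from ⟨pow_mem hradN i, h1⟩) ha).2)
    have hcσ : c * σ = σ * c := by
      rw [hσi]
      exact ((show Commute c (σ ^ i) from
        (Subgroup.mem_centralizer_iff.1 hcR.2 _ (Subgroup.mem_zpowers _)).symm).pow_right t).eq
    have := (radical ρ R).mul_mem (hrad_fixed c hcR.1 hcσ) ((radical ρ R).inv_mem hcN)
    simpa [mul_assoc] using this
  have hs0 : ∑ i ∈ Finset.range r, ζ⁻¹ ^ i • ρ σ ^ i = 0 :=
    (smul_eq_zero.1 h0).resolve_left (inv_ne_zero D.hrK)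
  obtain ⟨j, m, hj, hm, hpm, -, hcard⟩ := exceptional (p := r) (q := p) D.hpK
    (isPGroup_unitImage ρ D.pgroup) τ
    (by
      rintro ⟨_, x, hx, rfl⟩ ⟨_, y, hy, rfl⟩
      obtain ⟨c, hc⟩ := hcomm x hx y hy
      exact ⟨c, by rw [← hc]; simp [τ, commutatorElement_def, map_mul, ← map_inv]⟩)
    (by
      obtain ⟨x, hx, y, hy, hxy⟩ := hnab
      exact ⟨⟨_, uMem ρ hx⟩, ⟨_, uMem ρ hy⟩, hxy⟩)
    φ θ (k := 1) le_rfl
    (fun a => by
      show (θ : Module.End K V) * ((a : (Module.End K V)ˣ) : Module.End K V) =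
        ((θ * (a : (Module.End K V)ˣ) * θ⁻¹ : (Module.End K V)ˣ) : Module.End K V) * θ
      simp [mul_assoc])
    (by rw [pow_one]; simp [θ, ← map_pow, D.pow_eq]) hfree
    (s := r - 1) (by rw [pow_one]; have := D.prime.pos; omega) (c := fun i => ζ⁻¹ ^ i)
    (pow_ne_zero _ (inv_ne_zero hζ))
    (by rw [Nat.sub_add_cancel D.prime.one_le]; exact hs0)
  have hj1 : j = 1 := by
    rcases Nat.eq_zero_or_pos j with rfl | h
    · simp at hpm; exact absurd hpm.symm (pow_ne_zero _ D.hp.pos.ne')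
    · omega
  subst hj1
  rw [pow_one] at hpm
  have hp2 : p = 2 := by
    by_contra hne
    have hodd : Odd (p ^ m) := (D.hp.odd_of_ne_two hne).pow
    have hr2 : r = 2 := by
      by_contra hr2
      rcases D.prime.odd_of_ne_two hr2 with ⟨a, ha⟩
      rcases hodd with ⟨b, hb⟩
      omega
    have : 1 < p ^ m := Nat.one_lt_pow (by omega) D.hp.one_lt
    omega
  refine ⟨hp2, m, hm, hp2 ▸ hpm, ?_⟩
  rw [hp2] at hcard
  rw [← hcard]
  let f : R →* A :=
    { toFun := fun x => ⟨ρ.toHomUnits x, uMem ρ x.2⟩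
      map_one' := Subtype.ext (map_one _)
      map_mul' := fun a b => Subtype.ext (map_mul _ _ _) }
  have hfs : Function.Surjective f := by
    rintro ⟨_, x, hx, rfl⟩; exact ⟨⟨x, hx⟩, rfl⟩
  have hcomap : (radical ρ R).subgroupOf R = (commKer τ).comap f := by
    ext ⟨x, hx⟩
    exact (hck x hx).symm
  show ((radical ρ R).subgroupOf R).index = _
  rw [hcomap, Subgroup.index_comap_of_surjective _ hfs]
  rfl

/-- Unless `p = 2`, every eigenvalue occurs when `R` fixes nothing. -/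
theorem RepData.exists_eigen [Finite G] [IsAlgClosed K] [FiniteDimensional K V] [Nontrivial V]
    (D : RepData ρ σ r p R Z) (hp : p ≠ 2)
    (hfix : ∀ v : V, (∀ x ∈ R, ρ x v = v) → v = 0) {ζ : K} (hζ : ζ ≠ 0) :
    eigProj r ζ (ρ σ) ≠ 0 := by
  classical
  haveI := Fact.mk D.hp
  let A := unitImage ρ Z
  haveI : Finite A := finite_unitImage ρ Z
  haveI : IsMulCommutative A :=
    isMulCommutative_unitImage ρ fun x hx y hy => D.central x hx y (D.le hy)
  have hA : (Nat.card A : K) ≠ 0 :=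
    card_unitImage_ne_zero ρ D.hpK fun x hx => D.pgroup x (D.le hx)
  obtain ⟨l, hl⟩ := exists_blk_ne_zero (K := K) A hA (one_ne_zero (α := Module.End K V))
  rw [one_mul] at hl
  have hσA : ρ.toHomUnits σ ∈ Subgroup.normalizer (A : Set (Module.End K V)ˣ) :=
    mem_normalizer_unitImage ρ D.normZ
  intro h0
  by_cases hσl : twist A hσA l = l
  swap
  · exact eigProj_mul_blk_ne_zero hA D.prime D.hrK D.pow_eq hσA hσl hl ζ (by rw [h0, zero_mul])
  set e := blk A l with he
  have hRe : R ≤ commStab ρ e := fun x hx =>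
    commute_blk_of_commute (fun z hz => (D.central z hz x hx).symm) l
  have hσe : σ ∈ commStab ρ e := commute_of_twist_eq hσA hσl
  have D' := D.restrictTo hRe hσe
  haveI : Nontrivial (LinearMap.range e) := Submodule.nontrivial_iff_ne_bot.2
    fun h => hl (LinearMap.range_eq_bot.1 h)
  have h0' : eigProj r ζ ((FittingHeightPrime.restrictTo ρ e) ⟨σ, hσe⟩) = 0 := by
    refine LinearMap.ext fun v => Subtype.ext ?_
    rw [LinearMap.zero_apply, Submodule.coe_zero]
    rw [restrictTo_eigProj, h0]; rfl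
  have hfix' : ∀ v : (LinearMap.range e), (∀ x ∈ R.subgroupOf (commStab ρ e), (FittingHeightPrime.restrictTo ρ e) x v = v) → v = 0 := fun v hv =>
    Subtype.ext (hfix v fun x hx =>
      congrArg Subtype.val (hv ⟨x, hRe hx⟩ (Subgroup.mem_subgroupOf.2 hx)))
  by_cases hnab : ∃ x ∈ R.subgroupOf (commStab ρ e), ∃ y ∈ R.subgroupOf (commStab ρ e), ¬ Commute ((FittingHeightPrime.restrictTo ρ e) x) ((FittingHeightPrime.restrictTo ρ e) y)
  · refine hp (D'.exceptional_of_eigProj (fun x hx y hy => ?_) hnab hζ h0').1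
    have hz : ((⁅x, y⁆ : (commStab ρ e)) : G) ∈ Z := Subgroup.mem_subgroupOf.1 (D'.comm_mem x hx y hy)
    refine ⟨(l ⟨ρ.toHomUnits _, uMem ρ hz⟩ : K), LinearMap.ext fun v => Subtype.ext ?_⟩
    obtain ⟨w, hw⟩ := v.2
    rw [restrictTo_apply, LinearMap.smul_apply, Module.End.one_apply, Submodule.coe_smul, ← hw,
      ← Module.End.mul_apply, rho_mul_blk_self hz l, LinearMap.smul_apply]
  push Not at hnab
  let A' := unitImage (FittingHeightPrime.restrictTo ρ e) (R.subgroupOf (commStab ρ e))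
  haveI : Finite A' := finite_unitImage (FittingHeightPrime.restrictTo ρ e) _
  haveI : IsMulCommutative A' := isMulCommutative_unitImage (FittingHeightPrime.restrictTo ρ e) hnab
  have hA' : (Nat.card A' : K) ≠ 0 := card_unitImage_ne_zero (FittingHeightPrime.restrictTo ρ e) D.hpK D'.pgroup
  obtain ⟨m, hm⟩ := exists_blk_ne_zero (K := K) A' hA' (one_ne_zero (α := Module.End K (LinearMap.range e)))
  rw [one_mul] at hm
  have hσA' : (FittingHeightPrime.restrictTo ρ e).toHomUnits ⟨σ, hσe⟩ ∈ Subgroup.normalizer (A' : Set (Module.End K (LinearMap.range e))ˣ) :=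
    mem_normalizer_unitImage (FittingHeightPrime.restrictTo ρ e) D'.normR
  by_cases hσm : twist A' hσA' m = m
  swap
  · exact eigProj_mul_blk_ne_zero hA' D.prime D.hrK D'.pow_eq hσA' hσm hm ζ (by rw [h0', zero_mul])
  refine hm (LinearMap.ext fun v => hfix' _ fun x hx => ?_)
  rw [← Module.End.mul_apply,
    rho_mul_blk_of_mem_commutator D'.normR (commute_of_twist_eq hσA' hσm) (D'.gen hx)]

end CfsgLib.FittingHeightPrime
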