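/-
Three consecutive levels of a tower with an operator: representations and fixed vectors.
-/
import Mathlib
import Cfsg.Agent.Lib.FittingHeightPrime.Fixed
import Cfsg.Agent.Lib.FittingHeightPrime.RepBlocks

set_option autoImplicit false
set_option linter.style.haveILetI false
set_option linter.unusedSectionVars false

open Module
open scoped commutatorElement IsMulCommutative

namespace CfsgLib.FittingHeightPrime

open HallHigmanExc

variable {Γ : Type*} [Group Γ]

/-- `e` moves some fixed element of `U` modulo `M`. -/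
def Moves (σ : Γ) (U M : Subgroup Γ) (e : Γ) : Prop := ∃ w ∈ U, w * σ = σ * w ∧ ⁅e, w⁆ ∉ M

theorem Moves.congr {σ : Γ} {U M : Subgroup Γ} [M.Normal] {e e' : Γ} (h : Moves σ U M e)
    (hb : ∀ w ∈ U, ⁅e'⁻¹ * e, w⁆ ∈ M) : Moves σ U M e' := by
  obtain ⟨w, hw, hwσ, hn⟩ := h
  refine ⟨w, hw, hwσ, fun h' => hn ?_⟩
  rw [show ⁅e, w⁆ = e' * ⁅e'⁻¹ * e, w⁆ * e'⁻¹ * ⁅e', w⁆ by simp [commutatorElement_def, mul_assoc]]
  exact M.mul_mem (Subgroup.Normal.conj_mem inferInstance _ (hb w hw) e') h'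

theorem mem_normalizer_commutator_zpowers {K : Subgroup Γ} [K.Normal] {σ g : Γ}
    (hg : g * σ = σ * g) :
    g ∈ Subgroup.normalizer ((⁅K, Subgroup.zpowers σ⁆ : Subgroup Γ) : Set Γ) := by
  refine Subgroup.mem_normalizer_iff_map_conj_eq.2 ?_
  show ⁅K, Subgroup.zpowers σ⁆.map (MulAut.conj g : Γ →* Γ) = _
  rw [Subgroup.map_commutator, MonoidHom.map_zpowers,
    Subgroup.mem_normalizer_iff_map_conj_eq.1 (mem_normalizer_of_normal K g)]
  congr 2
  show g * σ * g⁻¹ = σ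
  rw [hg, mul_inv_cancel_right]

section SecRep

variable [Finite Γ] {p : ℕ} [Fact p.Prime] {K N : Subgroup Γ} (W : SecRep p K N)

local notation "𝕂" => AlgebraicClosure (ZMod p)

theorem SecRep.vec_one : W.vec 1 = 0 := (W.eq_zero 1 K.one_mem).2 N.one_mem

theorem SecRep.vec_inv {x : Γ} (hx : x ∈ K) : W.vec x⁻¹ = -W.vec x := by
  refine eq_neg_of_add_eq_zero_left ?_
  rw [← W.map_mul _ (K.inv_mem hx) _ hx, inv_mul_cancel, W.vec_one]

theorem SecRep.vec_congr {x y : Γ} (hx : x ∈ K) (hy : y ∈ K) (h : x⁻¹ * y ∈ N) :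
    W.vec x = W.vec y := by
  have h1 := (W.eq_zero _ (K.mul_mem (K.inv_mem hx) hy)).2 h
  rw [W.map_mul _ (K.inv_mem hx) _ hy, W.vec_inv hx, neg_add_eq_zero] at h1
  exact h1

theorem SecRep.vec_comm [K.Normal] {g x : Γ} (hx : x ∈ K) :
    W.vec ⁅g, x⁆ = W.ρ g (W.vec x) - W.vec x := by
  have hc : g * x * g⁻¹ ∈ K := Subgroup.Normal.conj_mem inferInstance x hx g
  rw [commutatorElement_def, W.map_mul _ hc _ (K.inv_mem hx), W.conj g x hx, W.vec_inv hx,
    sub_eq_add_neg]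

theorem SecRep.comm_mem_iff [K.Normal] {g x : Γ} (hx : x ∈ K) :
    ⁅g, x⁆ ∈ N ↔ W.ρ g (W.vec x) = W.vec x := by
  have hc : ⁅g, x⁆ ∈ K := by
    rw [commutatorElement_def]
    exact K.mul_mem (Subgroup.Normal.conj_mem inferInstance x hx g) (K.inv_mem hx)
  rw [← W.eq_zero _ hc, W.vec_comm hx, sub_eq_zero]

/-- `(ρ x - 1) v` lies in the span of the commutators with `x`. -/
theorem SecRep.sub_mem_span [K.Normal] {U R : Subgroup Γ} (hU : ⁅K, R⁆ ≤ U) {x : Γ} (hx : x ∈ R)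
    (v : Fin W.d → 𝕂) : W.ρ x v - v ∈ Submodule.span 𝕂 (W.vec '' (U : Set Γ)) := by
  have hv : v ∈ Submodule.span 𝕂 (W.vec '' (K : Set Γ)) := W.span ▸ Submodule.mem_top
  induction hv using Submodule.span_induction with
  | mem v hv =>
    obtain ⟨y, hy, rfl⟩ := hv
    rw [← W.vec_comm hy]
    refine Submodule.subset_span ⟨_, hU ?_, rfl⟩
    rw [← commutatorElement_inv]
    exact inv_mem (Subgroup.commutator_mem_commutator hy hx)
  | zero => simp
  | add a b _ _ ha hb =>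
    rw [map_add, add_sub_add_comm]
    exact add_mem ha hb
  | smul c a _ ha =>
    rw [map_smul, ← smul_sub]
    exact Submodule.smul_mem _ c ha

/-- The span of the vectors of an invariant subgroup is invariant. -/
theorem SecRep.span_invariant {U : Subgroup Γ} (hUK : U ≤ K) {g : Γ}
    (hg : g ∈ Subgroup.normalizer (U : Set Γ)) {v : Fin W.d → 𝕂}
    (hv : v ∈ Submodule.span 𝕂 (W.vec '' (U : Set Γ))) :
    W.ρ g v ∈ Submodule.span 𝕂 (W.vec '' (U : Set Γ)) := by
  induction hv using Submodule.span_induction with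
  | mem v hv =>
    obtain ⟨y, hy, rfl⟩ := hv
    rw [← W.conj g y (hUK hy)]
    exact Submodule.subset_span ⟨_, CoprimeAction.conj_mem hg hy, rfl⟩
  | zero => simp
  | add a b _ _ ha hb => rw [map_add]; exact add_mem ha hb
  | smul c a _ ha => rw [map_smul]; exact Submodule.smul_mem _ c ha

/-- A vector of the commutator span fixed by `P` vanishes. -/
theorem SecRep.eq_zero_of_fixed [K.Normal] [N.Normal] {P U : Subgroup Γ} (hU : U ≤ ⁅K, P⁆ ⊔ N)
    (hNK : N ≤ K)
    [Finite (unitImage W.ρ P)] (hA : (Nat.card (unitImage W.ρ P) : 𝕂) ≠ 0) {v : Fin W.d → 𝕂}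
    (hv : v ∈ Submodule.span 𝕂 (W.vec '' (U : Set Γ))) (hfix : ∀ x ∈ P, W.ρ x v = v) : v = 0 := by
  classical
  letI := Fintype.ofFinite (unitImage W.ρ P)
  let E : Module.End 𝕂 (Fin W.d → 𝕂) := ∑ a : unitImage W.ρ P,
    ((a : (Module.End 𝕂 (Fin W.d → 𝕂))ˣ) : Module.End 𝕂 (Fin W.d → 𝕂))
  have hE : ∀ x ∈ P, E * W.ρ x = E := fun x hx => by
    simp only [E, Finset.sum_mul]
    refine Fintype.sum_equiv (Equiv.mulRight ⟨_, uMem W.ρ hx⟩) _ _ fun a => ?_
    simp
  let T : Subgroup Γ :=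
    { carrier := {y | y ∈ K ∧ E (W.vec y) = 0}
      one_mem' := ⟨one_mem _, by rw [W.vec_one, map_zero]⟩
      mul_mem' := fun {a b} ha hb => ⟨K.mul_mem ha.1 hb.1, by
        rw [W.map_mul _ ha.1 _ hb.1, map_add, ha.2, hb.2, add_zero]⟩
      inv_mem' := fun {a} ha => ⟨K.inv_mem ha.1, by
        rw [W.vec_inv ha.1, map_neg, ha.2, neg_zero]⟩ }
  have hT : ⁅K, P⁆ ⊔ N ≤ T := by
    refine sup_le (Subgroup.commutator_le.2 fun y hy x hx => ?_) fun y hy =>
      ⟨hNK hy, by rw [(W.eq_zero y (hNK hy)).2 hy, map_zero]⟩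
    rw [← commutatorElement_inv]
    refine T.inv_mem ⟨?_, ?_⟩
    · rw [commutatorElement_def]
      exact K.mul_mem (Subgroup.Normal.conj_mem inferInstance y hy x) (K.inv_mem hy)
    · rw [W.vec_comm hy, map_sub, ← Module.End.mul_apply, hE x hx, sub_self]
  have h0 : E v = 0 := by
    clear hfix
    induction hv using Submodule.span_induction with
    | mem v hv =>
      obtain ⟨y, hy, rfl⟩ := hv
      exact (hT (hU hy)).2
    | zero => simp
    | add a b _ _ ha hb => rw [map_add, ha, hb, add_zero]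
    | smul c a _ ha => rw [map_smul, ha, smul_zero]
  have h1 : E v = (Nat.card (unitImage W.ρ P) : 𝕂) • v := by
    simp only [E, LinearMap.sum_apply]
    rw [Nat.card_eq_fintype_card, Nat.cast_smul_eq_nsmul, ← Finset.card_univ, ← Finset.sum_const]
    refine Finset.sum_congr rfl ?_
    rintro ⟨_, x, hx, rfl⟩ -
    exact hfix x hx
  exact (smul_eq_zero.1 (h1.symm.trans h0)).resolve_left hA

variable {L : Subgroup Γ} {σ : Γ} {r : ℕ}

theorem rho_mul_orbitSum {G : Type*} [Group G] {F : Type*} [Field F] {V : Type*} [AddCommGroup V]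
    [Module F V] (ρ : G →* Module.End F V) {g : G} {r : ℕ} (hg : g ^ r = 1) :
    ρ g * orbitSum ρ g r = orbitSum ρ g r := by
  have h := mul_geom_sum (ρ g) r
  rw [← map_pow, hg, map_one, sub_self, sub_mul, one_mul, sub_eq_zero] at h
  exact h

/-- The orbit sum of a vector of `U` is the vector of a fixed element of `U`. -/
theorem SecRep.exists_fixed_orbit [N.Normal] (hc : Ctx L σ r) {U : Subgroup Γ} (hUK : U ≤ K)
    (hKL : K ≤ L) (hNU : N ≤ U) (hσ : σ ∈ Subgroup.normalizer (U : Set Γ)) {w : Γ} (hw : w ∈ U) :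
    ∃ c ∈ U, c * σ = σ * c ∧ W.vec c = orbitSum W.ρ σ r (W.vec w) := by
  have hsum : ∀ n : ℕ, ∃ u ∈ U, W.vec u = (∑ i ∈ Finset.range n, W.ρ σ ^ i) (W.vec w) := by
    intro n
    induction n with
    | zero => exact ⟨1, one_mem _, by rw [W.vec_one]; simp⟩
    | succ n ih =>
      obtain ⟨u, hu, huv⟩ := ih
      have hw' : σ ^ n * w * (σ ^ n)⁻¹ ∈ U := CoprimeAction.conj_mem (pow_mem hσ n) hw
      refine ⟨u * (σ ^ n * w * (σ ^ n)⁻¹), mul_mem hu hw', ?_⟩
      rw [W.map_mul _ (hUK hu) _ (hUK hw'), W.conj _ _ (hUK hw), huv, Finset.sum_range_succ,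
        LinearMap.add_apply, map_pow]
  obtain ⟨u, hu, huv⟩ := hsum r
  have hu' : σ * u * σ⁻¹ ∈ U := CoprimeAction.conj_mem hσ hu
  have hfix : ⁅σ, u⁆ ∈ N := by
    have h1 : W.vec ⁅σ, u⁆ = 0 := by
      rw [commutatorElement_def, W.map_mul _ (hUK hu') _ (K.inv_mem (hUK hu)),
        W.conj _ _ (hUK hu), W.vec_inv (hUK hu), huv, ← Module.End.mul_apply,
        show W.ρ σ * ∑ i ∈ Finset.range r, W.ρ σ ^ i = ∑ i ∈ Finset.range r, W.ρ σ ^ i from
          rho_mul_orbitSum W.ρ hc.pow_eq, add_neg_cancel]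
    refine (W.eq_zero _ ?_).1 h1
    rw [commutatorElement_def]
    exact hUK (U.mul_mem hu' (U.inv_mem hu))
  obtain ⟨c, hcU, hcσ, hcu⟩ := hc.exists_fixed (hUK.trans hKL) hNU
    (fun a _ => mem_normalizer_of_normal N a) (mem_normalizer_of_normal N σ) hu hfix
  exact ⟨c, hcU, hcσ, (W.vec_congr (hUK hcU) (hUK hu) hcu).trans huv⟩

/-- An element moving no fixed element of `U` fixes the orbit sums of the span of `U`. -/
theorem SecRep.fixes_orbitSum [K.Normal] [N.Normal] (hc : Ctx L σ r) {U : Subgroup Γ} (hUK : U ≤ K)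
    (hKL : K ≤ L) (hNU : N ≤ U) (hσ : σ ∈ Subgroup.normalizer (U : Set Γ)) {e : Γ}
    (he : ¬ Moves σ U N e) {v : Fin W.d → 𝕂}
    (hv : v ∈ Submodule.span 𝕂 (W.vec '' (U : Set Γ))) :
    W.ρ e (orbitSum W.ρ σ r v) = orbitSum W.ρ σ r v := by
  induction hv using Submodule.span_induction with
  | mem v hv =>
    obtain ⟨w, hw, rfl⟩ := hv
    obtain ⟨c, hcU, hcσ, hcv⟩ := W.exists_fixed_orbit hc hUK hKL hNU hσ hw
    rw [← hcv, ← W.comm_mem_iff (hUK hcU)]
    by_contra h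
    exact he ⟨c, hcU, hcσ, h⟩
  | zero => simp
  | add a b _ _ ha hb => rw [map_add, map_add, ha, hb]
  | smul c a _ ha => rw [map_smul, map_smul, ha]

end SecRep

/-- The data of three consecutive levels. -/
structure Triple (L : Subgroup Γ) (σ : Γ) (r : ℕ) (p : ℕ) (K B : Subgroup Γ) (p' : ℕ)
    (K' B' : Subgroup Γ) (p'' : ℕ) (K'' B'' : Subgroup Γ) : Prop where
  ctx : Ctx L σ r
  lev : IsLevel p K B
  lev' : IsLevel p' K' B'
  lev'' : IsLevel p'' K'' B''
  link : Link p K B p' K' B'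
  link' : Link p' K' B' p'' K'' B''
  le : K ≤ L
  le' : K' ≤ L
  le'' : K'' ≤ L

theorem IsLevel.prime_ne [Finite Γ] {L : Subgroup Γ} {σ : Γ} {r : ℕ} (hc : Ctx L σ r) {p : ℕ}
    {K B : Subgroup Γ} (h : IsLevel p K B) (hK : K ≤ L) : r ≠ p := by
  intro hrp
  obtain ⟨x, hx, hxB⟩ := SetLike.exists_of_lt h.lt'
  obtain ⟨a, ha⟩ := h.pgroup x hx
  obtain ⟨t, ht⟩ := exists_pow_eq_self_of_coprime (x := x)
    (((hc.cop_elt (hK hx)).pow_left a))
  rw [hrp] at ht
  exact hxB (ht ▸ B.pow_mem ha t)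

section Pair

variable [Finite Γ] {L : Subgroup Γ} {σ : Γ} {r p p' : ℕ} {K B K' B' : Subgroup Γ}

theorem Link.rho_eq_one_iff [Fact p'.Prime] (hl : Link p K B p' K' B')
    (W : SecRep p' K' (secFrattini p' K' B')) {x : Γ} (hx : x ∈ K) :
    W.ρ x = 1 ↔ x ∈ B := by
  rw [W.rho_eq_one, hl.kernel x hx]

theorem Link.exists_pow_rho [Fact p'.Prime] (hl : Link p K B p' K' B') (hlev : IsLevel p K B)
    (W : SecRep p' K' (secFrattini p' K' B')) {x : Γ} (hx : x ∈ K) :
    ∃ a, W.ρ x ^ p ^ a = 1 := by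
  obtain ⟨a, ha⟩ := hlev.pgroup x hx
  refine ⟨a, ?_⟩
  rw [← map_pow]
  exact (hl.rho_eq_one_iff W (K.pow_mem hx _)).2 ha

theorem Link.pK_ne_zero [Fact p'.Prime] (hl : Link p K B p' K' B') (hlev : IsLevel p K B) :
    (p : AlgebraicClosure (ZMod p')) ≠ 0 := by
  rw [Ne, CharP.cast_eq_zero_iff _ p']
  exact fun h => hl.ne ((Nat.prime_dvd_prime_iff_eq Fact.out hlev.prime).1 h).symm

theorem Link.rK_ne_zero [Fact p'.Prime] (hc : Ctx L σ r) (hlev' : IsLevel p' K' B') (hK' : K' ≤ L) :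
    (r : AlgebraicClosure (ZMod p')) ≠ 0 := by
  rw [Ne, CharP.cast_eq_zero_iff _ p']
  exact fun h => hlev'.prime_ne hc hK' ((Nat.prime_dvd_prime_iff_eq Fact.out hc.prime).1 h).symm

theorem Link.card_unitImage [Fact p'.Prime] (hl : Link p K B p' K' B') (hlev : IsLevel p K B)
    (W : SecRep p' K' (secFrattini p' K' B')) {P : Subgroup Γ} (hP : P ≤ K) :
    (Nat.card (unitImage W.ρ P) : AlgebraicClosure (ZMod p')) ≠ 0 := by
  haveI := Fact.mk hlev.prime
  exact card_unitImage_ne_zero W.ρ (hl.pK_ne_zero hlev) fun x hx =>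
    hl.exists_pow_rho hlev W (hP hx)

theorem Link.repData [Fact p'.Prime] (hc : Ctx L σ r) (hl : Link p K B p' K' B')
    (hlev : IsLevel p K B) (hlev' : IsLevel p' K' B') (hK : K ≤ L) (hK' : K' ≤ L)
    (W : SecRep p' K' (secFrattini p' K' B')) :
    RepData W.ρ σ r p ⁅K, Subgroup.zpowers σ⁆
      (⁅K, Subgroup.zpowers σ⁆ ⊓ secFrattini p K B) := by
  haveI := hlev.normalK
  haveI := hlev.normalB
  have hRK : ⁅K, Subgroup.zpowers σ⁆ ≤ K := Subgroup.commutator_le_left K _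
  exact
  { prime := hc.prime
    pow_eq := hc.pow_eq
    normR := mem_normalizer_commutator_zpowers rfl
    normZ := CoprimeAction.mem_normalizer_of_conj_mem fun x hx =>
      ⟨CoprimeAction.conj_mem (mem_normalizer_commutator_zpowers rfl) hx.1,
        Subgroup.Normal.conj_mem inferInstance x hx.2 σ⟩
    le := inf_le_left
    cop := hc.cop_r (hRK.trans hK)
    gen := hc.gen hK
    fixed_mem := fun c hcR hcσ => ⟨hcR, hc.fixed_mem hlev hK hcR hcσ⟩
    comm_mem := fun x hx y hy => ⟨Subgroup.commutator_le_self _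
      (Subgroup.commutator_mem_commutator hx hy),
      commutator_le_secFrattini p K B (Subgroup.commutator_mem_commutator (hRK hx) (hRK hy))⟩
    central := fun z hz x hx => by
      have h1 : W.ρ ⁅z, x⁆ = 1 := (hl.rho_eq_one_iff W (by
        rw [commutatorElement_def]
        exact K.mul_mem (K.mul_mem (K.mul_mem (hRK hz.1) (hRK hx)) (K.inv_mem (hRK hz.1)))
          (K.inv_mem (hRK hx)))).2 (hlev.central z hz.2 x (hRK hx))
      show W.ρ z * W.ρ x = W.ρ x * W.ρ z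
      rw [← map_mul, ← map_mul, show z * x = ⁅z, x⁆ * (x * z) by
        rw [commutatorElement_def]; group, map_mul, h1, one_mul]
    pgroup := fun x hx => hl.exists_pow_rho hlev W (hRK hx)
    hp := hlev.prime
    hpK := hl.pK_ne_zero hlev
    hrK := Link.rK_ne_zero hc hlev' hK' }

theorem le_movedSpan_normalizer [K'.Normal] {M' : Subgroup Γ} [M'.Normal] {R : Subgroup Γ} :
    R ≤ Subgroup.normalizer ((⁅K', R⁆ ⊔ M' : Subgroup Γ) : Set Γ) := fun _ hg =>
  mem_normalizer_span (Subgroup.le_normalizer hg)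

end Pair

end CfsgLib.FittingHeightPrime
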