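/-
An orbit argument for an element of prime order acting on an abelian group with a separating family
of characters: fixed vectors killed by every moved character.
-/
import Mathlib
import Cfsg.Agent.Lib.CoprimeAction.Basic

set_option autoImplicit false
set_option linter.style.haveILetI false

open scoped commutatorElement

namespace CfsgLib.FittingHeightPrime

variable {Γ : Type*} [Group Γ] {V : Type*} [CommGroup V] {A : Type*} [CommGroup A]

/-- The action on homomorphisms. -/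
def act (φ : Γ →* MulAut V) (g : Γ) (l : V →* A) : V →* A := l.comp (φ g⁻¹).toMonoidHom

theorem act_apply (φ : Γ →* MulAut V) (g : Γ) (l : V →* A) (v : V) :
    act φ g l v = l (φ g⁻¹ v) := rfl

theorem act_one (φ : Γ →* MulAut V) (l : V →* A) : act φ 1 l = l := by
  ext v; simp [act_apply]

theorem act_mul (φ : Γ →* MulAut V) (g h : Γ) (l : V →* A) :
    act φ (g * h) l = act φ g (act φ h l) := by
  ext v; simp [act_apply]

theorem act_congr {φ : Γ →* MulAut V} {g h : Γ} (hgh : φ g = φ h) (l : V →* A) :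
    act φ g l = act φ h l := by
  ext v; rw [act_apply, act_apply, map_inv, map_inv, hgh]

theorem act_inv_eq {φ : Γ →* MulAut V} {g : Γ} {l m : V →* A} (h : act φ g l = m) :
    act φ g⁻¹ m = l := by
  rw [← h, ← act_mul, inv_mul_cancel, act_one]

theorem act_injective (φ : Γ →* MulAut V) (g : Γ) {l m : V →* A} (h : act φ g l = act φ g m) :
    l = m := by
  rw [← act_inv_eq h, ← act_mul, inv_mul_cancel, act_one]

/-- The common hypotheses. -/
structure Setup (φ : Γ →* MulAut V) (Ω : Set (V →* A)) (σ : Γ) (r : ℕ) (R : Subgroup Γ) : Prop where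
  prime : r.Prime
  pow_eq : σ ^ r = 1
  normalizes : σ ∈ Subgroup.normalizer (R : Set Γ)
  coprime : r.Coprime (Nat.card R)
  inv : ∀ g : Γ, ∀ l ∈ Ω, act φ g l ∈ Ω
  sep : ∀ v : V, (∀ l ∈ Ω, l v = 1) → v = 1
  central : ∀ c ∈ R, c * σ = σ * c → ∀ x ∈ R, φ (c * x) = φ (x * c)
  gen : R ≤ ⁅R, Subgroup.zpowers σ⁆

/-- The product over the powers of `σ`. -/
def orbitProd (φ : Γ →* MulAut V) (σ : Γ) (r : ℕ) (v : V) : V :=
  ∏ j ∈ Finset.range r, φ (σ ^ j) v

theorem orbitProd_commute {φ : Γ →* MulAut V} {σ e : Γ} (r : ℕ) (h : e * σ = σ * e) (v : V) :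
    φ e (orbitProd φ σ r v) = orbitProd φ σ r (φ e v) := by
  simp only [orbitProd, map_prod]
  refine Finset.prod_congr rfl fun j _ => ?_
  rw [← MulAut.mul_apply, ← MulAut.mul_apply, ← map_mul, ← map_mul,
    ((show Commute e σ from h).pow_right j).eq]

/-- `z` is killed by all moved characters. -/
def KillsMoved (φ : Γ →* MulAut V) (Ω : Set (V →* A)) (σ : Γ) (z : V) : Prop :=
  ∀ l ∈ Ω, act φ σ l ≠ l → l z = 1

variable {φ : Γ →* MulAut V} {Ω : Set (V →* A)} {σ : Γ} {r : ℕ} {R : Subgroup Γ}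

theorem act_pow_of_fix {l : V →* A} {g : Γ} (h : act φ g l = l) (j : ℕ) : act φ (g ^ j) l = l := by
  induction j with
  | zero => rw [pow_zero, act_one]
  | succ j ih => rw [pow_succ, act_mul, h, ih]

theorem act_zpow_of_fix {l : V →* A} {g : Γ} (h : act φ g l = l) (j : ℤ) :
    act φ (g ^ j) l = l := by
  cases j with
  | ofNat n => rw [Int.ofNat_eq_natCast, zpow_natCast]; exact act_pow_of_fix h n
  | negSucc n => rw [zpow_negSucc]; exact act_inv_eq (act_pow_of_fix h (n + 1))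

theorem KillsMoved.of_commute (hinv : ∀ g : Γ, ∀ l ∈ Ω, act φ g l ∈ Ω) {z : V}
    (hz : KillsMoved φ Ω σ z) {e : Γ} (he : e * σ = σ * e) : KillsMoved φ Ω σ (φ e z) := by
  intro l hl hm
  have h : act φ e⁻¹ l z = 1 := hz _ (hinv _ l hl) fun hf => hm (by
    refine act_injective φ e⁻¹ ?_
    rw [← act_mul, (show Commute e⁻¹ σ from (show Commute e σ from he).inv_left).eq, act_mul, hf])
  rwa [act_apply, inv_inv] at h

variable [Finite Γ] (S : Setup φ Ω σ r R)

include S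

theorem Setup.conj_mem {x : Γ} (hx : x ∈ R) (j : ℕ) : σ ^ j * x * (σ ^ j)⁻¹ ∈ R :=
  CoprimeAction.conj_mem (Subgroup.pow_mem _ S.normalizes j) hx

/-- A fixed translate of a fixed character is a translate by a fixed element of `R`. -/
theorem Setup.exists_fixed_rep {l : V →* A} (hl : act φ σ l = l) {y : Γ} (hy : y ∈ R)
    (hfix : act φ σ (act φ y l) = act φ y l) :
    ∃ c ∈ R, c * σ = σ * c ∧ act φ y l = act φ c l := by
  let St : Subgroup Γ :=
    { carrier := {x | x ∈ R ∧ act φ x l = l}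
      mul_mem' := fun {a b} ha hb => ⟨R.mul_mem ha.1 hb.1, by rw [act_mul, hb.2, ha.2]⟩
      one_mem' := ⟨R.one_mem, act_one φ l⟩
      inv_mem' := fun {a} ha => ⟨R.inv_mem ha.1, act_inv_eq ha.2⟩ }
  have hSR : St ≤ R := fun x hx => hx.1
  have hA : Subgroup.zpowers σ ≤ Subgroup.normalizer (St : Set Γ) := by
    refine Subgroup.zpowers_le.2 (CoprimeAction.mem_normalizer_of_conj_mem fun x hx => ?_)
    refine ⟨CoprimeAction.conj_mem S.normalizes hx.1, ?_⟩
    rw [act_mul, act_mul, act_inv_eq hl, hx.2, hl]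
  have hcopR : (Nat.card (Subgroup.zpowers σ)).Coprime (Nat.card R) := by
    rw [Nat.card_zpowers]
    exact S.coprime.coprime_dvd_left (orderOf_dvd_of_pow_eq_one S.pow_eq)
  obtain ⟨c, hc, hcy⟩ := CoprimeAction.exists_centralizer_mem_coset_of_le hA hSR
    (hcopR.coprime_dvd_right (Subgroup.card_dvd_of_le hSR))
    (Or.inl (CoprimeAction.isSolvable_zpowers σ)) hy fun a ha => by
      obtain ⟨j, rfl⟩ := Subgroup.mem_zpowers_iff.1 ha
      refine ⟨R.mul_mem (R.inv_mem hy) (CoprimeAction.conj_mem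
        (Subgroup.zpow_mem _ S.normalizes j) hy), ?_⟩
      rw [act_mul, act_mul, act_mul, act_inv_eq (act_zpow_of_fix hl j), act_zpow_of_fix hfix j,
        ← act_mul, inv_mul_cancel, act_one]
  refine ⟨c, hc.1, (Subgroup.mem_centralizer_iff.1 hc.2 σ (Subgroup.mem_zpowers σ)).symm, ?_⟩
  rw [show c = y * (y⁻¹ * c) by group, act_mul, hcy.2]

theorem Setup.act_central {c x : Γ} (hc : c ∈ R) (hcσ : c * σ = σ * c) (hx : x ∈ R) (l : V →* A) :
    act φ c (act φ x l) = act φ x (act φ c l) := by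
  rw [← act_mul, ← act_mul, act_congr (S.central c hc hcσ x hx)]

omit [Finite Γ] in
theorem Setup.fix_of_pow {m : V →* A} {j : ℕ} (hj : 0 < j) (hjr : j < r)
    (h : act φ (σ ^ j) m = m) : act φ σ m = m := by
  have hcop : j.Coprime r :=
    ((Nat.Prime.coprime_iff_not_dvd S.prime).2 (Nat.not_dvd_of_pos_of_lt hj hjr)).symm
  obtain ⟨t, -, ht⟩ := Nat.exists_mul_mod_eq_one_of_coprime hcop S.prime.one_lt
  have h1 : σ = (σ ^ j) ^ t := by
    rw [← pow_mul]
    conv_lhs => rw [← pow_one σ, ← ht]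
    exact pow_eq_pow_mod _ S.pow_eq |>.symm
  rw [h1]
  exact act_pow_of_fix h t

/-- Only the trivial translate is fixed. -/
theorem Setup.translate_moved {l : V →* A} (hl : act φ σ l = l) {x : Γ} (hx : x ∈ R)
    (hm : act φ σ (act φ x l) ≠ act φ x l) {j : ℕ} (hj : 0 < j) (hjr : j < r) :
    act φ σ (act φ ((σ ^ j * x * (σ ^ j)⁻¹)⁻¹ * x) l) ≠
      act φ ((σ ^ j * x * (σ ^ j)⁻¹)⁻¹ * x) l := by
  intro hfix
  have hxj := S.conj_mem hx j
  obtain ⟨c, hc, hcσ, heq⟩ := S.exists_fixed_rep hl (R.mul_mem (R.inv_mem hxj) hx) hfix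
  set m := act φ x l with hmdef
  set s := σ ^ j with hs
  have hs1 : act φ s l = l := act_pow_of_fix hl j
  have hcs : Commute c s := (show Commute c σ from hcσ).pow_right j
  have e1 : m = act φ (s * x * s⁻¹) (act φ c l) := by
    rw [← heq, ← act_mul, mul_inv_cancel_left]
  have e2 : m = act φ (s * c) m := by
    conv_lhs => rw [e1]
    rw [act_mul, act_mul, ← act_mul φ s⁻¹ c, hcs.inv_right.symm.eq, act_mul, act_inv_eq hs1,
      ← S.act_central hc hcσ hx, ← act_mul]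
  have e3 : act φ (c ^ r) m = m := by
    have h := act_pow_of_fix e2.symm r
    rw [hcs.symm.mul_pow, hs, ← pow_mul, mul_comm j, pow_mul, S.pow_eq, one_pow, one_mul] at h
    exact h
  have e4 : act φ c m = m := by
    obtain ⟨t, ht⟩ := exists_pow_eq_self_of_coprime
      (S.coprime.coprime_dvd_right (by
        rw [← Nat.card_zpowers]
        exact Subgroup.card_dvd_of_le (Subgroup.zpowers_le.2 hc)) : r.Coprime (orderOf c))
    rw [← ht]
    exact act_pow_of_fix e3 t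
  exact hm (S.fix_of_pow hj hjr (by
    have := e2.symm
    rwa [act_mul, e4] at this))

/-- Evaluation of the orbit product of a translate at a moved translate. -/
theorem Setup.apply_orbitProd {l : V →* A} (hl : act φ σ l = l) (hlΩ : l ∈ Ω) {x x' : Γ}
    (hx : x ∈ R) (hm : act φ σ (act φ x l) ≠ act φ x l)
    (hx' : ∀ j, act φ ((σ ^ j * x' * (σ ^ j)⁻¹)⁻¹ * x) l =
      act φ ((σ ^ j * x * (σ ^ j)⁻¹)⁻¹ * x) l)
    {u : V} (hu : φ σ u = u) (hku : KillsMoved φ Ω σ u) :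
    act φ x l (orbitProd φ σ r (φ x' u)) = l u := by
  have hterm : ∀ j, act φ x l (φ (σ ^ j) (φ x' u)) =
      act φ ((σ ^ j * x * (σ ^ j)⁻¹)⁻¹ * x) l u := by
    intro j
    have hu' : ∀ k : ℕ, φ (σ ^ k) u = u := fun k => by
      induction k with
      | zero => simp
      | succ k ih => rw [pow_succ, map_mul, MulAut.mul_apply, hu, ih]
    have hu'' : φ (σ ^ j)⁻¹ u = u := by
      conv_lhs => rw [← hu' j]
      rw [← MulAut.mul_apply, ← map_mul, inv_mul_cancel, map_one, MulAut.one_apply]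
    have h1 : φ (σ ^ j) (φ x' u) = φ (σ ^ j * x' * (σ ^ j)⁻¹) u := by
      rw [map_mul, map_mul, MulAut.mul_apply, MulAut.mul_apply, hu'']
    rw [h1, ← hx' j, act_apply, act_apply, ← MulAut.mul_apply, ← map_mul, mul_inv_rev, inv_inv]
  rw [orbitProd, map_prod, Finset.prod_eq_single 0]
  · rw [hterm 0]; simp [act_one]
  · intro j hj hj0
    rw [hterm j]
    exact hku _ (S.inv _ _ hlΩ)
      (S.translate_moved hl hx hm (Nat.pos_of_ne_zero hj0) (Finset.mem_range.1 hj))
  · exact fun h => absurd (Finset.mem_range.2 S.prime.pos) h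

/-- A character fixed by `σ` but not by all of `R` has a moved translate. -/
theorem Setup.exists_moved {l : V →* A} (hl : act φ σ l = l)
    (hR : ∃ x ∈ R, act φ x l ≠ l) : ∃ x ∈ R, act φ σ (act φ x l) ≠ act φ x l := by
  by_contra! hall
  obtain ⟨x, hx, hxl⟩ := hR
  let T : Subgroup Γ :=
    { carrier := {x | act φ x l = l}
      mul_mem' := fun {a b} ha hb => by
        show act φ (a * b) l = l
        rw [act_mul, hb, ha]
      one_mem' := act_one φ l
      inv_mem' := fun {a} ha => act_inv_eq ha }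
  have : ⁅R, Subgroup.zpowers σ⁆ ≤ T := Subgroup.commutator_le.2 fun y hy a ha => by
    obtain ⟨k, rfl⟩ := Subgroup.mem_zpowers_iff.1 ha
    show act φ ⁅y, σ ^ k⁆ l = l
    rw [commutatorElement_def, act_mul, act_mul, act_mul, act_inv_eq (act_zpow_of_fix hl k),
      act_zpow_of_fix (hall y⁻¹ (R.inv_mem hy)) k, ← act_mul, mul_inv_cancel, act_one]
  exact hxl (this (S.gen hx))

/-- A fixed vector of `[V, R]` whose orbit products of translates are killed by the moved
characters is trivial. -/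
theorem Setup.eq_one {z : V} (hz : φ σ z = z) (hk : KillsMoved φ Ω σ z)
    (hU : ∀ l ∈ Ω, (∀ x ∈ R, act φ x l = l) → l z = 1)
    (hH : ∀ x ∈ R, KillsMoved φ Ω σ (orbitProd φ σ r (φ x z))) : z = 1 := by
  refine S.sep z fun l hl => ?_
  by_cases hσl : act φ σ l = l
  swap; · exact hk l hl hσl
  by_cases hR : ∀ x ∈ R, act φ x l = l
  · exact hU l hl hR
  push Not at hR
  obtain ⟨x, hx, hm⟩ := S.exists_moved hσl hR
  rw [← S.apply_orbitProd hσl hl hx hm (fun j => rfl) hz hk]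
  exact hH x hx _ (S.inv _ _ hl) hm

/-- If `e` fixes the orbit products of the translates of `z` modulo the moved characters then `e`
fixes `z`; here `e` commutes with `R` up to a central subgroup `Z`. -/
theorem Setup.fixed_of_commute {e : Γ} (he : e * σ = σ * e) {Z : Subgroup Γ} (hZR : Z ≤ R)
    (hZ : ∀ w ∈ Z, ∀ x ∈ R, φ (w * x) = φ (x * w)) (heZ : ∀ w ∈ Z, φ (e * w * e⁻¹) = φ w)
    (hσZ : σ ∈ Subgroup.normalizer (Z : Set Γ))
    (hw : ∀ x ∈ R, ∃ w ∈ Z, φ (e * x * e⁻¹) = φ (x * w))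
    {z : V} (hz : φ σ z = z) (hk : KillsMoved φ Ω σ z)
    (hU : ∀ l ∈ Ω, (∀ x ∈ R, act φ x l = l) → l z = 1 ∧ l (φ e z) = 1)
    (hH : ∀ x ∈ R, ∀ l ∈ Ω, act φ σ l ≠ l →
      l (φ e (orbitProd φ σ r (φ x z))) = l (orbitProd φ σ r (φ x z))) : φ e z = z := by
  have hez : φ σ (φ e z) = φ e z := by
    rw [← MulAut.mul_apply, ← map_mul, ← he, map_mul, MulAut.mul_apply, hz]
  have hke := hk.of_commute S.inv he
  refine (mul_inv_eq_one.1 (S.sep (φ e z * z⁻¹) fun l hl => ?_))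
  rw [map_mul, map_inv, mul_inv_eq_one]
  by_cases hσl : act φ σ l = l
  swap; · rw [hk l hl hσl, hke l hl hσl]
  by_cases hR : ∀ x ∈ R, act φ x l = l
  · rw [(hU l hl hR).1, (hU l hl hR).2]
  push Not at hR
  -- a moved translate whose commutator with `e` fixes `l`
  obtain ⟨x, hx, hm, w, hwR, hwZ, hxw, hwl⟩ : ∃ x ∈ R, act φ σ (act φ x l) ≠ act φ x l ∧
      ∃ w ∈ R, w ∈ Z ∧ φ (e * x * e⁻¹) = φ (x * w) ∧ act φ w l = l := by
    by_cases hZm : ∃ x ∈ Z, act φ σ (act φ x l) ≠ act φ x l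
    · obtain ⟨x, hxZ, hm⟩ := hZm
      exact ⟨x, hZR hxZ, hm, 1, R.one_mem, Z.one_mem, by rw [heZ x hxZ, mul_one], act_one φ l⟩
    push Not at hZm
    obtain ⟨x, hx, hm⟩ := S.exists_moved hσl hR
    let N : Subgroup Γ :=
      { carrier := {x | x ∈ R ∧ ∃ w ∈ Z, φ (e * x * e⁻¹) = φ (x * w) ∧ act φ w l = l}
        mul_mem' := by
          rintro a b ⟨ha, wa, hwa, hea, hla⟩ ⟨hb, wb, hwb, heb, hlb⟩
          refine ⟨R.mul_mem ha hb, wa * wb, Z.mul_mem hwa hwb, ?_, by rw [act_mul, hlb, hla]⟩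
          calc φ (e * (a * b) * e⁻¹) = φ (e * a * e⁻¹) * φ (e * b * e⁻¹) := by
                rw [← map_mul]; exact congrArg φ (by group)
            _ = φ a * φ (wa * b) * φ wb := by rw [hea, heb]; simp [map_mul, mul_assoc]
            _ = _ := by rw [hZ wa hwa b hb]; simp [map_mul, mul_assoc]
        one_mem' := ⟨R.one_mem, 1, Z.one_mem, by simp, act_one φ l⟩
        inv_mem' := by
          rintro a ⟨ha, wa, hwa, hea, hla⟩
          refine ⟨R.inv_mem ha, wa⁻¹, Z.inv_mem hwa, ?_, act_inv_eq hla⟩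
          calc φ (e * a⁻¹ * e⁻¹) = (φ (e * a * e⁻¹))⁻¹ := by
                rw [← map_inv]; exact congrArg φ (by group)
            _ = _ := by
              rw [hea, ← map_inv, mul_inv_rev]
              exact hZ _ (Z.inv_mem hwa) _ (R.inv_mem ha) }
    have hcomm : ⁅R, Subgroup.zpowers σ⁆ ≤ N := Subgroup.commutator_le.2 fun y hy a ha => by
      obtain ⟨k, rfl⟩ := Subgroup.mem_zpowers_iff.1 ha
      have hσk := Subgroup.zpow_mem _ S.normalizes k
      obtain ⟨wy, hwy, hey⟩ := hw y hy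
      have hek : Commute e (σ ^ k) := (show Commute e σ from he).zpow_right k
      have hconjR : σ ^ k * y⁻¹ * (σ ^ k)⁻¹ ∈ R := CoprimeAction.conj_mem hσk (R.inv_mem hy)
      have hZk : σ ^ k * wy⁻¹ * (σ ^ k)⁻¹ ∈ Z :=
        CoprimeAction.conj_mem (Subgroup.zpow_mem _ hσZ k) (Z.inv_mem hwy)
      refine ⟨by rw [show ⁅y, σ ^ k⁆ = y * (σ ^ k * y⁻¹ * (σ ^ k)⁻¹) by
          rw [commutatorElement_def]; simp only [mul_assoc]]
                 exact R.mul_mem hy hconjR,
        wy * (σ ^ k * wy⁻¹ * (σ ^ k)⁻¹), Z.mul_mem hwy hZk, ?_, ?_⟩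
      · have h2 : φ (e * y⁻¹ * e⁻¹) = φ (y⁻¹ * wy⁻¹) := by
          rw [show e * y⁻¹ * e⁻¹ = (e * y * e⁻¹)⁻¹ by group, map_inv, hey, ← map_inv, mul_inv_rev]
          exact hZ _ (Z.inv_mem hwy) _ (R.inv_mem hy)
        calc φ (e * ⁅y, σ ^ k⁆ * e⁻¹)
            = φ (e * y * e⁻¹) * φ (σ ^ k * (e * y⁻¹ * e⁻¹) * (σ ^ k)⁻¹) := by
              rw [← map_mul]
              refine congrArg φ ?_
              have h1 := hek.eq
              rw [commutatorElement_def]
              calc e * (y * σ ^ k * y⁻¹ * (σ ^ k)⁻¹) * e⁻¹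
                  = e * y * e⁻¹ * (e * σ ^ k) * y⁻¹ * ((σ ^ k)⁻¹ * e⁻¹) := by group
                _ = e * y * e⁻¹ * (σ ^ k * e) * y⁻¹ * (e⁻¹ * (σ ^ k)⁻¹) := by
                  rw [h1, hek.inv_inv.symm.eq]
                _ = _ := by group
          _ = φ (y * wy) * φ (σ ^ k * y⁻¹ * (σ ^ k)⁻¹ * (σ ^ k * wy⁻¹ * (σ ^ k)⁻¹)) := by
              rw [hey]
              refine congrArg _ ?_
              rw [map_mul, map_mul, h2, ← map_mul, ← map_mul]
              exact congrArg φ (by group)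
          _ = φ y * φ (wy * (σ ^ k * y⁻¹ * (σ ^ k)⁻¹)) * φ (σ ^ k * wy⁻¹ * (σ ^ k)⁻¹) := by
              simp [map_mul, mul_assoc]
          _ = _ := by
              rw [hZ wy hwy _ hconjR, commutatorElement_def]
              simp [map_mul, mul_assoc]
      · rw [act_mul, act_mul, act_mul, act_inv_eq (act_zpow_of_fix hσl k),
          act_zpow_of_fix (hZm _ (Z.inv_mem hwy)) k, ← act_mul, mul_inv_cancel, act_one]
    obtain ⟨-, w, hwZ, hew, hwl⟩ := hcomm (S.gen hx)
    exact ⟨x, hx, hm, w, hZR hwZ, hwZ, hew, hwl⟩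
  have h2 := hH x hx _ (S.inv x l hl) hm
  rw [S.apply_orbitProd hσl hl hx hm (fun j => rfl) hz hk, orbitProd_commute r he,
    show φ e (φ x z) = φ (x * w) (φ e z) by
      rw [← hxw, ← MulAut.mul_apply, ← MulAut.mul_apply, ← map_mul, ← map_mul,
        inv_mul_cancel_right],
    S.apply_orbitProd hσl hl hx hm ?_ hez hke] at h2
  · exact h2
  · intro j
    have hcw : act φ (σ ^ j * w * (σ ^ j)⁻¹)⁻¹ l = l := by
      refine act_inv_eq ?_
      rw [act_mul, act_mul, act_inv_eq (act_pow_of_fix hσl j), hwl, act_pow_of_fix hσl j]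
    have hwj : σ ^ j * w * (σ ^ j)⁻¹ ∈ Z :=
      CoprimeAction.conj_mem (Subgroup.pow_mem _ hσZ j) hwZ
    have hxj : (σ ^ j * x * (σ ^ j)⁻¹)⁻¹ * x ∈ R := R.mul_mem (R.inv_mem (S.conj_mem hx j)) hx
    rw [show (σ ^ j * (x * w) * (σ ^ j)⁻¹)⁻¹ * x =
      (σ ^ j * w * (σ ^ j)⁻¹)⁻¹ * ((σ ^ j * x * (σ ^ j)⁻¹)⁻¹ * x) by group,
      act_congr (hZ _ (Z.inv_mem hwj) _ hxj), act_mul, hcw]

/-- The elements of `R` taking a fixed character to a fixed one. -/
def Setup.fixSet {l : V →* A} (hl : act φ σ l = l) : Subgroup Γ where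
  carrier := {x | x ∈ R ∧ act φ σ (act φ x l) = act φ x l}
  one_mem' := ⟨R.one_mem, by rw [act_one, hl]⟩
  mul_mem' := by
    rintro a b ⟨ha, hfa⟩ ⟨hb, hfb⟩
    refine ⟨R.mul_mem ha hb, ?_⟩
    obtain ⟨c, hc, hcσ, hbc⟩ := S.exists_fixed_rep hl hb hfb
    rw [act_mul, hbc, ← S.act_central hc hcσ ha, ← act_mul, ← hcσ, act_mul, hfa]
  inv_mem' := by
    rintro a ⟨ha, hfa⟩
    refine ⟨R.inv_mem ha, ?_⟩
    obtain ⟨c, hc, hcσ, hac⟩ := S.exists_fixed_rep hl ha hfa
    have h1 : act φ a⁻¹ l = act φ c⁻¹ l := by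
      refine act_injective φ a ?_
      rw [← act_mul, mul_inv_cancel, act_one, ← S.act_central (R.inv_mem hc)
        ((show Commute c σ from hcσ).inv_left.eq) ha, hac, ← act_mul, inv_mul_cancel, act_one]
    rw [h1, ← act_mul, ← ((show Commute c σ from hcσ).inv_left.eq), act_mul, hl]

/-- If `e` fixes the orbit products of the translates of `z` modulo the moved characters and a fixed
character is nontrivial on `z`, then `e` fixes every coset of the fixing set of that character. -/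
theorem Setup.mem_fixSet {e : Γ} (he : e * σ = σ * e) (heR : e ∈ Subgroup.normalizer (R : Set Γ))
    (hecop : r.Coprime (orderOf e)) {z : V} (hz : φ σ z = z) (hk : KillsMoved φ Ω σ z)
    (hH : ∀ x ∈ R, ∀ l ∈ Ω, act φ σ l ≠ l →
      l (φ e (orbitProd φ σ r (φ x z))) = l (orbitProd φ σ r (φ x z)))
    {l : V →* A} (hl : act φ σ l = l) (hlΩ : l ∈ Ω) (hlz : l z ≠ 1) {x : Γ} (hx : x ∈ R) :
    x⁻¹ * (e * x * e⁻¹) ∈ S.fixSet hl := by
  have hez : φ σ (φ e z) = φ e z := by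
    rw [← MulAut.mul_apply, ← map_mul, ← he, map_mul, MulAut.mul_apply, hz]
  have hke := hk.of_commute S.inv he
  have hσe : ∀ j : ℕ, Commute (σ ^ j) e := fun j => (show Commute e σ from he).symm.pow_left j
  have hDσ : ∀ (j : ℕ), ∀ y ∈ S.fixSet hl, σ ^ j * y * (σ ^ j)⁻¹ ∈ S.fixSet hl := by
    rintro j y ⟨hyR, hyf⟩
    refine ⟨S.conj_mem hyR j, ?_⟩
    rw [act_mul, act_mul, act_inv_eq (act_pow_of_fix hl j), act_pow_of_fix hyf j, hyf]
  -- for a moved translate some `σ`-conjugate of the image lies in the same coset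
  have hstep : ∀ x ∈ R, act φ σ (act φ x l) ≠ act φ x l →
      ∃ j, (σ ^ j * (e * x * e⁻¹) * (σ ^ j)⁻¹)⁻¹ * x ∈ S.fixSet hl := by
    intro x hx hm
    have hex : e * x * e⁻¹ ∈ R := CoprimeAction.conj_mem heR hx
    by_contra! hall
    have h2 := hH x hx _ (S.inv x l hlΩ) hm
    rw [S.apply_orbitProd hl hlΩ hx hm (fun j => rfl) hz hk, orbitProd_commute r he] at h2
    refine hlz (h2.symm.trans ?_)
    rw [orbitProd, map_prod]
    refine Finset.prod_eq_one fun j hjr => ?_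
    clear hjr
    have hu : φ (σ ^ j) (φ e (φ x z)) =
        φ (σ ^ j * (e * x * e⁻¹) * (σ ^ j)⁻¹) (φ e z) := by
      have hu' : φ (σ ^ j) (φ e z) = φ e z := by
        clear hall h2
        induction j with
        | zero => simp
        | succ k ih => rw [pow_succ, map_mul, MulAut.mul_apply, hez, ih]
      conv_rhs => rw [← hu']
      simp only [← MulAut.mul_apply, ← map_mul]
      exact congrArg (fun g => φ g z) (by group)
    rw [hu, act_apply, ← MulAut.mul_apply, ← map_mul]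
    have hmem : (σ ^ j * (e * x * e⁻¹) * (σ ^ j)⁻¹)⁻¹ * x ∈ R :=
      R.mul_mem (R.inv_mem (S.conj_mem hex j)) hx
    have h3 := hke (act φ ((σ ^ j * (e * x * e⁻¹) * (σ ^ j)⁻¹)⁻¹ * x) l) (S.inv _ _ hlΩ)
      (fun hf => hall j ⟨hmem, hf⟩)
    rwa [act_apply, mul_inv_rev, inv_inv] at h3
  -- `e` preserves the fixing set
  have hback : ∀ y ∈ R, e * y * e⁻¹ ∈ S.fixSet hl → y ∈ S.fixSet hl := by
    intro y hy hyD
    by_contra hn
    obtain ⟨j, hj⟩ := hstep y hy (fun hf => hn ⟨hy, hf⟩)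
    refine hn ?_
    have h1 := (S.fixSet hl).mul_mem (hDσ j _ hyD) hj
    rwa [mul_inv_cancel_left] at h1
  have hfwd : ∀ y ∈ S.fixSet hl, e * y * e⁻¹ ∈ S.fixSet hl := by
    have hfin : ((S.fixSet hl : Set Γ)).Finite := Set.toFinite _
    have hle : (S.fixSet hl).map (MulAut.conj e⁻¹).toMonoidHom ≤ S.fixSet hl := by
      rintro _ ⟨y, hy, rfl⟩
      refine hback _ ?_ ?_
      · simpa using CoprimeAction.conj_mem (Subgroup.inv_mem _ heR) hy.1
      · simpa [mul_assoc] using hy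
    have heq := Subgroup.eq_of_le_of_card_ge hle
      (le_of_eq (Nat.card_congr (Subgroup.equivMapOfInjective _ _
        (MulAut.conj e⁻¹).injective).toEquiv))
    intro y hy
    obtain ⟨y', hy', hyy⟩ := heq.ge hy
    rw [← hyy]
    simpa [mul_assoc] using hy'
  have heR' : ∀ n : ℕ, e ^ n ∈ Subgroup.normalizer (R : Set Γ) := fun n => Subgroup.pow_mem _ heR n
  by_cases hxD : x ∈ S.fixSet hl
  · exact (S.fixSet hl).mul_mem ((S.fixSet hl).inv_mem hxD) (hfwd x hxD)
  obtain ⟨i, hi⟩ := hstep x hx (fun hf => hxD ⟨hx, hf⟩)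
  have hiter : ∀ n : ℕ, (σ ^ (n * i) * (e ^ n * x * (e ^ n)⁻¹) * (σ ^ (n * i))⁻¹)⁻¹ * x ∈
      S.fixSet hl := by
    intro n
    induction n with
    | zero => simp
    | succ n ih =>
      have h1 := hfwd _ ih
      have h2 := hDσ i _ h1
      have key : (σ ^ ((n + 1) * i) * (e ^ (n + 1) * x * (e ^ (n + 1))⁻¹) *
          (σ ^ ((n + 1) * i))⁻¹)⁻¹ * x =
          σ ^ i * (e * ((σ ^ (n * i) * (e ^ n * x * (e ^ n)⁻¹) * (σ ^ (n * i))⁻¹)⁻¹ * x) * e⁻¹) *
            (σ ^ i)⁻¹ * ((σ ^ i * (e * x * e⁻¹) * (σ ^ i)⁻¹)⁻¹ * x) := by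
        have hc : σ ^ (n * i) * e = e * σ ^ (n * i) := (hσe (n * i)).eq
        rw [show σ ^ ((n + 1) * i) = σ ^ i * σ ^ (n * i) by rw [← pow_add]; congr 1; ring,
          pow_succ' e]
        calc _ = σ ^ i * (σ ^ (n * i) * e) * (e ^ n * x⁻¹ * (e ^ n)⁻¹) *
              ((σ ^ (n * i) * e)⁻¹) * (σ ^ i)⁻¹ * x := by group
          _ = _ := by rw [hc]; group
      rw [key]
      exact (S.fixSet hl).mul_mem h2 hi
  have hr := hiter r
  rw [show σ ^ (r * i) = 1 by rw [pow_mul, S.pow_eq, one_pow], one_mul, inv_one, mul_one] at hr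
  obtain ⟨t, ht⟩ := exists_pow_eq_self_of_coprime hecop
  have hgen : ∀ m : ℕ, ((e ^ r) ^ m * x * ((e ^ r) ^ m)⁻¹)⁻¹ * x ∈ S.fixSet hl := by
    have hfwd' : ∀ k : ℕ, ∀ y ∈ S.fixSet hl, e ^ k * y * (e ^ k)⁻¹ ∈ S.fixSet hl := by
      intro k
      induction k with
      | zero => intro y hy; simpa using hy
      | succ k ih =>
        intro y hy
        rw [show e ^ (k + 1) * y * (e ^ (k + 1))⁻¹ = e * (e ^ k * y * (e ^ k)⁻¹) * e⁻¹ by
          rw [pow_succ', mul_inv_rev]; simp only [mul_assoc]]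
        exact hfwd _ (ih y hy)
    intro m
    induction m with
    | zero => simp
    | succ m ih =>
      have key : ((e ^ r) ^ (m + 1) * x * ((e ^ r) ^ (m + 1))⁻¹)⁻¹ * x =
          e ^ r * (((e ^ r) ^ m * x * ((e ^ r) ^ m)⁻¹)⁻¹ * x) * (e ^ r)⁻¹ *
            ((e ^ r * x * (e ^ r)⁻¹)⁻¹ * x) := by
        rw [pow_succ' (e ^ r) m]; group
      rw [key]
      exact (S.fixSet hl).mul_mem (hfwd' r _ ih) hr
  have h := hgen t
  rw [ht] at h
  have := (S.fixSet hl).inv_mem h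
  rwa [mul_inv_rev, inv_inv] at this

end CfsgLib.FittingHeightPrime
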