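/-
The orbit argument at an abelian level: a fixed element which moves a fixed element of the next
section can be pushed one level down.
-/
import Mathlib
import Cfsg.Agent.Lib.FittingHeightPrime.Levels
import Cfsg.Agent.Lib.FittingHeightPrime.OrbitTrick

set_option autoImplicit false
set_option linter.style.haveILetI false
set_option linter.unusedSectionVars false

open Module
open scoped commutatorElement IsMulCommutative

namespace CfsgLib.FittingHeightPrime

open HallHigmanExc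

variable {Γ : Type*} [Group Γ] [Finite Γ]

/-- The image of `K'` in the units of a representation, acted on by `Γ`. -/
noncomputable def imageAction {F : Type*} [Field F] {V : Type*} [AddCommGroup V] [Module F V]
    (ρ : Γ →* Module.End F V) (P : Subgroup Γ) [P.Normal] : Γ →* MulAut (unitImage ρ P) :=
  (unitImage ρ P).normalizerMonoidHom.comp (ρ.toHomUnits.codRestrict _ fun g =>
    mem_normalizer_unitImage ρ (mem_normalizer_of_normal P g))

theorem imageAction_apply {F : Type*} [Field F] {V : Type*} [AddCommGroup V] [Module F V]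
    (ρ : Γ →* Module.End F V) (P : Subgroup Γ) [P.Normal] (g : Γ) {y : Γ} (hy : y ∈ P) :
    imageAction ρ P g ⟨ρ.toHomUnits y, uMem ρ hy⟩ =
      ⟨ρ.toHomUnits (g * y * g⁻¹), uMem ρ (Subgroup.Normal.conj_mem inferInstance y hy g)⟩ := by
  refine Subtype.ext ?_
  show ρ.toHomUnits g * ρ.toHomUnits y * (ρ.toHomUnits g)⁻¹ = ρ.toHomUnits (g * y * g⁻¹)
  rw [map_mul, map_mul, map_inv]

theorem act_eq_twist {F : Type*} [Field F] {V : Type*} [AddCommGroup V] [Module F V]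
    (ρ : Γ →* Module.End F V) (P : Subgroup Γ) [P.Normal] [IsMulCommutative (unitImage ρ P)]
    (g : Γ) (l : unitImage ρ P →* Fˣ) :
    act (imageAction ρ P) g l =
      twist (unitImage ρ P) (mem_normalizer_unitImage ρ (mem_normalizer_of_normal P g)) l := by
  ext v
  show ((l (imageAction ρ P g⁻¹ v) : Fˣ) : F) = _
  rw [map_inv]
  rfl

variable {L : Subgroup Γ} {σ : Γ} {r p p' p'' : ℕ} {K B K' B' K'' B'' : Subgroup Γ}
  [Fact p''.Prime]

local notation "𝕂" => AlgebraicClosure (ZMod p'')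
local notation "M'" => secFrattini p' K' B'
local notation "M''" => secFrattini p'' K'' B''
local notation "R" => ⁅K, Subgroup.zpowers σ⁆
local notation "U" => ⁅K', ⁅K, Subgroup.zpowers σ⁆⁆ ⊔ secFrattini p' K' B'
local notation "U''" => ⁅K'', ⁅K', Subgroup.zpowers σ⁆⁆ ⊔ secFrattini p'' K'' B''

theorem Triple.eq_one_of_mul_blk {V : Type*} [AddCommGroup V] [Module 𝕂 V]
    {A : Subgroup (Module.End 𝕂 V)ˣ} [Finite A] [IsMulCommutative A]
    (hA : (Nat.card A : 𝕂) ≠ 0) {z : A} (h : ∀ l : A →* 𝕂ˣ, blk A l ≠ 0 → l z = 1) : z = 1 := by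
  obtain ⟨hf, hsum⟩ := exists_sum_blk (K := 𝕂) A hA
  refine Subtype.ext (Units.ext ?_)
  rw [← mul_one ((z : (Module.End 𝕂 V)ˣ) : Module.End 𝕂 V), OneMemClass.coe_one, Units.val_one,
    ← hsum, Finset.mul_sum]
  refine Finset.sum_congr rfl fun l _ => ?_
  by_cases hl : blk A l = 0
  · rw [hl, mul_zero]
  · rw [mul_blk, h l hl, Units.val_one, one_smul]

/-- The orbit hypotheses at an abelian level, and the facts used with them. -/
theorem Triple.abelian_facts (T : Triple L σ r p K B p' K' B' p'' K'' B'') (hab : ⁅K', K'⁆ ≤ B')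
    (W : SecRep p'' K'' M'') :
    haveI := T.lev'.normalK
    haveI := finite_unitImage W.ρ K'
    ∀ [IsMulCommutative (unitImage W.ρ K')],
    Setup (imageAction W.ρ K') {l : unitImage W.ρ K' →* 𝕂ˣ | blk (unitImage W.ρ K') l ≠ 0} σ r R ∧
    (∀ x (hx : x ∈ K'), (⟨W.ρ.toHomUnits x, uMem W.ρ hx⟩ : unitImage W.ρ K') = 1 ↔ x ∈ B') ∧
    (∀ b ∈ B, ∀ g : Γ, imageAction W.ρ K' (g * b) = imageAction W.ρ K' g) ∧
    (∀ c (hc : c ∈ K'), c * σ = σ * c → ¬ Moves σ U'' M'' c →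
      KillsMoved (imageAction W.ρ K') {l : unitImage W.ρ K' →* 𝕂ˣ | blk (unitImage W.ρ K') l ≠ 0} σ
        ⟨W.ρ.toHomUnits c, uMem W.ρ hc⟩) ∧
    (∀ w ∈ U, ∀ (hw : w ∈ K') (l : unitImage W.ρ K' →* 𝕂ˣ),
      (∀ x ∈ R, act (imageAction W.ρ K') x l = l) → l ⟨W.ρ.toHomUnits w, uMem W.ρ hw⟩ = 1) ∧
    (∀ w ∈ U, ∀ (hw : w ∈ K'),
      imageAction W.ρ K' σ ⟨W.ρ.toHomUnits w, uMem W.ρ hw⟩ = ⟨W.ρ.toHomUnits w, uMem W.ρ hw⟩ →
      ∃ c ∈ U, ∃ (hc : c ∈ K'), c * σ = σ * c ∧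
        (⟨W.ρ.toHomUnits c, uMem W.ρ hc⟩ : unitImage W.ρ K') =
          ⟨W.ρ.toHomUnits w, uMem W.ρ hw⟩) := by
  classical
  haveI := T.lev.normalK
  haveI := T.lev.normalB
  haveI := T.lev'.normalK
  haveI := T.lev'.normalB
  haveI := T.lev''.normalK
  haveI := T.lev''.normalB
  haveI := finite_unitImage W.ρ K'
  intro _
  have hc := T.ctx
  have hA : (Nat.card (unitImage W.ρ K') : 𝕂) ≠ 0 := T.link'.card_unitImage T.lev' W le_rfl
  have hMB : M' = B' := T.lev'.abelian hab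
  have hone : ∀ x (hx : x ∈ K'), (⟨W.ρ.toHomUnits x, uMem W.ρ hx⟩ : (unitImage W.ρ K')) = 1 ↔ x ∈ B' := by
    intro x hx
    rw [← T.link'.rho_eq_one_iff W hx, ← Subtype.coe_inj, OneMemClass.coe_one, ← Units.val_inj]
    rfl
  have hB : ∀ b ∈ B, (imageAction W.ρ K') b = 1 := fun b hb => by
    refine MulEquiv.ext ?_
    rintro ⟨_, y, hy, rfl⟩
    rw [imageAction_apply W.ρ K' b hy]
    refine Subtype.ext (Units.ext ?_)
    show W.ρ (b * y * b⁻¹) = W.ρ y
    have hby : ⁅b, y⁆ ∈ B' := hMB ▸ (T.link.kernel b (T.lev.lt'.le hb)).1 hb y hy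
    rw [show b * y * b⁻¹ = ⁅b, y⁆ * y by rw [commutatorElement_def, inv_mul_cancel_right], map_mul,
      (T.link'.rho_eq_one_iff W (T.lev'.lt'.le hby)).2 hby, one_mul]
  have hσU'' : σ ∈ Subgroup.normalizer ((U'' : Subgroup Γ) : Set Γ) :=
    mem_normalizer_span (mem_normalizer_commutator_zpowers rfl)
  have hU''K : (U'' : Subgroup Γ) ≤ K'' := span_le (secFrattini_le T.lev''.lt'.le)
  refine ⟨?_, hone, fun b hb g => by rw [map_mul, hB b hb, mul_one], ?_, ?_, ?_⟩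
  · refine
      { prime := hc.prime
        pow_eq := hc.pow_eq
        normalizes := mem_normalizer_commutator_zpowers rfl
        coprime := hc.cop_r ((Subgroup.commutator_le_left K _).trans T.le)
        inv := fun g l hl h0 => ?_
        sep := fun v h => Triple.eq_one_of_mul_blk hA h
        central := fun c hcR hcσ x hx => ?_
        gen := hc.gen T.le }
    · rw [act_eq_twist] at h0
      refine hl ?_
      have h1 := rho_mul_blk (ρ := W.ρ)
        (mem_normalizer_unitImage W.ρ (mem_normalizer_of_normal K' g)) l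
      rw [h0, zero_mul] at h1
      have h2 := congrArg (W.ρ g⁻¹ * ·) h1
      simpa only [mul_zero, ← mul_assoc, rho_inv_mul, one_mul] using h2
    · have hRK : (R : Subgroup Γ) ≤ K := Subgroup.commutator_le_left K _
      have hb : ⁅x⁻¹, c⁻¹⁆ ∈ B := by
        rw [← commutatorElement_inv]
        exact B.inv_mem (T.lev.central _
          ((secFrattini p K B).inv_mem (hc.fixed_mem T.lev T.le hcR hcσ)) _ (K.inv_mem (hRK hx)))
      rw [show x * c = c * x * ⁅x⁻¹, c⁻¹⁆ by rw [commutatorElement_def]; group, map_mul (imageAction W.ρ K') (c * x),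
        hB _ hb, mul_one]
  · intro c hcK hcσ hnm l hl hm
    rw [act_eq_twist] at hm
    by_contra hne
    -- a commutator with `σ` on which the character is nontrivial
    obtain ⟨y, hy, hly⟩ : ∃ y, ∃ (hy : y ∈ K'), l ⟨_, uMem W.ρ hy⟩ ≠
        l ⟨_, uMem W.ρ (Subgroup.Normal.conj_mem inferInstance y hy σ⁻¹)⟩ := by
      by_contra! h
      refine hm (MonoidHom.ext ?_)
      rintro ⟨_, y, hy, rfl⟩
      rw [twist_apply (unitImage W.ρ K') _ l _ ⟨_, uMem W.ρ (Subgroup.Normal.conj_mem inferInstance y hy σ⁻¹)⟩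
        (by simp [map_mul, map_inv])]
      exact (h y hy).symm
    set x := ⁅y, σ⁻¹⁆ with hx
    have hy' : σ⁻¹ * y⁻¹ * σ⁻¹⁻¹ ∈ K' := Subgroup.Normal.conj_mem inferInstance _ (K'.inv_mem hy) σ⁻¹
    have hxK : x ∈ K' := by
      rw [hx, show ⁅y, σ⁻¹⁆ = y * (σ⁻¹ * y⁻¹ * σ⁻¹⁻¹) by rw [commutatorElement_def]; group]
      exact K'.mul_mem hy hy'
    have hxR : x ∈ ⁅K', Subgroup.zpowers σ⁆ :=
      Subgroup.commutator_mem_commutator hy (inv_mem (Subgroup.mem_zpowers σ))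
    have hlx : l ⟨_, uMem W.ρ hxK⟩ ≠ 1 := by
      intro h
      refine hly ?_
      have e : (⟨_, uMem W.ρ hxK⟩ : (unitImage W.ρ K')) = ⟨_, uMem W.ρ hy⟩ * (⟨_, uMem W.ρ
          (Subgroup.Normal.conj_mem inferInstance y hy σ⁻¹)⟩ : (unitImage W.ρ K'))⁻¹ := by
        refine Subtype.ext ?_
        simp [hx, commutatorElement_def, map_mul, map_inv, mul_assoc]
      rw [e, map_mul, map_inv, mul_inv_eq_one] at h
      exact h
    set cx : 𝕂 := (l ⟨_, uMem W.ρ hxK⟩ : 𝕂ˣ).val with hcx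
    set π := orbitSum W.ρ σ r with hπ
    have hS : ∀ v, blk (unitImage W.ρ K') l v ∈ Submodule.span 𝕂 (W.vec '' ((U'' : Subgroup Γ) : Set Γ)) := by
      intro v
      have h1 := W.sub_mem_span
        (le_sup_left : ⁅K'', ⁅K', Subgroup.zpowers σ⁆⁆ ≤ U'') hxR (blk (unitImage W.ρ K') l v)
      rw [← Module.End.mul_apply, rho_mul_blk_self hxK l, LinearMap.smul_apply,
        show cx • blk (unitImage W.ρ K') l v - blk (unitImage W.ρ K') l v = (cx - 1) • blk (unitImage W.ρ K') l v by rw [sub_smul, one_smul]] at h1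
      have h2 := Submodule.smul_mem _ (cx - 1)⁻¹ h1
      rwa [smul_smul, inv_mul_cancel₀ (show cx - 1 ≠ 0 from sub_ne_zero.2 fun h => hlx (Units.ext h)),
        one_smul] at h2
    have hkill : W.ρ c * (π * blk (unitImage W.ρ K') l) = π * blk (unitImage W.ρ K') l := LinearMap.ext fun v =>
      W.fixes_orbitSum hc hU''K T.le'' le_sup_right hσU'' hnm (hS v)
    have hσA : W.ρ.toHomUnits σ ∈ Subgroup.normalizer ((unitImage W.ρ K') : Set (Module.End 𝕂 _)ˣ) :=
      mem_normalizer_unitImage W.ρ (mem_normalizer_of_normal K' σ)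
    have hrK : (r : 𝕂) ≠ 0 := Link.rK_ne_zero hc T.lev'' T.le''
    have hblock : blk (unitImage W.ρ K') l * (π * blk (unitImage W.ρ K') l) = blk (unitImage W.ρ K') l := by
      have h1 := blk_mul_eigProj_mul_blk hA hc.prime hc.pow_eq hσA hm 1
      simp only [eigProj, inv_one, one_pow, one_smul, smul_mul_assoc, mul_smul_comm] at h1
      exact smul_right_injective _ (inv_ne_zero hrK) h1
    have h2 := congrArg (blk (unitImage W.ρ K') l * ·) hkill
    have hcomm : Commute (W.ρ c) (blk (unitImage W.ρ K') l) := commute_mem_blk (unitImage W.ρ K') ⟨_, uMem W.ρ hcK⟩ l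
    simp only [← mul_assoc] at h2
    rw [← hcomm.eq, mul_assoc, mul_assoc, mul_assoc, hblock, rho_mul_blk_self hcK l] at h2
    apply hne
    refine Units.ext ?_
    have h3 : ((l ⟨_, uMem W.ρ hcK⟩ : 𝕂ˣ).val - 1) • blk (unitImage W.ρ K') l = 0 := by
      refine LinearMap.ext fun v => ?_
      simp only [LinearMap.smul_apply, LinearMap.zero_apply, sub_smul, one_smul, sub_eq_zero]
      exact LinearMap.congr_fun h2 v
    exact sub_eq_zero.1 ((smul_eq_zero.1 h3).resolve_right hl)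
  · intro w hw hwK l hfix
    let N : Subgroup Γ :=
      { carrier := {y | ∃ (hy : y ∈ K'), l ⟨_, uMem W.ρ hy⟩ = 1}
        one_mem' := ⟨K'.one_mem, by
          rw [show (⟨_, uMem W.ρ K'.one_mem⟩ : (unitImage W.ρ K')) = 1 from Subtype.ext (map_one _), map_one]⟩
        mul_mem' := by
          rintro a b ⟨ha, hla⟩ ⟨hb, hlb⟩
          refine ⟨K'.mul_mem ha hb, ?_⟩
          rw [show (⟨_, uMem W.ρ (K'.mul_mem ha hb)⟩ : (unitImage W.ρ K')) = ⟨_, uMem W.ρ ha⟩ * ⟨_, uMem W.ρ hb⟩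
            from Subtype.ext (map_mul _ _ _), map_mul, hla, hlb, one_mul]
        inv_mem' := by
          rintro a ⟨ha, hla⟩
          refine ⟨K'.inv_mem ha, ?_⟩
          rw [show (⟨_, uMem W.ρ (K'.inv_mem ha)⟩ : (unitImage W.ρ K')) = (⟨_, uMem W.ρ ha⟩)⁻¹
            from Subtype.ext (map_inv _ _), map_inv, hla, inv_one] }
    have hle : (U : Subgroup Γ) ≤ N := by
      refine sup_le (Subgroup.commutator_le.2 fun y hy x hx => ?_) fun m hm => ?_
      · have hxy : x * y⁻¹ * x⁻¹ ∈ K' :=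
          Subgroup.Normal.conj_mem inferInstance _ (K'.inv_mem hy) x
        refine ⟨by rw [show ⁅y, x⁆ = y * (x * y⁻¹ * x⁻¹) by rw [commutatorElement_def]; group]
                   exact K'.mul_mem hy hxy, ?_⟩
        have hx' : act (imageAction W.ρ K') x⁻¹ l = l := hfix _ (inv_mem hx)
        have h1 : l ⟨_, uMem W.ρ hxy⟩ = l ⟨_, uMem W.ρ (K'.inv_mem hy)⟩ := by
          conv_rhs => rw [← hx', act_apply, inv_inv, imageAction_apply W.ρ K' x (K'.inv_mem hy)]
        calc l ⟨_, _⟩ = l (⟨_, uMem W.ρ hy⟩ * ⟨_, uMem W.ρ hxy⟩) :=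
              congrArg l (Subtype.ext (by simp [commutatorElement_def, map_mul, map_inv, mul_assoc]))
          _ = l ⟨_, uMem W.ρ hy⟩ * l ⟨_, uMem W.ρ (K'.inv_mem hy)⟩ := by rw [map_mul, h1]
          _ = 1 := by
            rw [← map_mul, ← map_one l]
            exact congrArg l (Subtype.ext (by simp [map_inv]))
      · have hm' : m ∈ B' := hMB ▸ hm
        exact ⟨T.lev'.lt'.le hm', by rw [(hone m (T.lev'.lt'.le hm')).2 hm', map_one]⟩
    exact (hle hw).2
  · intro w hw hwK hfix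
    rw [imageAction_apply W.ρ K' σ hwK] at hfix
    have h1 : ⁅σ, w⁆ ∈ B' := by
      have hcK : ⁅σ, w⁆ ∈ K' := by
        rw [commutatorElement_def]
        exact K'.mul_mem (Subgroup.Normal.conj_mem inferInstance w hwK σ) (K'.inv_mem hwK)
      rw [← hone _ hcK]
      have h2 := congrArg (fun z : (unitImage W.ρ K') => z * (⟨_, uMem W.ρ hwK⟩ : (unitImage W.ρ K'))⁻¹) hfix
      simp only [mul_inv_cancel] at h2
      rw [← h2]
      exact Subtype.ext (by simp [commutatorElement_def, map_mul, map_inv])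
    obtain ⟨c, hcU, hcσ, hcw⟩ := hc.exists_fixed (X := (U : Subgroup Γ)) (N := B')
      ((span_le (secFrattini_le T.lev'.lt'.le)).trans T.le')
      (hMB.symm.le.trans le_sup_right) (fun a _ => mem_normalizer_of_normal B' a)
      (mem_normalizer_of_normal B' σ) hw h1
    have hcK : c ∈ K' := span_le (secFrattini_le T.lev'.lt'.le) hcU
    refine ⟨c, hcU, hcK, hcσ, ?_⟩
    have h2 := (hone _ (K'.mul_mem (K'.inv_mem hcK) hwK)).2 hcw
    rw [show (⟨_, uMem W.ρ (K'.mul_mem (K'.inv_mem hcK) hwK)⟩ : (unitImage W.ρ K')) =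
      (⟨_, uMem W.ρ hcK⟩)⁻¹ * ⟨_, uMem W.ρ hwK⟩ from Subtype.ext (by simp [map_mul, map_inv]),
      inv_mul_eq_one] at h2
    exact h2

section FixInf

variable {V : Type*} [CommGroup V] {F : Type*} [CommGroup F] {φ : Γ →* MulAut V}
  {Ω : Set (V →* F)} {σ₀ : Γ} {r₀ : ℕ} {R₀ : Subgroup Γ}

/-- The intersection, over the fixed characters detected by `Kill`, of the fixing sets times `N`. -/
def Setup.fixInf (S : Setup φ Ω σ₀ r₀ R₀) (N : Subgroup Γ) (Kill : V → Prop) : Subgroup Γ :=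
  ⨅ l : {l : V →* F // act φ σ₀ l = l ∧ l ∈ Ω ∧ ∃ z, Kill z ∧ l z ≠ 1}, S.fixSet l.2.1 ⊔ N

theorem Setup.mem_normalizer_fixInf (S : Setup φ Ω σ₀ r₀ R₀) {N : Subgroup Γ} (Kill : V → Prop)
    {g : Γ} (hg : g * σ₀ = σ₀ * g) (hgR : g ∈ Subgroup.normalizer (R₀ : Set Γ))
    (hgN : g ∈ Subgroup.normalizer (N : Set Γ)) (hK : ∀ z, Kill z → Kill (φ g⁻¹ z)) :
    g ∈ Subgroup.normalizer (S.fixInf N Kill : Set Γ) := by
  refine CoprimeAction.mem_normalizer_of_conj_mem fun y hy => Subgroup.mem_iInf.2 fun l => ?_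
  obtain ⟨l, hl, hlΩ, z, hz, hlz⟩ := l
  have hgc : Commute g σ₀ := hg
  have hm : act φ σ₀ (act φ g⁻¹ l) = act φ g⁻¹ l := by
    rw [← act_mul, ← hgc.inv_left.eq, act_mul, hl]
  have hz' : act φ g⁻¹ l (φ g⁻¹ z) ≠ 1 := by
    rw [act_apply, inv_inv, ← MulAut.mul_apply, ← map_mul, mul_inv_cancel, map_one,
      MulAut.one_apply]
    exact hlz
  have h2 := Subgroup.mem_iInf.1 hy ⟨act φ g⁻¹ l, hm, S.inv _ _ hlΩ, _, hK z hz, hz'⟩
  have hle : (S.fixSet hm ⊔ N).map (MulAut.conj g : Γ →* Γ) ≤ S.fixSet hl ⊔ N := by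
    rw [Subgroup.map_sup]
    refine sup_le_sup ?_ (Subgroup.mem_normalizer_iff_map_conj_eq.1 hgN).le
    rintro _ ⟨x, ⟨hxR, hxf⟩, rfl⟩
    refine ⟨CoprimeAction.conj_mem hgR hxR, ?_⟩
    show act φ σ₀ (act φ (g * x * g⁻¹) l) = act φ (g * x * g⁻¹) l
    rw [act_mul, act_mul, ← act_mul φ σ₀ g, ← hgc.eq, act_mul φ g σ₀, hxf]
  exact hle ⟨y, h2, rfl⟩

theorem Setup.fixInf_le (S : Setup φ Ω σ₀ r₀ R₀) (N : Subgroup Γ) (Kill : V → Prop) {l : V →* F}
    (hl : act φ σ₀ l = l) (hlΩ : l ∈ Ω) {z : V} (hz : Kill z) (hlz : l z ≠ 1) :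
    S.fixInf N Kill ≤ S.fixSet hl ⊔ N :=
  iInf_le (fun l : {l : V →* F // act φ σ₀ l = l ∧ l ∈ Ω ∧ ∃ z, Kill z ∧ l z ≠ 1} =>
    S.fixSet l.2.1 ⊔ N) ⟨l, hl, hlΩ, z, hz, hlz⟩

theorem Setup.le_fixInf (S : Setup φ Ω σ₀ r₀ R₀) (N : Subgroup Γ) (Kill : V → Prop) :
    N ≤ S.fixInf N Kill := le_iInf fun _ => le_sup_right

theorem Setup.mem_fixInf (S : Setup φ Ω σ₀ r₀ R₀) {N : Subgroup Γ} {Kill : V → Prop} {g : Γ}
    (h : ∀ (l : V →* F) (hl : act φ σ₀ l = l) (z : V), l ∈ Ω → Kill z → l z ≠ 1 →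
      g ∈ S.fixSet hl ⊔ N) : g ∈ S.fixInf N Kill :=
  Subgroup.mem_iInf.2 fun ⟨l, hl, hlΩ, z, hz, hlz⟩ => h l hl z hlΩ hz hlz

end FixInf

theorem orbitProd_fixed {A : Type*} [CommGroup A] {φ : Γ →* MulAut A} (hσ : σ ^ r = 1) (v : A) :
    φ σ (orbitProd φ σ r v) = orbitProd φ σ r v := by
  simp only [orbitProd, map_prod]
  simp only [← MulAut.mul_apply, ← map_mul, ← pow_succ']
  have h1 := Finset.prod_range_succ (fun j => φ (σ ^ j) v) r
  have h2 := Finset.prod_range_succ' (fun j => φ (σ ^ j) v) r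
  simp only [hσ, pow_zero] at h1 h2
  rw [h1] at h2
  exact (mul_right_cancel h2).symm

/-- The orbit product of a translate of a fixed image is the image of a fixed element. -/
theorem Triple.exists_fixed_orbitProd (T : Triple L σ r p K B p' K' B' p'' K'' B'')
    (hab : ⁅K', K'⁆ ≤ B') (W : SecRep p'' K'' M'') {w x : Γ} (hw : w ∈ U) (hx : x ∈ R) :
    haveI := T.lev'.normalK
    ∀ [IsMulCommutative (unitImage W.ρ K')] (hwK : w ∈ K'),
    ∃ c ∈ U, ∃ (hc : c ∈ K'), c * σ = σ * c ∧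
      orbitProd (imageAction W.ρ K') σ r
        (imageAction W.ρ K' x ⟨W.ρ.toHomUnits w, uMem W.ρ hwK⟩) =
          (⟨W.ρ.toHomUnits c, uMem W.ρ hc⟩ : unitImage W.ρ K') := by
  haveI := T.lev.normalK
  haveI := T.lev'.normalK
  haveI := T.lev'.normalB
  intro _ hwK
  obtain ⟨-, -, -, -, -, hlift⟩ := T.abelian_facts hab W
  have hσU : σ ∈ Subgroup.normalizer ((U : Subgroup Γ) : Set Γ) :=
    mem_normalizer_span (mem_normalizer_commutator_zpowers rfl)
  have hxU : x ∈ Subgroup.normalizer ((U : Subgroup Γ) : Set Γ) := le_movedSpan_normalizer hx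
  set z : unitImage W.ρ K' := imageAction W.ρ K' x ⟨_, uMem W.ρ hwK⟩ with hz
  have hpart : ∀ n, ∃ u ∈ U, ∃ (hu : u ∈ K'), (⟨_, uMem W.ρ hu⟩ : unitImage W.ρ K') =
      ∏ j ∈ Finset.range n, imageAction W.ρ K' (σ ^ j) z := by
    intro n
    induction n with
    | zero => exact ⟨1, one_mem _, one_mem _, Subtype.ext (by simp)⟩
    | succ n ih =>
      obtain ⟨u, hu, huK, hue⟩ := ih
      have hw1 : x * w * x⁻¹ ∈ K' := Subgroup.Normal.conj_mem inferInstance w hwK x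
      have hw2 : σ ^ n * (x * w * x⁻¹) * (σ ^ n)⁻¹ ∈ K' :=
        Subgroup.Normal.conj_mem inferInstance _ hw1 _
      refine ⟨u * (σ ^ n * (x * w * x⁻¹) * (σ ^ n)⁻¹),
        mul_mem hu (CoprimeAction.conj_mem (pow_mem hσU n) (CoprimeAction.conj_mem hxU hw)),
        K'.mul_mem huK hw2, ?_⟩
      rw [Finset.prod_range_succ, ← hue, hz, imageAction_apply W.ρ K' x hwK,
        imageAction_apply W.ρ K' _ hw1]
      exact Subtype.ext (map_mul _ _ _)
  obtain ⟨u, hu, huK, hue⟩ := hpart r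
  have hfix : imageAction W.ρ K' σ ⟨_, uMem W.ρ huK⟩ = ⟨_, uMem W.ρ huK⟩ := by
    rw [hue]; exact orbitProd_fixed T.ctx.pow_eq z
  obtain ⟨c, hcU, hcK, hcσ, hce⟩ := hlift u hu huK hfix
  exact ⟨c, hcU, hcK, hcσ, (hce.trans hue).symm⟩

/-- Start: a fixed element of the commutator section yields one moving a fixed element below. -/
theorem Triple.start_abelian (T : Triple L σ r p K B p' K' B' p'' K'' B'') (hab : ⁅K', K'⁆ ≤ B')
    {w : Γ} (hw : w ∈ U) (hwσ : w * σ = σ * w) (hwM : w ∉ M') :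
    ∃ c ∈ U, c * σ = σ * c ∧ Moves σ U'' M'' c := by
  haveI := T.lev'.normalK
  obtain ⟨W⟩ := T.lev''.exists_secRep
  haveI := finite_unitImage W.ρ K'
  haveI : IsMulCommutative (unitImage W.ρ K') := isMulCommutative_unitImage W.ρ fun x hx y hy => by
    haveI := T.lev'.normalB
    have h1 := (T.link'.rho_eq_one_iff W (T.lev'.lt'.le
      (hab (Subgroup.commutator_mem_commutator hx hy)))).2
        (hab (Subgroup.commutator_mem_commutator hx hy))
    show W.ρ x * W.ρ y = W.ρ y * W.ρ x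
    rw [← map_mul, ← map_mul, show x * y = ⁅x, y⁆ * (y * x) by rw [commutatorElement_def]; group,
      map_mul, h1, one_mul]
  obtain ⟨S, hone, -, hkilled, hU, -⟩ := T.abelian_facts hab W
  by_contra! hall
  have hwK : w ∈ K' := span_le (secFrattini_le T.lev'.lt'.le) hw
  refine hwM (le_secFrattini _ _ _ ((hone w hwK).1 ?_))
  refine S.eq_one ?_ (hkilled w hwK hwσ (hall w hw hwσ)) (fun l _ hl => hU w hw hwK l hl) ?_
  · rw [imageAction_apply W.ρ K' σ hwK]
    refine Subtype.ext ?_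
    show W.ρ.toHomUnits _ = W.ρ.toHomUnits w
    rw [← hwσ, mul_inv_cancel_right]
  · intro x hx
    obtain ⟨c, hcU, hcK, hcσ, hce⟩ := T.exists_fixed_orbitProd hab W hw hx hwK
    rw [hce]
    exact hkilled c hcK hcσ (hall c hcU hcσ)

/-- Step: an element moving a fixed element is pushed one level down by a double commutator. -/
theorem Triple.step_abelian (T : Triple L σ r p K B p' K' B' p'' K'' B'') (hab : ⁅K', K'⁆ ≤ B')
    {e : Γ} (heK : e ∈ K) (heσ : e * σ = σ * e) (hep : ∃ a, e ^ p ^ a = 1)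
    (hmove : Moves σ U M' e) :
    ∃ y ∈ U, y * σ = σ * y ∧ Moves σ U'' M'' ⁅e, ⁅e, y⁆⁆ := by
  classical
  haveI := T.lev.normalK
  haveI := T.lev.normalB
  haveI := T.lev'.normalK
  haveI := T.lev'.normalB
  haveI := Fact.mk T.lev.prime
  haveI := Fact.mk T.lev'.prime
  obtain ⟨W⟩ := T.lev''.exists_secRep
  haveI := finite_unitImage W.ρ K'
  haveI : IsMulCommutative (unitImage W.ρ K') := isMulCommutative_unitImage W.ρ fun x hx y hy => by
    have h1 := (T.link'.rho_eq_one_iff W (T.lev'.lt'.le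
      (hab (Subgroup.commutator_mem_commutator hx hy)))).2
        (hab (Subgroup.commutator_mem_commutator hx hy))
    show W.ρ x * W.ρ y = W.ρ y * W.ρ x
    rw [← map_mul, ← map_mul, show x * y = ⁅x, y⁆ * (y * x) by rw [commutatorElement_def]; group,
      map_mul, h1, one_mul]
  obtain ⟨S, hone, hB, hkilled, hU, hlift⟩ := T.abelian_facts hab W
  by_contra! hall
  have hRK : (R : Subgroup Γ) ≤ K := Subgroup.commutator_le_left K _
  have heR : e ∈ Subgroup.normalizer ((R : Subgroup Γ) : Set Γ) :=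
    mem_normalizer_commutator_zpowers heσ
  have heU : e ∈ Subgroup.normalizer ((U : Subgroup Γ) : Set Γ) := mem_normalizer_span heR
  have hUK : (U : Subgroup Γ) ≤ K' := span_le (secFrattini_le T.lev'.lt'.le)
  have hcm : ∀ y ∈ U, y * σ = σ * y → ⁅e, y⁆ ∈ U ∧ ⁅e, y⁆ * σ = σ * ⁅e, y⁆ := fun y hy hyσ =>
    ⟨by rw [commutatorElement_def]; exact mul_mem (CoprimeAction.conj_mem heU hy) (inv_mem hy), by
      rw [commutatorElement_def]
      exact ((((show Commute e σ from heσ).mul_left hyσ).mul_left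
        (show Commute e σ from heσ).inv_left).mul_left (show Commute y σ from hyσ).inv_left).eq⟩
  obtain ⟨T1, hT1⟩ : ∃ T1 : (unitImage W.ρ K') → (unitImage W.ρ K'),
      ∀ v, T1 v = (imageAction W.ρ K') e v * v⁻¹ := ⟨_, fun _ => rfl⟩
  have hT : ∀ y (hy : y ∈ K'), ∃ (hc : ⁅e, y⁆ ∈ K'), T1 ⟨_, uMem W.ρ hy⟩ =
      ⟨_, uMem W.ρ hc⟩ := fun y hy => by
    refine ⟨by rw [commutatorElement_def]
               exact K'.mul_mem (Subgroup.Normal.conj_mem inferInstance y hy e) (K'.inv_mem hy), ?_⟩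
    rw [hT1, imageAction_apply W.ρ K' e hy]
    exact Subtype.ext (by simp [commutatorElement_def, map_mul, map_inv])
  have hTm : ∀ u v : (unitImage W.ρ K'), T1 (u * v) = T1 u * T1 v := fun u v => by
    rw [hT1, hT1, hT1, map_mul, mul_inv, mul_mul_mul_comm]
  -- the images `T1` of fixed elements of `U`
  let F : Set (unitImage W.ρ K') := {a | ∃ y ∈ U, y * σ = σ * y ∧ ∃ (hy : y ∈ K'), a = T1 ⟨_, uMem W.ρ hy⟩}
  have hmaps : Set.MapsTo T1 F F := by
    rintro _ ⟨y, hy, hyσ, hyK, rfl⟩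
    obtain ⟨hc, he⟩ := hT y hyK
    exact ⟨_, (hcm y hy hyσ).1, (hcm y hy hyσ).2, hc, by rw [he]⟩
  have hinj : Set.InjOn T1 F := by
    rintro _ ⟨y, hy, hyσ, hyK, rfl⟩ _ ⟨y', hy', hyσ', hyK', rfl⟩ h
    have hq : y * y'⁻¹ ∈ K' := K'.mul_mem hyK (K'.inv_mem hyK')
    have e1 : (⟨_, uMem W.ρ hyK⟩ : (unitImage W.ρ K')) = ⟨_, uMem W.ρ hq⟩ * ⟨_, uMem W.ρ hyK'⟩ :=
      Subtype.ext (by simp [map_mul, map_inv])
    rw [e1, hTm, hTm, mul_eq_right] at h
    rw [e1, hTm, mul_eq_right]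
    obtain ⟨hc, he⟩ := hT _ hq
    rw [he] at h ⊢
    obtain ⟨hc', he'⟩ := hT _ hc
    rw [he', hone _ hc'] at h
    rw [hone _ hc]
    refine mem_of_commutator_mem (q := p) (p := p') T.link.ne.symm T.lev'.pgroup ?_ hc h
    obtain ⟨a, ha⟩ := hep
    exact ⟨a, by rw [ha]; exact one_mem _⟩
  have hkT : ∀ a ∈ F, KillsMoved (imageAction W.ρ K') {l : (unitImage W.ρ K') →* 𝕂ˣ | blk (unitImage W.ρ K') l ≠ 0} σ a := by
    intro a ha
    obtain ⟨b, ⟨y, hy, hyσ, hyK, rfl⟩, rfl⟩ :=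
      (Set.Finite.surjOn_iff_bijOn_of_mapsTo (Set.toFinite F) hmaps).2
        ⟨hmaps, hinj, fun b hb => by
          have := (Set.toFinite F).injOn_iff_bijOn_of_mapsTo hmaps |>.1 hinj
          exact this.surjOn hb⟩ ha
    obtain ⟨hc, he⟩ := hT y hyK
    obtain ⟨hc', he'⟩ := hT _ hc
    rw [he, he']
    exact hkilled _ hc' (hcm _ (hcm y hy hyσ).1 (hcm y hy hyσ).2).2 (hall y hy hyσ)
  obtain ⟨w, hw, hwσ, hwn⟩ := hmove
  have hwK : w ∈ K' := hUK hw
  obtain ⟨hc1, he1⟩ := hT w hwK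
  set z : (unitImage W.ρ K') := T1 ⟨_, uMem W.ρ hwK⟩ with hz
  have hzk := hkT z ⟨w, hw, hwσ, hwK, rfl⟩
  have hσfix : ∀ y (hy : y ∈ K'), y * σ = σ * y →
      (imageAction W.ρ K') σ (⟨_, uMem W.ρ hy⟩ : (unitImage W.ρ K')) = ⟨_, uMem W.ρ hy⟩ := fun y hy hyσ => by
    rw [imageAction_apply W.ρ K' σ hy]
    refine Subtype.ext ?_
    show W.ρ.toHomUnits _ = W.ρ.toHomUnits y
    rw [← hyσ, mul_inv_cancel_right]
  have hBφ : ∀ g h : Γ, ⁅h⁻¹, g⁻¹⁆ ∈ B → (imageAction W.ρ K') (g * h) = (imageAction W.ρ K') (h * g) := fun g h hb => by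
    rw [show h * g = g * h * ⁅h⁻¹, g⁻¹⁆ by rw [commutatorElement_def]; group, hB _ hb]
  have hcen : ∀ m ∈ secFrattini p K B, ∀ x ∈ K, ⁅x, m⁆ ∈ B := fun m hm x hx => by
    rw [← commutatorElement_inv]; exact B.inv_mem (T.lev.central m hm x hx)
  have hez : (imageAction W.ρ K') e z = z := by
    refine S.fixed_of_commute heσ (Z := R ⊓ secFrattini p K B) inf_le_left ?_ ?_ ?_ ?_ ?_ hzk ?_ ?_
    · exact fun m hm x hx => hBφ m x (hcen _ ((secFrattini p K B).inv_mem hm.2) _ (K.inv_mem (hRK hx)))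
    · intro m hm
      have h1 : (imageAction W.ρ K') (e * m) = (imageAction W.ρ K') (m * e) :=
        hBφ e m (T.lev.central _ ((secFrattini p K B).inv_mem hm.2) _ (K.inv_mem heK))
      calc (imageAction W.ρ K') (e * m * e⁻¹) = (imageAction W.ρ K') (e * m) * (imageAction W.ρ K') e⁻¹ := map_mul _ _ _
        _ = (imageAction W.ρ K') (m * e * e⁻¹) := by rw [h1, ← map_mul]
        _ = (imageAction W.ρ K') m := by rw [mul_inv_cancel_right]
    · exact CoprimeAction.mem_normalizer_of_conj_mem fun x hx =>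
        ⟨CoprimeAction.conj_mem (mem_normalizer_commutator_zpowers rfl) hx.1,
          Subgroup.Normal.conj_mem inferInstance x hx.2 σ⟩
    · intro x hx
      refine ⟨x⁻¹ * (e * x * e⁻¹), ⟨Subgroup.mul_mem _ (Subgroup.inv_mem _ hx)
        (CoprimeAction.conj_mem heR hx), ?_⟩,
        by rw [mul_inv_cancel_left]⟩
      rw [show x⁻¹ * (e * x * e⁻¹) = ⁅x⁻¹, e⁆ by rw [commutatorElement_def]; group]
      exact commutator_le_secFrattini p K B
        (Subgroup.commutator_mem_commutator (inv_mem (hRK hx)) heK)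
    · rw [he1]; exact hσfix _ hc1 (hcm w hw hwσ).2
    · intro l _ hl
      refine ⟨by rw [he1]; exact hU _ (hcm w hw hwσ).1 hc1 l hl, ?_⟩
      rw [he1, imageAction_apply W.ρ K' e hc1]
      exact hU _ (CoprimeAction.conj_mem heU (hcm w hw hwσ).1)
        (Subgroup.Normal.conj_mem inferInstance _ hc1 e) l hl
    · intro x hx l hl hm
      rw [he1]
      obtain ⟨c, hcU, hcK, hcσ, hce⟩ := T.exists_fixed_orbitProd hab W (hcm w hw hwσ).1 hx hc1
      rw [hce]
      have := hkT _ ⟨c, hcU, hcσ, hcK, rfl⟩ l hl hm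
      rwa [hT1, map_mul, map_inv, mul_inv_eq_one] at this
  refine hwn (le_secFrattini _ _ _ ((hone _ hc1).1 ?_))
  rw [← he1]
  have h1 : T1 z = 1 := by rw [hT1, hez, mul_inv_cancel]
  rw [he1] at h1 ⊢
  obtain ⟨hc2, he2⟩ := hT _ hc1
  rw [he2, hone _ hc2] at h1
  rw [hone _ hc1]
  refine mem_of_commutator_mem (q := p) (p := p') T.link.ne.symm T.lev'.pgroup ?_ hc1 h1
  obtain ⟨a, ha⟩ := hep
  exact ⟨a, by rw [ha]; exact one_mem _⟩

/-- The first moved level: an element above moving a fixed element is pushed down, or centralizes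
the level. -/
theorem Triple.kc_abelian (T : Triple L σ r p K B p' K' B' p'' K'' B'') (hab : ⁅K', K'⁆ ≤ B')
    (hgen : ∀ g : Γ, ∃ c, c * σ = σ * c ∧ ∃ x ∈ K, g = c * x) (hfull : R ⊔ B = K)
    {e : Γ} (heσ : e * σ = σ * e) (hecop : r.Coprime (orderOf e))
    (hmove : Moves σ U M' e) :
    (∃ y ∈ U, y * σ = σ * y ∧ Moves σ U'' M'' ⁅e, y⁆) ∨
      ∀ x ∈ K, ⁅e, x⁆ ∈ secFrattini p K B := by
  classical
  haveI := T.lev.normalK
  haveI := T.lev.normalB
  haveI := T.lev'.normalK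
  haveI := T.lev'.normalB
  obtain ⟨W⟩ := T.lev''.exists_secRep
  haveI := finite_unitImage W.ρ K'
  haveI : IsMulCommutative (unitImage W.ρ K') := isMulCommutative_unitImage W.ρ fun x hx y hy => by
    have h1 := (T.link'.rho_eq_one_iff W (T.lev'.lt'.le
      (hab (Subgroup.commutator_mem_commutator hx hy)))).2
        (hab (Subgroup.commutator_mem_commutator hx hy))
    show W.ρ x * W.ρ y = W.ρ y * W.ρ x
    rw [← map_mul, ← map_mul, show x * y = ⁅x, y⁆ * (y * x) by rw [commutatorElement_def]; group,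
      map_mul, h1, one_mul]
  obtain ⟨S, hone, hB, hkilled, hU, hlift⟩ := T.abelian_facts hab W
  set Ω : Set ((unitImage W.ρ K') →* 𝕂ˣ) := {l | blk (unitImage W.ρ K') l ≠ 0}
  refine or_iff_not_imp_left.2 fun hall => ?_
  push Not at hall
  set M := secFrattini p K B with hM
  have heR : e ∈ Subgroup.normalizer ((R : Subgroup Γ) : Set Γ) :=
    mem_normalizer_commutator_zpowers heσ
  have heU : e ∈ Subgroup.normalizer ((U : Subgroup Γ) : Set Γ) := mem_normalizer_span heR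
  have hσfix : ∀ y (hy : y ∈ K'), y * σ = σ * y →
      (imageAction W.ρ K') σ (⟨_, uMem W.ρ hy⟩ : (unitImage W.ρ K')) = ⟨_, uMem W.ρ hy⟩ := fun y hy hyσ => by
    rw [imageAction_apply W.ρ K' σ hy]
    refine Subtype.ext ?_
    show W.ρ.toHomUnits _ = W.ρ.toHomUnits y
    rw [← hyσ, mul_inv_cancel_right]
  have hTk : ∀ y ∈ U, y * σ = σ * y → ∀ (hy : y ∈ K'),
      KillsMoved (imageAction W.ρ K') Ω σ ((imageAction W.ρ K') e ⟨_, uMem W.ρ hy⟩ * (⟨_, uMem W.ρ hy⟩ : (unitImage W.ρ K'))⁻¹) ∧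
      ∃ (hc : ⁅e, y⁆ ∈ K'), (imageAction W.ρ K') e ⟨_, uMem W.ρ hy⟩ * (⟨_, uMem W.ρ hy⟩ : (unitImage W.ρ K'))⁻¹ =
        ⟨_, uMem W.ρ hc⟩ := by
    intro y hy hyσ hyK
    have hc : ⁅e, y⁆ ∈ K' := by
      rw [commutatorElement_def]
      exact K'.mul_mem (Subgroup.Normal.conj_mem inferInstance y hyK e) (K'.inv_mem hyK)
    have he : (imageAction W.ρ K') e ⟨_, uMem W.ρ hyK⟩ * (⟨_, uMem W.ρ hyK⟩ : (unitImage W.ρ K'))⁻¹ = ⟨_, uMem W.ρ hc⟩ := by
      rw [imageAction_apply W.ρ K' e hyK]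
      exact Subtype.ext (by simp [commutatorElement_def, map_mul, map_inv])
    refine ⟨he ▸ hkilled _ hc ?_ (hall y hy hyσ), hc, he⟩
    rw [commutatorElement_def]
    exact ((((show Commute e σ from heσ).mul_left hyσ).mul_left
      (show Commute e σ from heσ).inv_left).mul_left (show Commute y σ from hyσ).inv_left).eq
  have hH : ∀ z ∈ U, ∀ (hz : z ∈ K'), ∀ x ∈ R, ∀ l ∈ Ω, act (imageAction W.ρ K') σ l ≠ l →
      l ((imageAction W.ρ K') e (orbitProd (imageAction W.ρ K') σ r ((imageAction W.ρ K') x ⟨_, uMem W.ρ hz⟩))) =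
        l (orbitProd (imageAction W.ρ K') σ r ((imageAction W.ρ K') x ⟨_, uMem W.ρ hz⟩)) := by
    intro z hz hzK x hx l hl hm
    obtain ⟨c, hcU, hcK, hcσ, hce⟩ := T.exists_fixed_orbitProd hab W hz hx hzK
    rw [hce]
    have := (hTk c hcU hcσ hcK).1 l hl hm
    rwa [map_mul, map_inv, mul_inv_eq_one] at this
  -- the characters detected by killed fixed images
  let Kill : unitImage W.ρ K' → Prop := fun a => ∃ z ∈ U, ∃ (hz : z ∈ K'), z * σ = σ * z ∧
    KillsMoved (imageAction W.ρ K') Ω σ (⟨_, uMem W.ρ hz⟩ : unitImage W.ρ K') ∧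
    a = ⟨_, uMem W.ρ hz⟩
  obtain ⟨w, hw, hwσ, hwn⟩ := hmove
  have hwK : w ∈ K' := span_le (secFrattini_le T.lev'.lt'.le) hw
  obtain ⟨hkw, hcw, hew⟩ := hTk w hw hwσ hwK
  have hcwU : ⁅e, w⁆ ∈ U := by
    rw [commutatorElement_def]; exact mul_mem (CoprimeAction.conj_mem heU hw) (inv_mem hw)
  have hcwσ : ⁅e, w⁆ * σ = σ * ⁅e, w⁆ := by
    rw [commutatorElement_def]
    exact ((((show Commute e σ from heσ).mul_left hwσ).mul_left
      (show Commute e σ from heσ).inv_left).mul_left (show Commute w σ from hwσ).inv_left).eq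
  obtain ⟨l0, hl0, hl0z⟩ : ∃ l ∈ Ω, l (⟨_, uMem W.ρ hcw⟩ : (unitImage W.ρ K')) ≠ 1 := by
    by_contra! h
    exact hwn (le_secFrattini _ _ _ ((hone _ hcw).1 (S.sep _ h)))
  rw [hew] at hkw
  have hl0σ : act (imageAction W.ρ K') σ l0 = l0 := by
    by_contra hm
    exact hl0z (hkw l0 hl0 hm)
  have hRK : (R : Subgroup Γ) ≤ K := Subgroup.commutator_le_left K _
  obtain ⟨Y, hYdef⟩ : ∃ Y, Y = S.fixInf M Kill := ⟨_, rfl⟩
  have hkl0 : Kill ⟨_, uMem W.ρ hcw⟩ := ⟨_, hcwU, hcw, hcwσ, hkw, rfl⟩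
  have hY0 : Y ≤ S.fixSet hl0σ ⊔ M :=
    hYdef.le.trans (S.fixInf_le M Kill hl0σ hl0 hkl0 hl0z)
  have hYK : Y ≤ K := hY0.trans (sup_le (fun x hx => hRK hx.1) (secFrattini_le T.lev.lt'.le))
  have hMY : M ≤ Y := (S.le_fixInf M Kill).trans hYdef.ge
  have hcentr : ∀ g : Γ, g * σ = σ * g → g ∈ Subgroup.normalizer (Y : Set Γ) := by
    intro g hg
    rw [hYdef]
    refine S.mem_normalizer_fixInf Kill hg (mem_normalizer_commutator_zpowers hg)
      (mem_normalizer_of_normal M g) ?_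
    rintro _ ⟨z, hzU, hzK, hzσ, hzk, rfl⟩
    have hgc : Commute g⁻¹ σ := (show Commute g σ from hg).inv_left
    refine ⟨_, CoprimeAction.conj_mem
      (mem_normalizer_span (mem_normalizer_commutator_zpowers hgc.eq)) hzU,
      Subgroup.Normal.conj_mem inferInstance z hzK g⁻¹,
      ((hgc.mul_left hzσ).mul_left hgc.inv_left).eq, ?_, imageAction_apply W.ρ K' g⁻¹ hzK⟩
    rw [← imageAction_apply W.ρ K' g⁻¹ hzK]
    exact hzk.of_commute S.inv hgc.eq
  have hKn : ∀ g ∈ K, g ∈ Subgroup.normalizer (Y : Set Γ) := by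
    intro g hg
    refine CoprimeAction.mem_normalizer_of_conj_mem fun y hy => ?_
    rw [show g * y * g⁻¹ = ⁅g, y⁆ * y by rw [commutatorElement_def, inv_mul_cancel_right]]
    exact Y.mul_mem (hMY (commutator_le_secFrattini p K B
      (Subgroup.commutator_mem_commutator hg (hYK hy)))) hy
  haveI hYn : Y.Normal := by
    rw [← Subgroup.normalizer_eq_top_iff, eq_top_iff]
    intro g _
    obtain ⟨c, hc, x, hx, rfl⟩ := hgen g
    exact mul_mem (hcentr c hc) (hKn x hx)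
  have hBφ : ∀ b ∈ B, (imageAction W.ρ K') b = 1 := fun b hb => by
    have := hB b hb 1
    rwa [one_mul, map_one] at this
  have hYM : Y = M := by
    refine (T.lev.irred Y hYn hMY hYK).resolve_right fun hYeq => ?_
    have hle : K ≤ S.fixSet hl0σ ⊔ M := hYeq.ge.trans hY0
    have hDK : S.fixSet hl0σ ≤ K := fun x hx => hRK hx.1
    have hKeq : S.fixSet hl0σ ⊔ B = K :=
      haveI := Fact.mk T.lev.prime
      eq_of_sup_secFrattini (p := p) T.lev.pgroup le_sup_right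
        (sup_le hDK T.lev.lt'.le)
        (le_antisymm (sup_le (sup_le hDK T.lev.lt'.le) (secFrattini_le T.lev.lt'.le))
          (hle.trans (sup_le_sup_right le_sup_left M)))
    have hR : ∀ x ∈ R, act (imageAction W.ρ K') x l0 = l0 := by
      by_contra hne
      push Not at hne
      obtain ⟨x, hx, hm⟩ := S.exists_moved hl0σ hne
      obtain ⟨f, hf, b, hb, hfb⟩ := Subgroup.mem_sup_of_normal_right.1 (hKeq.ge (hRK hx))
      refine hm ?_
      rw [← hfb, act_congr (show (imageAction W.ρ K') (f * b) = (imageAction W.ρ K') f by rw [map_mul, hBφ b hb, mul_one])]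
      exact hf.2
    exact hl0z (hU _ hcwU hcw l0 hR)
  intro x hx
  have key : ∀ x ∈ R, ⁅e, x⁆ ∈ M := fun x hx => by
    have hmem : x⁻¹ * (e * x * e⁻¹) ∈ Y := by
      rw [hYdef]
      refine S.mem_fixInf ?_
      rintro l hl _ hlΩ ⟨z, hzU, hzK, hzσ, hzk, rfl⟩ hlz
      exact Subgroup.mem_sup_left (S.mem_fixSet heσ heR hecop (hσfix z hzK hzσ) hzk
        (hH z hzU hzK) hl hlΩ hlz hx)
    rw [show ⁅e, x⁆ = x * (x⁻¹ * (e * x * e⁻¹)) * x⁻¹ by rw [commutatorElement_def]; group]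
    exact Subgroup.Normal.conj_mem inferInstance _ (hYM ▸ hmem) x
  obtain ⟨f, hf, b, hb, hfb⟩ := Subgroup.mem_sup_of_normal_right.1 (hfull.ge hx)
  rw [← hfb, show ⁅e, f * b⁆ = ⁅e, f⁆ * (f * ⁅e, b⁆ * f⁻¹) by simp [commutatorElement_def, mul_assoc]]
  refine M.mul_mem (key f hf) (Subgroup.Normal.conj_mem inferInstance _ (le_secFrattini p K B ?_) f)
  rw [commutatorElement_def]
  exact B.mul_mem (Subgroup.Normal.conj_mem inferInstance b hb e) (B.inv_mem hb)

end CfsgLib.FittingHeightPrime
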