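/-
An odd group acting with an operator of order `2 ^ m + 1` cannot have two fixed vectors and a small
commutator space.
-/
import Mathlib
import Cfsg.Agent.Lib.FittingHeightPrime.RepBlocks

set_option autoImplicit false
set_option linter.style.haveILetI false
set_option linter.unusedSectionVars false

open Module
open scoped commutatorElement IsMulCommutative

namespace CfsgLib.FittingHeightPrime

open HallHigmanExc

universe u v w

variable {G : Type w} [Group G] {K : Type u} [Field K] {V : Type v} [AddCommGroup V] [Module K V]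
  {ρ : G →* Module.End K V} {σ : G} {r p : ℕ} {R Z : Subgroup G}

theorem eigProj_apply_of_fixed {g : G} {v : V} (h : ρ g v = v) (hrK : (r : K) ≠ 0) :
    eigProj r (1 : K) (ρ g) v = v := by
  have h2 : ∀ n : ℕ, (ρ g ^ n) v = v := fun n => by
    induction n with
    | zero => rfl
    | succ n ih => rw [pow_succ', Module.End.mul_apply, ih, h]
  simp only [eigProj, inv_one, one_pow, one_smul, LinearMap.smul_apply, LinearMap.sum_apply, h2,
    Finset.sum_const, Finset.card_range]
  rw [← Nat.cast_smul_eq_nsmul K, smul_smul, inv_mul_cancel₀ hrK, one_smul]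

/-- The twist by a power of `σ`. -/
theorem twist_pow_mem [Finite G] {A : Subgroup (Module.End K V)ˣ}
    (hσA : ρ.toHomUnits σ ∈ Subgroup.normalizer (A : Set (Module.End K V)ˣ)) (i : ℕ) :
    ρ.toHomUnits (σ ^ i) ∈ Subgroup.normalizer (A : Set (Module.End K V)ˣ) := by
  rw [map_pow]; exact pow_mem hσA i

/-- Two independent vectors in every eigenspace of the operator. -/
theorem two_eigenvectors [Finite G] [IsAlgClosed K] (A : Subgroup (Module.End K V)ˣ) [Finite A]
    [IsMulCommutative A] (hA : (Nat.card A : K) ≠ 0) (hr : r.Prime) (hrK : (r : K) ≠ 0)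
    (hσ : σ ^ r = 1) (hσA : ρ.toHomUnits σ ∈ Subgroup.normalizer (A : Set (Module.End K V)ˣ))
    {ζ : K}
    (hblocks : ∀ l : A →* Kˣ, blk A l ≠ 0 → twist A hσA l = l →
      eigProj r ζ (ρ σ) * blk A l ≠ 0)
    (hone : ∀ l : A →* Kˣ, twist A hσA l = l → blk A l ≠ 1)
    {c u : V} (hc : ρ σ c = c) (hu : ρ σ u = u)
    (hind : ∀ a b : K, a • c + b • u = 0 → a = 0 ∧ b = 0) :
    ∃ v w : V, ∀ a b : K,
      eigProj r ζ (ρ σ) (a • v + b • w) = 0 → a = 0 ∧ b = 0 := by
  classical
  set P := eigProj r ζ (ρ σ) with hP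
  obtain ⟨hf, hsum⟩ := exists_sum_blk (K := K) A hA
  have hc0 : c ≠ 0 := fun h => one_ne_zero (hind 1 0 (by simp [h])).1
  obtain ⟨l0, hl0⟩ : ∃ l : A →* Kˣ, blk A l ≠ 0 := by
    by_contra! h
    refine hc0 ?_
    rw [← Module.End.one_apply (R := K) c, ← hsum, LinearMap.sum_apply]
    exact Finset.sum_eq_zero fun l _ => by rw [h l, LinearMap.zero_apply]
  have htp := twist_pow_mem hσA
  let orb : (A →* Kˣ) → ℕ → (A →* Kˣ) := fun l i => twist A (htp i) l
  have horbσ : ∀ l : A →* Kˣ, twist A hσA l = l → ∀ i, orb l i = l := fun l h i => by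
    induction i with
    | zero => exact (twist_congr _ (one_mem _) (by rw [pow_zero, map_one]) l).trans (twist_one' l)
    | succ i ih =>
      refine (twist_congr _ (mul_mem (htp i) hσA) (by rw [pow_succ, map_mul]) l).trans ?_
      rw [twist_mul A (htp i) hσA l, h]; exact ih
  have hkill : ∀ l m : A →* Kˣ, (∀ i, i < r → m ≠ orb l i) →
      blk A m * (P * blk A l) = 0 := by
    intro l m h
    simp only [hP, eigProj, smul_mul_assoc, mul_smul_comm, Finset.sum_mul, Finset.mul_sum,
      ← map_pow]
    rw [Finset.sum_eq_zero fun i hi => by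
      rw [blk_mul_rho_mul_blk hA (htp i) l m, if_neg (h i (Finset.mem_range.1 hi)), smul_zero],
      smul_zero]
  have hne : ∀ l : A →* Kˣ, blk A l ≠ 0 → ∃ x, P (blk A l x) ≠ 0 := by
    intro l hl
    have h1 : P * blk A l ≠ 0 := by
      by_cases hσl : twist A hσA l = l
      · exact hblocks l hl hσl
      · exact eigProj_mul_blk_ne_zero hA hr hrK hσ hσA hσl hl ζ
    by_contra! h
    exact h1 (LinearMap.ext h)
  by_cases hsplit : ∃ m : A →* Kˣ, blk A m ≠ 0 ∧ ∀ i, i < r → m ≠ orb l0 i
  · obtain ⟨m, hm, hmo⟩ := hsplit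
    obtain ⟨x, hx⟩ := hne l0 hl0
    obtain ⟨y, hy⟩ := hne m hm
    refine ⟨blk A l0 x, blk A m y, fun a b h => ?_⟩
    rw [map_add, map_smul, map_smul] at h
    have hb : b = 0 := by
      by_cases hσm : twist A hσA m = m
      · have hc1 : Commute (blk A m) P :=
          eigProj_commute (commute_of_twist_eq hσA hσm).symm
        have h1 := congrArg (blk A m : Module.End K V) h
        rw [map_zero, map_add, map_smul, map_smul,
          show blk A m (P (blk A l0 x)) = (blk A m * (P * blk A l0)) x from rfl, hkill l0 m hmo,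
          LinearMap.zero_apply, smul_zero, zero_add,
          show blk A m (P (blk A m y)) = (blk A m * P * blk A m) y from rfl, hc1.eq, mul_assoc,
          blk_mul_blk A hA, if_pos rfl, Module.End.mul_apply] at h1
        exact (smul_eq_zero.1 h1).resolve_right hy
      · have hd := blk_mul_eigProj_mul_blk hA hr hσ hσA hσm ζ
        have h1 := congrArg (blk A m : Module.End K V) h
        rw [map_zero, map_add, map_smul, map_smul,
          show blk A m (P (blk A l0 x)) = (blk A m * (P * blk A l0)) x from rfl, hkill l0 m hmo,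
          LinearMap.zero_apply, smul_zero, zero_add,
          show blk A m (P (blk A m y)) = (blk A m * (P * blk A m)) y from rfl, hd,
          LinearMap.smul_apply, smul_smul] at h1
        rcases smul_eq_zero.1 h1 with h2 | h2
        · exact (mul_eq_zero.1 h2).resolve_right (inv_ne_zero hrK)
        · exact absurd (by rw [h2, map_zero]) hy
    refine ⟨?_, hb⟩
    rw [hb, zero_smul, add_zero] at h
    exact (smul_eq_zero.1 h).resolve_right hx
  push Not at hsplit
  have hσl0 : twist A hσA l0 ≠ l0 := by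
    intro h
    refine hone l0 h ?_
    rw [← hsum, Finset.sum_eq_single l0]
    · intro m _ hm
      by_contra hm0
      obtain ⟨i, -, hi⟩ := hsplit m hm0
      exact hm (hi.trans (horbσ l0 h i))
    · exact fun h => absurd (Finset.mem_univ l0) h
  have hinj : ∀ v, ρ σ v = v → blk A l0 v = 0 → v = 0 := by
    intro v hv h0
    have hvi : ∀ i : ℕ, ρ (σ ^ i) v = v := fun i => by
      induction i with
      | zero => rw [pow_zero, map_one]; rfl
      | succ i ih => rw [pow_succ, map_mul, Module.End.mul_apply, hv, ih]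
    rw [← Module.End.one_apply (R := K) v, ← hsum, LinearMap.sum_apply]
    refine Finset.sum_eq_zero fun m _ => ?_
    by_cases hm : blk A m = 0
    · rw [hm, LinearMap.zero_apply]
    obtain ⟨i, -, rfl⟩ := hsplit m hm
    show blk A (twist A (htp i) l0) v = 0
    conv_lhs => rw [← hvi i, ← Module.End.mul_apply, ← rho_mul_blk (htp i) l0, Module.End.mul_apply,
      h0, map_zero]
  refine ⟨blk A l0 c, blk A l0 u, fun a b h => ?_⟩
  rw [← map_smul, ← map_smul, ← map_add] at h
  have h1 := congrArg (blk A l0 : Module.End K V) h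
  rw [map_zero, show blk A l0 (P (blk A l0 (a • c + b • u))) =
      (blk A l0 * (P * blk A l0)) (a • c + b • u) from rfl,
    blk_mul_eigProj_mul_blk hA hr hσ hσA hσl0 ζ, LinearMap.smul_apply] at h1
  exact hind a b (hinj _ (by rw [map_add, map_smul, map_smul, hc, hu])
    ((smul_eq_zero.1 h1).resolve_left (inv_ne_zero hrK)))

/-- The exclusion. -/
theorem RepData.excluded [Finite G] [IsAlgClosed K] [FiniteDimensional K V]
    (D : RepData ρ σ r p R Z) (hp : p ≠ 2)
    (hfix : ∀ v : V, (∀ x ∈ R, ρ x v = v) → v = 0)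
    (hscalar : ∀ x ∈ Z, ∀ k : K, ρ x = k • (1 : Module.End K V) → k = 1)
    {c u : V} (hc : ρ σ c = c) (hu : ρ σ u = u)
    (hind : ∀ a b : K, a • c + b • u = 0 → a = 0 ∧ b = 0)
    {m : ℕ} (hrm : r - 1 = 2 ^ m)
    (hbound : finrank K (LinearMap.range (ρ σ - 1)) ≤ 2 * m) : False := by
  classical
  haveI := Fact.mk D.prime
  haveI := Fact.mk D.hp
  have hr1 : 1 < r := D.prime.one_lt
  haveI : NeZero ((r : ℕ) : K) := ⟨D.hrK⟩
  haveI : NeZero r := ⟨by omega⟩
  obtain ⟨ζ, hζ⟩ := HasEnoughRootsOfUnity.exists_primitiveRoot K r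
  have hζ0 : ζ ≠ 0 := hζ.ne_zero (by omega)
  have htwo : ∀ μ : K, μ ≠ 0 →
      ∃ v w : V, ∀ a b : K, eigProj r μ (ρ σ) (a • v + b • w) = 0 → a = 0 ∧ b = 0 := by
    intro μ hμ
    by_cases hcomm : ∀ x ∈ R, ∀ y ∈ R, Commute (ρ x) (ρ y)
    · let A := unitImage ρ R
      haveI : Finite A := finite_unitImage ρ R
      haveI : IsMulCommutative A := isMulCommutative_unitImage ρ hcomm
      have hσA : ρ.toHomUnits σ ∈ Subgroup.normalizer (A : Set (Module.End K V)ˣ) :=
        mem_normalizer_unitImage ρ D.normR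
      have hnone : ∀ l : A →* Kˣ, twist A hσA l = l → blk A l = 0 := fun l hl =>
        LinearMap.ext fun v => hfix _ fun x hx => by
          rw [← Module.End.mul_apply,
            rho_mul_blk_of_mem_commutator D.normR (commute_of_twist_eq hσA hl) (D.gen hx)]
      have h0 : c ≠ 0 := fun h => one_ne_zero (hind 1 0 (by simp [h])).1
      exact two_eigenvectors A (card_unitImage_ne_zero ρ D.hpK D.pgroup) D.prime D.hrK D.pow_eq
        hσA (fun l hl hσl => absurd (hnone l hσl) hl)
        (fun l hσl h1 => h0 (by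
          rw [← Module.End.one_apply (R := K) c, ← h1, hnone l hσl, LinearMap.zero_apply]))
        hc hu hind
    · let A := unitImage ρ Z
      haveI : Finite A := finite_unitImage ρ Z
      haveI : IsMulCommutative A :=
        isMulCommutative_unitImage ρ fun x hx y hy => D.central x hx y (D.le hy)
      have hσA : ρ.toHomUnits σ ∈ Subgroup.normalizer (A : Set (Module.End K V)ˣ) :=
        mem_normalizer_unitImage ρ D.normZ
      refine two_eigenvectors A (card_unitImage_ne_zero ρ D.hpK fun x hx => D.pgroup x (D.le hx))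
        D.prime D.hrK D.pow_eq hσA (fun l hl hσl => ?_) (fun l hσl h1 => hcomm ?_) hc hu hind
      · have hRe : R ≤ commStab ρ (blk A l) := fun x hx =>
          commute_blk_of_commute (fun z hz => (D.central z hz x hx).symm) l
        have hσe : σ ∈ commStab ρ (blk A l) := commute_of_twist_eq hσA hσl
        haveI : Nontrivial (LinearMap.range (blk A l)) := Submodule.nontrivial_iff_ne_bot.2
          fun h => hl (LinearMap.range_eq_bot.1 h)
        have h1 := (D.restrictTo hRe hσe).exists_eigen hp (fun v hv => Subtype.ext (hfix v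
          fun x hx => congrArg Subtype.val (hv ⟨x, hRe hx⟩ (Subgroup.mem_subgroupOf.2 hx)))) hμ
        intro h0
        refine h1 (LinearMap.ext fun v => Subtype.ext ?_)
        obtain ⟨w, hw⟩ := v.2
        rw [restrictTo_eigProj, ← hw, ← Module.End.mul_apply, h0]
        rfl
      · intro x hx y hy
        have hz : ⁅x, y⁆ ∈ Z := D.comm_mem x hx y hy
        have h2 := rho_mul_blk_self (ρ := ρ) hz l
        rw [h1, mul_one] at h2
        have h3 : ρ ⁅x, y⁆ = 1 := by
          rw [h2, hscalar _ hz _ h2, one_smul]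
        show ρ x * ρ y = ρ y * ρ x
        rw [← map_mul, ← map_mul, show x * y = ⁅x, y⁆ * (y * x) by
          rw [commutatorElement_def]; group, map_mul, h3, one_mul]
  choose! v w hvw using htwo
  let μ : Fin (r - 1) → K := fun i => ζ ^ ((i : ℕ) + 1)
  have hμ0 : ∀ i, μ i ≠ 0 := fun i => pow_ne_zero _ hζ0
  let F : (Fin (r - 1) × Fin 2) → V := fun t =>
    eigProj r (μ t.1) (ρ σ) (if t.2 = 0 then v (μ t.1) else w (μ t.1))
  have hσr : ρ σ ^ r = 1 := by rw [← map_pow, D.pow_eq, map_one]
  have hmem : ∀ t, F t ∈ LinearMap.range (ρ σ - 1) := by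
    intro t
    set z := if t.2 = 0 then v (μ t.1) else w (μ t.1)
    have h1 : ρ σ * eigProj r (μ t.1) (ρ σ) = μ t.1 • eigProj r (μ t.1) (ρ σ) :=
      mul_eigProj (by rw [← pow_mul, mul_comm, pow_mul, hζ.pow_eq_one, one_pow]) (hμ0 _) hσr
    have hne : μ t.1 - 1 ≠ 0 := sub_ne_zero.2 fun h => by
      have h2 := Nat.le_of_dvd (by omega) (hζ.dvd_of_pow_eq_one _ h)
      have := t.1.2
      omega
    refine ⟨(μ t.1 - 1)⁻¹ • F t, ?_⟩
    show (ρ σ - 1) ((μ t.1 - 1)⁻¹ • eigProj r (μ t.1) (ρ σ) z) = _
    rw [map_smul, LinearMap.sub_apply, Module.End.one_apply, ← Module.End.mul_apply, h1,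
      LinearMap.smul_apply]
    show (μ t.1 - 1)⁻¹ • (μ t.1 • eigProj r (μ t.1) (ρ σ) z - eigProj r (μ t.1) (ρ σ) z) =
      eigProj r (μ t.1) (ρ σ) z
    rw [show μ t.1 • eigProj r (μ t.1) (ρ σ) z - eigProj r (μ t.1) (ρ σ) z =
      (μ t.1 - 1) • eigProj r (μ t.1) (ρ σ) z by rw [sub_smul, one_smul], smul_smul,
      inv_mul_cancel₀ hne, one_smul]
  have hli : LinearIndependent K F := by
    rw [Fintype.linearIndependent_iff]
    intro g hg t
    have h1 := congrArg (eigProj r (μ t.1) (ρ σ) : Module.End K V) hg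
    rw [map_zero, map_sum, Fintype.sum_prod_type, Finset.sum_eq_single t.1] at h1
    · simp only [Fin.sum_univ_two, map_smul, F, if_pos, if_neg (show (1 : Fin 2) ≠ 0 by decide),
        ← Module.End.mul_apply] at h1
      rw [eigProj_idem hζ hr1 D.hrK hσr (by have := t.1.2; omega), ← map_smul, ← map_smul,
        ← map_add] at h1
      obtain ⟨h2, h3⟩ := hvw (μ t.1) (hμ0 _) _ _ h1
      obtain ⟨i, s⟩ := t
      fin_cases s
      · exact h2
      · exact h3
    · intro j _ hj
      refine Finset.sum_eq_zero fun s _ => ?_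
      rw [map_smul]
      show g (j, s) • eigProj r (μ t.1) (ρ σ) (eigProj r (μ j) (ρ σ) _) = 0
      rw [← Module.End.mul_apply, eigProj_mul hζ hr1 hσr (by have := t.1.2; omega)
        (by have := j.2; omega) (fun h => hj (Fin.ext (by omega)).symm), LinearMap.zero_apply,
        smul_zero]
    · exact fun h => absurd (Finset.mem_univ _) h
  let F' : (Fin (r - 1) × Fin 2) → LinearMap.range (ρ σ - 1) := fun t => ⟨F t, hmem t⟩
  have hli' : LinearIndependent K F' :=
    LinearIndependent.of_comp (LinearMap.range (ρ σ - 1)).subtype hli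
  have h4 := hli'.fintype_card_le_finrank
  rw [Fintype.card_prod, Fintype.card_fin, Fintype.card_fin] at h4
  have h5 : m < 2 ^ m := Nat.lt_two_pow_self
  omega

end CfsgLib.FittingHeightPrime
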