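/-
An element of prime power order which fixes the fixed space of the operator acts on the group as the
identity or, in characteristic exceptional case, as the inversion modulo the centre.
-/
import Mathlib
import Cfsg.Agent.Lib.FittingHeightPrime.RepBlocks
import Cfsg.Agent.Lib.FittingHeightPrime.Fixed

set_option autoImplicit false
set_option linter.style.haveILetI false
set_option linter.unusedSectionVars false

open Module
open scoped commutatorElement IsMulCommutative

namespace CfsgLib.FittingHeightPrime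

open HallHigmanExc

universe u v w

variable {G : Type w} [Group G] [Finite G] {K : Type u} [Field K] {V : Type v} [AddCommGroup V]
  [Module K V]

/-- Commutators with a fixed element are multiplicative when they are central. -/
theorem commutatorElement_mul_right_of_central {c u v : G} (h : Commute u ⁅c, v⁆) :
    ⁅c, u * v⁆ = ⁅c, u⁆ * ⁅c, v⁆ := by
  rw [show ⁅c, u * v⁆ = ⁅c, u⁆ * (u * ⁅c, v⁆ * u⁻¹) by simp [commutatorElement_def, mul_assoc],
    h.eq, mul_inv_cancel_right]

theorem kernel_core [IsAlgClosed K] [FiniteDimensional K V] [Nontrivial V]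
    (ρ : G →* Module.End K V) (hinj : Function.Injective ρ) {r q p : ℕ} [Fact r.Prime]
    [Fact q.Prime] [Fact p.Prime] (hqp : q ≠ p) (hrq : r ≠ q) (hrK : (r : K) ≠ 0)
    (Q : Subgroup G) [Q.Normal] (hQ : IsPGroup p Q) {s η : G} (hs : s ^ r = 1) {a : ℕ}
    (hη : η ^ q ^ a = 1) (hse : η * s = s * η)
    (hscal : ∀ x ∈ Q ⊓ Subgroup.centralizer (Q : Set G),
      ∃ c : K, ρ x = c • (1 : Module.End K V))
    (hcomm : ⁅Q, Q⁆ ≤ Q ⊓ Subgroup.centralizer (Q : Set G))
    (hfpf : ∀ x ∈ Q, ⁅s, x⁆ ∈ Q ⊓ Subgroup.centralizer (Q : Set G) →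
      x ∈ Q ⊓ Subgroup.centralizer (Q : Set G))
    (hkill : ρ η * orbitSum ρ s r = orbitSum ρ s r) :
    (∀ x ∈ Q, ⁅η, x⁆ ∈ Q ⊓ Subgroup.centralizer (Q : Set G)) ∨
      (q = 2 ∧ ∀ x ∈ Q, η * x * η⁻¹ * x ∈ Q ⊓ Subgroup.centralizer (Q : Set G)) := by
  classical
  set Zc := Q ⊓ Subgroup.centralizer (Q : Set G) with hZc
  haveI : Zc.Normal := inferInstance
  have hZQ : Zc ≤ Q := inf_le_left
  set π := QuotientGroup.mk' Zc with hπ
  have hone : ∀ {x : G}, π x = 1 ↔ x ∈ Zc := fun {x} => QuotientGroup.eq_one_iff x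
  have hcom1 : ∀ {g x : G}, ⁅g, x⁆ ∈ Zc ↔ Commute (π g) (π x) := fun {g x} => by
    rw [← hone, map_commutatorElement, commutatorElement_eq_one_iff_mul_comm]
    rfl
  have hex : ∃ b, ∀ x ∈ Q, ⁅η ^ q ^ b, x⁆ ∈ Zc := ⟨a, fun x _ => by
    rw [hη, commutatorElement_one_left]; exact one_mem _⟩
  by_cases h0 : ∀ x ∈ Q, ⁅η, x⁆ ∈ Zc
  · exact Or.inl h0
  right
  set b := Nat.find hex with hb
  have hbspec : ∀ x ∈ Q, ⁅η ^ q ^ b, x⁆ ∈ Zc := Nat.find_spec hex
  have hb1 : 1 ≤ b := by
    by_contra hlt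
    exact h0 fun x hx => by simpa [show b = 0 by omega] using hbspec x hx
  obtain ⟨x₀, hx₀, hfx₀⟩ : ∃ x ∈ Q, ⁅η ^ q ^ (b - 1), x⁆ ∉ Zc := by
    by_contra! h
    exact Nat.find_min hex (show b - 1 < b by omega) h
  set f := η ^ q ^ (b - 1) with hf
  set y := η ^ q ^ b with hy
  -- the scalars commute with everything
  have hZcomm : ∀ z ∈ Zc, ∀ g : G, Commute z g := fun z hz g => by
    obtain ⟨c, hc⟩ := hscal z hz
    refine hinj ?_
    rw [map_mul, map_mul, hc, smul_mul_assoc, one_mul, mul_smul_comm, mul_one]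
  -- `y` centralizes `Q`
  have hyQ : ∀ x ∈ Q, Commute y x := fun x hx => by
    have h1 := hbspec x hx
    have h2 := mem_of_commutator_mem (B := (⊥ : Subgroup G)) (X := Q) (x := x) (f := y) hqp.symm
      (fun z hz => by
        obtain ⟨e, he⟩ := hQ ⟨z, hz⟩
        exact ⟨e, by simpa using congrArg Subtype.val he⟩)
      ⟨a, Subgroup.mem_bot.2 (by rw [hy, ← pow_mul, mul_comm, pow_mul, hη, one_pow])⟩
      (hZQ h1)
      (Subgroup.mem_bot.2 (commutatorElement_eq_one_iff_mul_comm.2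
        ((hZcomm _ h1 y).symm.eq)))
    exact commutatorElement_eq_one_iff_mul_comm.1 (Subgroup.mem_bot.1 h2)
  -- the abelian quotient
  set Vb := Q.map π with hVb
  haveI : Vb.Normal := Subgroup.Normal.map inferInstance _ (QuotientGroup.mk'_surjective Zc)
  haveI : IsMulCommutative Vb := ⟨⟨by
    rintro ⟨_, u, hu, rfl⟩ ⟨_, v, hv, rfl⟩
    exact Subtype.ext (hcom1.1 (hcomm (Subgroup.commutator_mem_commutator hu hv))).eq⟩⟩
  have hVc : ∀ u ∈ Q, ∀ v ∈ Q, Commute (π u) (π v) := fun u hu v hv =>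
    hcom1.1 (hcomm (Subgroup.commutator_mem_commutator hu hv))
  set A := Subgroup.zpowers (π f) with hA
  have hcop : (Nat.card A).Coprime (Nat.card Vb) := by
    obtain ⟨c, -, hc⟩ := (Nat.dvd_prime_pow (Fact.out : q.Prime)).1
      (orderOf_dvd_of_pow_eq_one (show π f ^ q ^ a = 1 by
        rw [← map_pow, hf, ← pow_mul, mul_comm, pow_mul, hη, one_pow, map_one]))
    obtain ⟨n, hn⟩ := IsPGroup.iff_card.1 (hQ.map π)
    rw [hn, hA, Nat.card_zpowers, hc]
    exact ((Nat.coprime_primes (Fact.out : q.Prime) (Fact.out : p.Prime)).2 hqp).pow c n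
  have hAV : A ≤ Subgroup.normalizer (Vb : Set (G ⧸ Zc)) := fun a _ => mem_normalizer_of_normal Vb a
  have hinf := CoprimeAction.inf_commutator_eq_bot hAV hcop
  set P1 := (⁅Vb, A⁆).comap π with hP1
  have hP1Q : P1 ≤ Q := fun x hx => by
    obtain ⟨x', hx', hxx⟩ := Subgroup.commutator_le_left Vb A (Subgroup.mem_comap.1 hx)
    have : x'⁻¹ * x ∈ Zc := QuotientGroup.eq.1 hxx
    simpa using Q.mul_mem hx' (hZQ this)
  have hCf : ∀ {x : G}, Commute (π f) (π x) → π x ∈ Subgroup.centralizer (A : Set (G ⧸ Zc)) := by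
    intro x h
    refine Subgroup.mem_centralizer_iff.2 fun a ha => ?_
    obtain ⟨j, rfl⟩ := Subgroup.mem_zpowers_iff.1 ha
    exact (h.zpow_left j).eq
  have hP1fix : ∀ x ∈ P1, Commute (π f) (π x) → x ∈ Zc := fun x hx h =>
    hone.1 (Subgroup.mem_bot.1 (hinf.le
      ⟨⟨Subgroup.mem_map_of_mem π (hP1Q hx), hCf h⟩, hx⟩))
  have horth : ∀ x ∈ P1, ∀ c ∈ Q, Commute (π f) (π c) → Commute x c := by
    intro x hx c hc hfc
    let T : Subgroup G :=
      { carrier := {u | u ∈ Q ∧ ⁅c, u⁆ = 1}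
        one_mem' := ⟨one_mem _, by simp⟩
        mul_mem' := fun {u v} hu hv => ⟨Q.mul_mem hu.1 hv.1, by
          rw [commutatorElement_mul_right_of_central (by rw [hv.2]; exact Commute.one_right u),
            hu.2, hv.2, one_mul]⟩
        inv_mem' := fun {u} hu => ⟨Q.inv_mem hu.1, by
          rw [commutatorElement_eq_one_iff_mul_comm]
          exact ((show Commute c u from
            commutatorElement_eq_one_iff_mul_comm.1 hu.2).inv_right).eq⟩ }
    have hZT : Zc ≤ T := fun z hz => ⟨hZQ hz, by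
      rw [commutatorElement_eq_one_iff_mul_comm]; exact (hZcomm z hz c).symm.eq⟩
    have hle : ⁅Vb, A⁆ ≤ T.map π := by
      refine Subgroup.commutator_le.2 ?_
      rintro _ ⟨v, hv, rfl⟩ a ha
      obtain ⟨j, rfl⟩ := Subgroup.mem_zpowers_iff.1 ha
      rw [← map_zpow, ← map_commutatorElement]
      refine Subgroup.mem_map_of_mem π ?_
      set g := f ^ j
      have hgc : ⁅g, c⁆ ∈ Zc := hcom1.2 (by rw [map_zpow]; exact hfc.zpow_left j)
      have hconj : g * v⁻¹ * g⁻¹ ∈ Q := Subgroup.Normal.conj_mem inferInstance _ (Q.inv_mem hv) g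
      have hvg : ⁅v, g⁆ = v * (g * v⁻¹ * g⁻¹) := by rw [commutatorElement_def]; group
      refine ⟨by rw [hvg]; exact Q.mul_mem hv hconj, ?_⟩
      have hcu : ∀ {u}, u ∈ Q → ⁅c, u⁆ ∈ Zc := fun hu =>
        hcomm (Subgroup.commutator_mem_commutator hc hu)
      have hz : g * c * g⁻¹ = ⁅g, c⁆ * c := by rw [commutatorElement_def, inv_mul_cancel_right]
      have h2 : ⁅c, g * v⁻¹ * g⁻¹⁆ = ⁅c, v⁻¹⁆ := by
        calc ⁅c, g * v⁻¹ * g⁻¹⁆ = ⁅⁅g, c⁆ * c, g * v⁻¹ * g⁻¹⁆ := by
              rw [show ⁅⁅g, c⁆ * c, g * v⁻¹ * g⁻¹⁆ = ⁅g, c⁆ * ⁅c, g * v⁻¹ * g⁻¹⁆ * ⁅g, c⁆⁻¹ *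
                  ⁅⁅g, c⁆, g * v⁻¹ * g⁻¹⁆ by simp [commutatorElement_def, mul_assoc],
                (hZcomm _ hgc _).eq, mul_inv_cancel_right,
                commutatorElement_eq_one_iff_mul_comm.2 (hZcomm _ hgc (g * v⁻¹ * g⁻¹)).eq, mul_one]
          _ = g * ⁅c, v⁻¹⁆ * g⁻¹ := by rw [← hz]; simp [commutatorElement_def, mul_assoc]
          _ = ⁅c, v⁻¹⁆ := by rw [← (hZcomm _ (hcu (Q.inv_mem hv)) g).eq, mul_inv_cancel_right]
      rw [hvg, commutatorElement_mul_right_of_central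
        (hZcomm _ (hcu hconj) v).symm, h2, ← commutatorElement_mul_right_of_central
        (hZcomm _ (hcu (Q.inv_mem hv)) v).symm, mul_inv_cancel, commutatorElement_one_right]
    obtain ⟨t, ht, htx⟩ := hle hx
    have hxT : x ∈ T := by
      have := T.mul_mem ht (hZT (QuotientGroup.eq.1 htx))
      rwa [mul_inv_cancel_left] at this
    exact (commutatorElement_eq_one_iff_mul_comm.1 hxT.2 : c * x = x * c).symm
  have hrad : ∀ x ∈ P1, (∀ u ∈ P1, Commute x u) → x ∈ Zc := by
    intro x hx h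
    refine ⟨hP1Q hx, Subgroup.mem_centralizer_iff.2 fun v hv => ?_⟩
    obtain ⟨c', hc', u', hu', hcu⟩ := CoprimeAction.commutator_sup_centralizer_aux hAV hcop
      (Or.inr (CoprimeAction.isSolvable_of_isMulCommutative Vb)) (Subgroup.mem_map_of_mem π hv)
    obtain ⟨u, huQ, rfl⟩ := hu'.1
    have hfu : Commute (π f) (π u) :=
      Subgroup.mem_centralizer_iff.1 hu'.2 _ (Subgroup.mem_zpowers _)
    have hw : v * u⁻¹ ∈ P1 := by
      show π (v * u⁻¹) ∈ ⁅Vb, A⁆
      rw [map_mul, map_inv, hcu, mul_inv_cancel_right]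
      exact hc'
    rw [show v = v * u⁻¹ * u by rw [inv_mul_cancel_right]]
    exact (((h _ hw).mul_right (horth x hx u huQ hfu))).eq.symm
  -- the eigenspace
  obtain ⟨μ, hμ⟩ := Module.End.exists_eigenvalue (ρ y)
  set U := Module.End.eigenspace (ρ y) μ
  haveI : Nontrivial U := Submodule.nontrivial_iff_ne_bot.2 hμ
  let H := commStab ρ (ρ y)
  have hUinv : ∀ g : H, ∀ v ∈ U, (ρ.comp H.subtype) g v ∈ U := fun g v hv => by
    rw [Module.End.mem_eigenspace_iff] at hv ⊢
    show ρ y (ρ g v) = μ • ρ g v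
    rw [← Module.End.mul_apply, ← g.2.eq, Module.End.mul_apply, hv, map_smul]
  let ρU := subRep (ρ.comp H.subtype) U hUinv
  have hP1H : P1 ≤ H := fun x hx => ((hyQ x (hP1Q hx)).map ρ).symm
  have hηy : Commute η y := (Commute.refl η).pow_right _
  have hsy : Commute s y := (show Commute η s from hse).symm.pow_right _
  let sH : H := ⟨s, hsy.map ρ⟩
  let ηH : H := ⟨η, hηy.map ρ⟩
  -- elements agreeing on `U` agree modulo the scalars
  have hUone : ∀ z ∈ Zc, ∀ (hzH : z ∈ H), ρU ⟨z, hzH⟩ = 1 → z = 1 := by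
    intro z hz hzH h
    obtain ⟨c, hc⟩ := hscal z hz
    obtain ⟨v, hv⟩ := exists_ne (0 : U)
    have h1 : ρ z (v : V) = (v : V) := congrArg Subtype.val (LinearMap.congr_fun h v)
    rw [hc, LinearMap.smul_apply, Module.End.one_apply] at h1
    have hc1 : c = 1 := by
      by_contra hne
      refine hv (Subtype.ext ?_)
      have h2 : (c - 1) • (v : V) = 0 := by rw [sub_smul, h1, one_smul, sub_self]
      exact (smul_eq_zero.1 h2).resolve_left (sub_ne_zero.2 hne)
    exact hinj (by rw [hc, hc1, one_smul, map_one])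
  have hQH : Q ≤ H := fun x hx => ((hyQ x hx).map ρ).symm
  have hUcomm : ∀ x (hx : x ∈ Q) u (hu : u ∈ Q),
      Commute (ρU ⟨x, hQH hx⟩) (ρU ⟨u, hQH hu⟩) → Commute x u := by
    intro x hx u hu h
    refine commutatorElement_eq_one_iff_mul_comm.1
      (hUone _ (hcomm (Subgroup.commutator_mem_commutator hx hu))
        (hQH (hcomm (Subgroup.commutator_mem_commutator hx hu)).1) ?_)
    have : (⟨⁅x, u⁆, hQH (hcomm (Subgroup.commutator_mem_commutator hx hu)).1⟩ : H) =
        ⟨x, hQH hx⟩ * ⟨u, hQH hu⟩ * (⟨x, hQH hx⟩ : H)⁻¹ * (⟨u, hQH hu⟩ : H)⁻¹ :=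
      Subtype.ext (by simp [commutatorElement_def])
    rw [this, map_mul, map_mul, map_mul, h.eq, mul_assoc (ρU _), rho_mul_inv, mul_one,
      rho_mul_inv]
  let σ' : P1 →* Module.End K U := ρU.comp (Subgroup.inclusion hP1H)
  have hnormP1 : ∀ g : G, Commute g f → g ∈ Subgroup.normalizer (P1 : Set G) := by
    intro g hg
    refine CoprimeAction.mem_normalizer_of_conj_mem fun x hx => ?_
    show π (g * x * g⁻¹) ∈ ⁅Vb, A⁆
    rw [map_mul, map_mul, map_inv]
    have hnA : π g ∈ Subgroup.normalizer (A : Set (G ⧸ Zc)) :=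
      Subgroup.centralizer_le_normalizer _ (Subgroup.mem_centralizer_iff.2 fun a ha => by
        obtain ⟨j, rfl⟩ := Subgroup.mem_zpowers_iff.1 ha
        exact (((hg.map π).symm).zpow_left j).eq)
    have hnc : π g ∈ Subgroup.normalizer ((⁅Vb, A⁆ : Subgroup (G ⧸ Zc)) : Set (G ⧸ Zc)) := by
      refine Subgroup.mem_normalizer_iff_map_conj_eq.2 ?_
      show ⁅Vb, A⁆.map (MulAut.conj (π g) : (G ⧸ Zc) →* (G ⧸ Zc)) = _
      rw [Subgroup.map_commutator, Subgroup.mem_normalizer_iff_map_conj_eq.1 hnA,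
        Subgroup.mem_normalizer_iff_map_conj_eq.1 (mem_normalizer_of_normal Vb (π g))]
    exact CoprimeAction.conj_mem hnc hx
  have hsf : Commute s f := (show Commute η s from hse).symm.pow_right _
  have hηf : Commute η f := (Commute.refl η).pow_right _
  let φs : MulAut P1 := P1.normalizerMonoidHom ⟨s, hnormP1 s hsf⟩
  let φe : MulAut P1 := P1.normalizerMonoidHom ⟨η, hnormP1 η hηf⟩
  have hck : ∀ g : P1, g ∈ commKer σ' ↔ (g : G) ∈ Zc := by
    intro g
    rw [mem_commKer]
    constructor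
    · exact fun h => hrad g g.2 fun u hu => hUcomm g (hP1Q g.2) u (hP1Q hu) (h ⟨u, hu⟩)
    · intro h u
      have : Commute (Subgroup.inclusion hP1H g) (Subgroup.inclusion hP1H u) :=
        Subtype.ext (hZcomm _ h (u : G)).eq
      exact this.map ρU
  -- the rescaled `η`
  have hqb : 0 < q ^ b := pow_pos (Fact.out : q.Prime).pos b
  obtain ⟨c, hc, hc1⟩ : ∃ c : K, c ^ q ^ b = μ ∧ (μ = 1 → c = 1) := by
    by_cases h1 : μ = 1
    · exact ⟨1, by rw [one_pow, h1], fun _ => rfl⟩
    · obtain ⟨c, hc⟩ := IsAlgClosed.exists_pow_nat_eq μ hqb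
      exact ⟨c, hc, fun h => absurd h h1⟩
  have hypow : ((ρU ηH) ^ q ^ b : Module.End K U) = μ • 1 := by
    rw [← map_pow]
    refine LinearMap.ext fun v => Subtype.ext ?_
    rw [subRep_apply, LinearMap.smul_apply, Module.End.one_apply, Submodule.coe_smul]
    exact Module.End.mem_eigenspace_iff.1 v.2
  have hc0 : c ≠ 0 := fun h => by
    rw [h, zero_pow hqb.ne'] at hc
    have h2 : IsUnit (ρU (ηH ^ q ^ b)) := (Units.isUnit (ρU.toHomUnits (ηH ^ q ^ b)))
    rw [map_pow, hypow, ← hc, zero_smul] at h2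
    exact not_isUnit_zero h2
  let cu : (Module.End K U)ˣ :=
    Units.map (algebraMap K (Module.End K U)).toMonoidHom (Units.mk0 c⁻¹ (inv_ne_zero hc0))
  let θU : (Module.End K U)ˣ := ρU.toHomUnits sH
  let ηU : (Module.End K U)ˣ := cu * ρU.toHomUnits ηH
  have hηval : (ηU : Module.End K U) = c⁻¹ • ρU ηH := by
    show algebraMap K _ c⁻¹ * ρU ηH = _
    rw [Algebra.smul_def]
  have hmove : ∀ (g : H) (φ : MulAut P1), (∀ u : P1, ((φ u : P1) : G) = g * u * (g : G)⁻¹) →
      ∀ u, ρU g * σ' u = σ' (φ u) * ρU g := by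
    intro g φ hφ u
    show ρU g * ρU _ = ρU _ * ρU g
    rw [← map_mul, ← map_mul]
    refine congrArg ρU (Subtype.ext ?_)
    show (g : G) * (u : G) = ((φ u : P1) : G) * g
    rw [hφ, inv_mul_cancel_right]
  have hφ : ∀ (i : ℕ) (u : P1),
      ((((φs * φe) ^ i) u : P1) : G) = (s * η) ^ i * u * ((s * η) ^ i)⁻¹ := by
    intro i u
    induction i with
    | zero => simp
    | succ i ih =>
      rw [pow_succ', MulAut.mul_apply]
      show s * (η * ((((φs * φe) ^ i) u : P1) : G) * η⁻¹) * s⁻¹ = _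
      rw [ih, pow_succ', mul_inv_rev, mul_inv_rev]
      simp only [mul_assoc]
  obtain ⟨hq2, hall⟩ := eigen_count (Q := P1) σ'
    (fun u v => by
      obtain ⟨d, hd⟩ := hscal _ (hcomm (Subgroup.commutator_mem_commutator (hP1Q u.2) (hP1Q v.2)))
      refine ⟨d, LinearMap.ext fun w => Subtype.ext ?_⟩
      show ρ ((u * v * u⁻¹ * v⁻¹ : P1) : G) (w : V) = d • (w : V)
      rw [show ((u * v * u⁻¹ * v⁻¹ : P1) : G) = ⁅(u : G), (v : G)⁆ from rfl, hd]
      rfl)
    (fun u hu => by
      obtain ⟨d, hd⟩ := hscal _ ((hck u).1 hu)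
      refine ⟨d, LinearMap.ext fun w => Subtype.ext ?_⟩
      show ρ (u : G) (w : V) = d • (w : V)
      rw [hd]; rfl)
    (by
      obtain ⟨c', hc', u', hu', hcu⟩ := CoprimeAction.commutator_sup_centralizer_aux hAV hcop
        (Or.inr (CoprimeAction.isSolvable_of_isMulCommutative Vb)) (Subgroup.mem_map_of_mem π hx₀)
      obtain ⟨w, hw⟩ := QuotientGroup.mk'_surjective Zc c'
      have hwP : w ∈ P1 := by show π w ∈ ⁅Vb, A⁆; rw [hπ, hw]; exact hc'
      have hwZ : w ∉ Zc := fun h => hfx₀ (hcom1.2 (by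
        rw [hcu, ← hw, show QuotientGroup.mk' Zc w = 1 from hone.2 h, one_mul]
        exact Subgroup.mem_centralizer_iff.1 hu'.2 _ (Subgroup.mem_zpowers _)))
      by_contra! hh
      exact hwZ ((hck ⟨w, hwP⟩).1 fun u => hh _ _))
    hrq hrK hb1 φs φe θU ηU (hmove sH φs fun u => rfl)
    (fun u => by
      rw [hηval, smul_mul_assoc, hmove ηH φe (fun u => rfl) u, mul_smul_comm])
    (Units.ext (by
      show (θU : Module.End K U) * (ηU : Module.End K U) = (ηU : Module.End K U) * θU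
      rw [hηval]
      show ρU sH * (c⁻¹ • ρU ηH) = (c⁻¹ • ρU ηH) * ρU sH
      rw [mul_smul_comm, smul_mul_assoc, ← map_mul, ← map_mul,
        show sH * ηH = ηH * sH from Subtype.ext hse.symm]))
    (by
      show ρU.toHomUnits sH ^ r = 1
      rw [← map_pow, show sH ^ r = 1 from Subtype.ext hs, map_one])
    (Units.ext (by
      rw [Units.val_pow_eq_pow_val, hηval, smul_pow, hypow, smul_smul, inv_pow, hc,
        inv_mul_cancel₀ (fun h => hc0 (by rw [h] at hc; exact (pow_eq_zero_iff hqb.ne').1 hc)),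
        one_smul, Units.val_one]))
    (by
      intro u i hi hir hu
      rw [hck] at hu ⊢
      have h1 : Commute (π ((s * η) ^ i)) (π (u : G)) := by
        have h2 : π ((u : G)⁻¹ * ((((φs * φe) ^ i) u : P1) : G)) = 1 := hone.2 hu
        rw [hφ, map_mul, map_inv, inv_mul_eq_one, map_mul, map_mul, map_inv] at h2
        exact (eq_mul_inv_iff_mul_eq.1 h2).symm
      have hyu : Commute (π y) (π (u : G)) := (hyQ _ (hP1Q u.2)).map π
      by_cases hri : r ∣ i
      · refine hP1fix u u.2 ?_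
        obtain ⟨j, hj⟩ := hri
        rw [(show Commute s η from hse.symm).mul_pow, hj, pow_mul s, hs, one_pow, one_mul,
          ← hj] at h1
        obtain ⟨c', hc'b, hg⟩ := (Nat.dvd_prime_pow (Fact.out : q.Prime)).1
          (Nat.gcd_dvd_right i (q ^ b))
        have hc'lt : c' < b := by
          by_contra hge
          have : q ^ b ∣ i := (pow_dvd_pow q (show b ≤ c' by omega)).trans
            (hg ▸ Nat.gcd_dvd_left i (q ^ b))
          have hdiv : r * q ^ b ∣ i := Nat.Coprime.mul_dvd_of_dvd_of_dvd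
            (((Nat.coprime_primes (Fact.out : r.Prime) (Fact.out : q.Prime)).2 hrq).pow_right b)
            ⟨j, hj⟩ this
          exact absurd (Nat.le_of_dvd hi hdiv) (by omega)
        have h3 : Commute (π η ^ q ^ c') (π (u : G)) := by
          rw [← hg, ← zpow_natCast, Nat.gcd_eq_gcd_ab, zpow_add, zpow_mul, zpow_mul, zpow_natCast,
            zpow_natCast, ← map_pow, ← map_pow]
          exact (h1.zpow_left _).mul_left (hyu.zpow_left _)
        have h4 := h3.pow_left (q ^ (b - 1 - c'))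
        rw [← pow_mul, ← pow_add, show c' + (b - 1 - c') = b - 1 by omega, ← map_pow] at h4
        exact h4
      · refine hfpf u (hP1Q u.2) (hcom1.2 ?_)
        have h2 := h1.pow_left (q ^ b)
        rw [← map_pow, ← pow_mul, (show Commute s η from hse.symm).mul_pow, map_mul, mul_comm i,
          pow_mul η, ← hy, map_pow π y] at h2
        have h3 : Commute (π (s ^ (q ^ b * i))) (π (u : G)) := by
          have := h2.mul_left ((hyu.pow_left i).inv_left)
          rwa [mul_inv_cancel_right] at this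
        have hco : (q ^ b * i).Coprime r := by
          refine Nat.Coprime.mul_left (((Nat.coprime_primes (Fact.out : q.Prime)
            (Fact.out : r.Prime)).2 hrq.symm).pow_left b) ?_
          exact ((Fact.out : r.Prime).coprime_iff_not_dvd.2 hri).symm
        obtain ⟨t, -, ht⟩ := Nat.exists_mul_mod_eq_one_of_coprime hco (Fact.out : r.Prime).one_lt
        have h4 := h3.pow_left t
        rwa [← map_pow, ← pow_mul, pow_eq_pow_mod _ hs, ht, pow_one] at h4)
    (by
      have hθs : (θU : Module.End K U) = ρU sH := rfl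
      simp only [hθs, hηval]
      by_cases hz : ∑ i ∈ Finset.range r, ρU sH ^ i = 0
      · rw [hz, mul_zero]
      obtain ⟨w, hw⟩ : ∃ w, (∑ i ∈ Finset.range r, ρU sH ^ i) w ≠ 0 := by
        by_contra! h; exact hz (LinearMap.ext h)
      have hcoe : ∀ w : U, (((∑ i ∈ Finset.range r, ρU sH ^ i) w : U) : V) =
          orbitSum ρ s r (w : V) := fun w => by
        simp only [orbitSum, LinearMap.sum_apply, Submodule.coe_sum, ← map_pow]
        rfl
      have hfix : ρU ηH * ∑ i ∈ Finset.range r, ρU sH ^ i = ∑ i ∈ Finset.range r, ρU sH ^ i := by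
        refine LinearMap.ext fun w => Subtype.ext ?_
        rw [Module.End.mul_apply, subRep_apply, hcoe]
        exact LinearMap.congr_fun hkill (w : V)
      have hcone : c = 1 := hc1 (by
        set v := (∑ i ∈ Finset.range r, ρU sH ^ i) w
        have h1 : ρU ηH v = v := LinearMap.congr_fun hfix w
        have h2 : ∀ n : ℕ, (ρU ηH ^ n) v = v := fun n => by
          induction n with
          | zero => rfl
          | succ n ih => rw [pow_succ', Module.End.mul_apply, ih, h1]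
        have h3 := h2 (q ^ b)
        rw [hypow, LinearMap.smul_apply, Module.End.one_apply] at h3
        by_contra hne
        refine hw ((smul_eq_zero.1 (show (μ - 1) • v = 0 by
          rw [sub_smul, h3, one_smul, sub_self])).resolve_left (sub_ne_zero.2 hne)))
      rw [hcone, inv_one, one_smul]
      exact hfix)
  obtain ⟨hq2', hb1'⟩ : q = 2 ∧ b = 1 := by
    have h1 : q ∣ 2 := hq2 ▸ dvd_pow_self q (by omega)
    have h2 : q = 2 := (Nat.prime_dvd_prime_iff_eq (Fact.out : q.Prime) Nat.prime_two).1 h1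
    refine ⟨h2, ?_⟩
    rw [h2] at hq2
    exact Nat.pow_right_injective le_rfl (hq2.trans (pow_one 2).symm)
  have hfη : f = η := by rw [hf, hb1', Nat.sub_self, pow_zero, pow_one]
  refine ⟨hq2', fun x hx => ?_⟩
  have hηQ : η * x * η⁻¹ ∈ Q := Subgroup.Normal.conj_mem inferInstance x hx η
  set v := η * x * η⁻¹ * x with hv
  have hvQ : v ∈ Q := Q.mul_mem hηQ hx
  have hyx : Commute (π η * π η) (π x) := by
    rw [← map_mul]
    convert (hyQ x hx).map π using 2
    rw [hy, hb1', pow_one, hq2', pow_two]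
  have hvfix : Commute (π f) (π v) := by
    rw [hfη]
    show π η * π v = π v * π η
    rw [hv, map_mul π (η * x * η⁻¹), (hVc _ hηQ x hx).eq]
    simp only [map_mul, map_inv]
    calc π η * (π x * (π η * π x * (π η)⁻¹))
        = π η * π x * (π η)⁻¹ * (π η * π η * π x * (π η)⁻¹) := by group
      _ = π η * π x * (π η)⁻¹ * (π x * (π η * π η) * (π η)⁻¹) := by rw [hyx.eq]
      _ = π η * π x * (π η)⁻¹ * π x * π η := by group
      _ = π (η * x * η⁻¹) * π x * π η := by simp only [map_mul, map_inv]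
      _ = π x * π (η * x * η⁻¹) * π η := by rw [(hVc _ hηQ x hx).eq]
      _ = _ := by simp only [map_mul, map_inv]
  have hsQ : s * v * s⁻¹ ∈ Q := Subgroup.Normal.conj_mem inferInstance v hvQ s
  have hc1 : Commute (ρU ⟨v, hQH hvQ⟩) (θU : Module.End K U) := hall _ fun u => by
    have : Commute (⟨v, hQH hvQ⟩ : H) (Subgroup.inclusion hP1H u) :=
      Subtype.ext (horth u u.2 v hvQ hvfix).symm.eq
    exact this.map ρU
  have hsv : ⁅s, v⁆ ∈ Q := by
    rw [commutatorElement_def]; exact Q.mul_mem hsQ (Q.inv_mem hvQ)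
  refine hfpf v hvQ ⟨hsv, Subgroup.mem_centralizer_iff.2 fun u hu => ?_⟩
  refine (hUcomm _ hsv u hu ?_).eq.symm
  rw [show (⟨⁅s, v⁆, hQH hsv⟩ : H) = sH * ⟨v, hQH hvQ⟩ * sH⁻¹ * (⟨v, hQH hvQ⟩ : H)⁻¹ from
      Subtype.ext (by simp [sH, commutatorElement_def]),
    map_mul, map_mul, map_mul]
  rw [show ρU sH * ρU ⟨v, hQH hvQ⟩ = ρU ⟨v, hQH hvQ⟩ * ρU sH from hc1.symm.eq,
    mul_assoc (ρU ⟨v, hQH hvQ⟩), rho_mul_inv, mul_one, rho_mul_inv]
  exact Commute.one_left _

end CfsgLib.FittingHeightPrime
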