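/-
The first moved level: an element above fixing all fixed elements below inverts each piece.
-/
import Mathlib
import Cfsg.Agent.Lib.FittingHeightPrime.Levels
import Cfsg.Agent.Lib.FittingHeightPrime.KernelCore

set_option autoImplicit false
set_option linter.style.haveILetI false
set_option linter.unusedSectionVars false

open Module
open scoped commutatorElement IsMulCommutative

namespace CfsgLib.FittingHeightPrime

open HallHigmanExc

variable {Γ : Type*} [Group Γ] [Finite Γ] {L : Subgroup Γ} {σ : Γ} {r p0 p p' : ℕ}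
  {K0 B0 K B K' B' : Subgroup Γ}

local notation "R" => ⁅K, Subgroup.zpowers σ⁆
local notation "M'" => secFrattini p' K' B'

/-- When `R` covers the level the moved section is the whole level below. -/
theorem span_eq_of_full (hlev : IsLevel p K B) (hlev' : IsLevel p' K' B') (hl : Link p K B p' K' B')
    (hfull : R ⊔ B = K) : ⁅K', R⁆ ⊔ M' = K' := by
  haveI := hlev.normalK
  haveI := hlev.normalB
  haveI := hlev'.normalK
  haveI := hlev'.normalB
  have hU : ⁅K', R⁆ ⊔ M' ≤ K' := span_le (secFrattini_le hlev'.lt'.le)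
  have hBtriv : ∀ b ∈ B, ∀ y ∈ K', ⁅b, y⁆ ∈ M' := fun b hb =>
    (hl.kernel b (hlev.lt'.le hb)).1 hb
  have hBn : ∀ b ∈ B, b ∈ Subgroup.normalizer ((⁅K', R⁆ ⊔ M' : Subgroup Γ) : Set Γ) := by
    intro b hb
    refine CoprimeAction.mem_normalizer_of_conj_mem fun u hu => ?_
    rw [show b * u * b⁻¹ = ⁅b, u⁆ * u by rw [commutatorElement_def, inv_mul_cancel_right]]
    exact mul_mem (Subgroup.mem_sup_right (hBtriv b hb u (hU hu))) hu
  let T : Subgroup Γ :=
    { carrier := {g | g ∈ Subgroup.normalizer ((⁅K', R⁆ ⊔ M' : Subgroup Γ) : Set Γ) ∧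
        ∀ y ∈ K', ⁅y, g⁆ ∈ ⁅K', R⁆ ⊔ M'}
      one_mem' := ⟨one_mem _, fun y _ => by simp⟩
      mul_mem' := fun {a b} ha hb => ⟨mul_mem ha.1 hb.1, fun y hy => by
        rw [show ⁅y, a * b⁆ = ⁅y, a⁆ * (a * ⁅y, b⁆ * a⁻¹) by simp [commutatorElement_def, mul_assoc]]
        exact mul_mem (ha.2 y hy) (CoprimeAction.conj_mem ha.1 (hb.2 y hy))⟩
      inv_mem' := fun {a} ha => ⟨inv_mem ha.1, fun y hy => by
        rw [show ⁅y, a⁻¹⁆ = a⁻¹ * ⁅y, a⁆⁻¹ * a⁻¹⁻¹ by simp [commutatorElement_def, mul_assoc]]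
        exact CoprimeAction.conj_mem (inv_mem ha.1) (inv_mem (ha.2 y hy))⟩ }
  have hKT : K ≤ T := by
    rw [← hfull]
    refine sup_le (fun g hg => ⟨le_movedSpan_normalizer hg, fun y hy =>
      Subgroup.mem_sup_left (Subgroup.commutator_mem_commutator hy hg)⟩)
      (fun b hb => ⟨hBn b hb, fun y hy => Subgroup.mem_sup_right ?_⟩)
    rw [← commutatorElement_inv]
    exact inv_mem (hBtriv b hb y hy)
  have hle : ⁅K', K⁆ ⊔ M' ≤ ⁅K', R⁆ ⊔ M' :=
    sup_le (Subgroup.commutator_le.2 fun y hy g hg => (hKT hg).2 y hy) le_sup_right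
  refine le_antisymm hU ?_
  rcases hlev'.irred (⁅K', K⁆ ⊔ M') inferInstance le_sup_right
    (span_le (secFrattini_le hlev'.lt'.le)) with h | h
  · exfalso
    refine hlev.lt'.not_ge fun x hx => (hl.kernel x hx).2 fun y hy => ?_
    rw [← commutatorElement_inv]
    exact inv_mem (h.le (Subgroup.mem_sup_left (Subgroup.commutator_mem_commutator hy hx)))
  · exact h.ge.trans hle

/-- No nonzero vector below a covering level is fixed by it. -/
theorem eq_zero_of_full [Fact p'.Prime] (hlev : IsLevel p K B) (hlev' : IsLevel p' K' B')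
    (hl : Link p K B p' K' B') (hfull : R ⊔ B = K) (W : SecRep p' K' M')
    (v : Fin W.d → AlgebraicClosure (ZMod p')) (hfix : ∀ x ∈ R, W.ρ x v = v) : v = 0 := by
  haveI := hlev.normalK
  haveI := hlev'.normalK
  haveI := hlev'.normalB
  haveI := finite_unitImage W.ρ R
  exact W.eq_zero_of_fixed (span_eq_of_full hlev hlev' hl hfull).ge
    (secFrattini_le hlev'.lt'.le)
    (hl.card_unitImage hlev W (Subgroup.commutator_le_left K _))
    (W.span ▸ Submodule.mem_top) hfix

theorem nontrivial_secRep [Fact p'.Prime] (hlev' : IsLevel p' K' B')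
    (W : SecRep p' K' M') : Nontrivial (Fin W.d → AlgebraicClosure (ZMod p')) := by
  obtain ⟨x, hx, hxM⟩ := SetLike.exists_of_lt hlev'.lt
  exact ⟨W.vec x, 0, fun h => hxM ((W.eq_zero x hx).1 h)⟩

/-- For an odd covering level there is a fixed element outside the Frattini subgroup below. -/
theorem exists_fixed_of_full (hc : Ctx L σ r) (hlev : IsLevel p K B) (hlev' : IsLevel p' K' B')
    (hl : Link p K B p' K' B') (hK : K ≤ L) (hK' : K' ≤ L) (hfull : R ⊔ B = K) (hp : p ≠ 2) :
    ∃ w ∈ ⁅K', R⁆ ⊔ M', w * σ = σ * w ∧ w ∉ M' := by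
  haveI := Fact.mk hlev'.prime
  haveI := hlev'.normalK
  haveI := hlev'.normalB
  obtain ⟨W⟩ := hlev'.exists_secRep
  haveI := nontrivial_secRep hlev' W
  by_contra! hall
  refine (hl.repData hc hlev hlev' hK hK' W).exists_eigen hp
    (fun v hv => eq_zero_of_full hlev hlev' hl hfull W v hv) (one_ne_zero (α := AlgebraicClosure (ZMod p'))) ?_
  have h0 : orbitSum W.ρ σ r = 0 := by
    refine LinearMap.ext fun v => ?_
    have hv : v ∈ Submodule.span (AlgebraicClosure (ZMod p'))
        (W.vec '' (K' : Set Γ)) := W.span ▸ Submodule.mem_top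
    induction hv using Submodule.span_induction with
    | mem v hv =>
      obtain ⟨w, hw, rfl⟩ := hv
      obtain ⟨c, hcK, hcσ, hcv⟩ := W.exists_fixed_orbit hc le_rfl hK' (secFrattini_le hlev'.lt'.le)
        (mem_normalizer_of_normal K' σ) hw
      rw [LinearMap.zero_apply, ← hcv, W.eq_zero c hcK]
      exact hall c (by rw [span_eq_of_full hlev hlev' hl hfull]; exact hcK) hcσ
    | zero => simp
    | add a b _ _ ha hb => rw [map_add, ha, hb]; simp
    | smul k a _ ha => rw [map_smul, ha]; simp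
  simp only [eigProj, inv_one, one_pow, one_smul]
  rw [show ∑ i ∈ Finset.range r, W.ρ σ ^ i = orbitSum W.ρ σ r from rfl, h0, smul_zero]

/-- A fixed central element of an odd covering level moves a fixed element below. -/
theorem moves_of_mem_secFrattini (hc : Ctx L σ r) (hlev : IsLevel p K B)
    (hlev' : IsLevel p' K' B') (hl : Link p K B p' K' B') (hK : K ≤ L) (hK' : K' ≤ L)
    (hfull : R ⊔ B = K) (hp : p ≠ 2) {z : Γ} (hz : z ∈ secFrattini p K B) (hzσ : z * σ = σ * z)
    (hzB : z ∉ B) : Moves σ (⁅K', R⁆ ⊔ M') M' z := by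
  haveI := Fact.mk hlev'.prime
  haveI := hlev.normalK
  haveI := hlev.normalB
  haveI := hlev'.normalK
  haveI := hlev'.normalB
  obtain ⟨W⟩ := hlev'.exists_secRep
  by_contra hnm
  have hzK : z ∈ K := secFrattini_le hlev.lt'.le hz
  set f := W.ρ z - 1 with hf
  have hσf : σ ∈ commStab W.ρ f :=
    (show Commute σ z from hzσ.symm).map W.ρ |>.sub_right (Commute.one_right _)
  have hRf : R ≤ commStab W.ρ f := fun x hx => by
    refine Commute.sub_right ?_ (Commute.one_right _)
    have hxK : x ∈ K := Subgroup.commutator_le_left K _ hx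
    have h1 : W.ρ ⁅z, x⁆ = 1 :=
      (hl.rho_eq_one_iff W (hlev.lt'.le (hlev.central z hz x hxK))).2 (hlev.central z hz x hxK)
    show W.ρ x * W.ρ z = W.ρ z * W.ρ x
    rw [← map_mul, ← map_mul, show z * x = ⁅z, x⁆ * (x * z) by rw [commutatorElement_def]; group,
      map_mul _ ⁅z, x⁆, h1, one_mul]
  have hzero : ∀ v, orbitSum W.ρ σ r (f v) = 0 := fun v => by
    rw [← Module.End.mul_apply, hf,
      ← ((orbitSum_commute W.ρ r hzσ).sub_left (Commute.one_left _)).eq, Module.End.mul_apply,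
      LinearMap.sub_apply, Module.End.one_apply, sub_eq_zero]
    exact W.fixes_orbitSum hc (span_le (secFrattini_le hlev'.lt'.le)) hK' le_sup_right
      (mem_normalizer_span (mem_normalizer_commutator_zpowers rfl)) hnm
      (by rw [span_eq_of_full hlev hlev' hl hfull, W.span]; trivial)
  by_cases hne : f = 0
  · exact hzB ((hl.rho_eq_one_iff W hzK).1 (sub_eq_zero.1 hne))
  haveI : Nontrivial (LinearMap.range f) := Submodule.nontrivial_iff_ne_bot.2
    fun h => hne (LinearMap.range_eq_bot.1 h)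
  refine ((hl.repData hc hlev hlev' hK hK' W).restrictTo hRf hσf).exists_eigen hp
    (fun v hv => Subtype.ext (eq_zero_of_full hlev hlev' hl hfull W v fun x hx =>
      congrArg Subtype.val (hv ⟨x, hRf hx⟩ (Subgroup.mem_subgroupOf.2 hx))))
    (one_ne_zero (α := AlgebraicClosure (ZMod p'))) ?_
  refine LinearMap.ext fun v => Subtype.ext ?_
  obtain ⟨w, hw⟩ := v.2
  rw [restrictTo_eigProj, LinearMap.zero_apply, Submodule.coe_zero, ← hw]
  simp only [eigProj, inv_one, one_pow, one_smul, LinearMap.smul_apply]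
  exact smul_eq_zero_of_right _ (hzero w)

theorem mem_normalizer_radical {G : Type*} [Group G] {F : Type*} [Field F] {V : Type*}
    [AddCommGroup V] [Module F V] {ρ : G →* Module.End F V} {P : Subgroup G} {g : G}
    (hg : ∀ n : G, n ∈ P ↔ g * n * g⁻¹ ∈ P) :
    g ∈ Subgroup.normalizer (radical ρ P : Set G) := by
  refine Subgroup.mem_normalizer_iff.2 fun x => ?_
  rw [mem_radical, mem_radical, ← hg x]
  refine and_congr_right fun _ => ⟨fun h y hy => ?_, fun h y hy => ?_⟩
  · have hy' : g⁻¹ * y * g ∈ P := (hg _).2 (by rwa [show g * (g⁻¹ * y * g) * g⁻¹ = y by group])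
    have h1 := h _ hy'
    have h2 := congrArg (fun z => ρ g * z * ρ g⁻¹) h1.eq
    simp only [← map_mul] at h2
    show ρ (g * x * g⁻¹) * ρ y = ρ y * ρ (g * x * g⁻¹)
    rw [← map_mul, ← map_mul]
    convert h2 using 2 <;> group
  · have h1 := h _ ((hg y).1 hy)
    have h2 := congrArg (fun z => ρ g⁻¹ * z * ρ g) h1.eq
    simp only [← map_mul] at h2
    show ρ x * ρ y = ρ y * ρ x
    rw [← map_mul, ← map_mul]
    convert h2 using 2 <;> group

/-- The kernel alternative when the radical acts by scalars. -/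
theorem kernel_radical {G : Type*} [Group G] [Finite G] {F : Type*} [Field F] [IsAlgClosed F]
    {V : Type*} [AddCommGroup V] [Module F V] [FiniteDimensional F V] [Nontrivial V]
    {ρ : G →* Module.End F V} {s e : G} {r p : ℕ} {R₁ Z₁ : Subgroup G}
    (D : RepData ρ s r p R₁ Z₁) {q : ℕ} [Fact q.Prime] (hqp : q ≠ p) (hrq : r ≠ q) {a : ℕ}
    (hea : e ^ q ^ a = 1) (hes : e * s = s * e) (heR : e ∈ Subgroup.normalizer (R₁ : Set G))
    (hscal : ∀ x ∈ radical ρ R₁, ∃ k : F, ρ x = k • (1 : Module.End F V))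
    (hkill : ρ e * orbitSum ρ s r = orbitSum ρ s r) :
    (∀ x ∈ R₁, ⁅e, x⁆ ∈ radical ρ R₁) ∨ (q = 2 ∧ ∀ x ∈ R₁, e * x * e⁻¹ * x ∈ radical ρ R₁) := by
  haveI := Fact.mk D.prime
  haveI := Fact.mk D.hp
  set H := Subgroup.normalizer (R₁ : Set G) with hH
  let u : H →* (Module.End F V)ˣ := ρ.toHomUnits.comp H.subtype
  let ρ3 : u.range →* Module.End F V := (Units.coeHom _).comp u.range.subtype
  haveI : Finite u.range := Finite.of_surjective u.rangeRestrict u.rangeRestrict_surjective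
  haveI : (R₁.subgroupOf H).Normal := Subgroup.normal_in_normalizer
  let Q : Subgroup u.range := (R₁.subgroupOf H).map u.rangeRestrict
  haveI : Q.Normal := Subgroup.Normal.map inferInstance _ u.rangeRestrict_surjective
  have hRH : R₁ ≤ H := Subgroup.le_normalizer
  have hval : ∀ g : H, ρ3 (u.rangeRestrict g) = ρ g := fun g => rfl
  have hctr : ∀ x : H, (x : G) ∈ R₁ →
      (u.rangeRestrict x ∈ Q ⊓ Subgroup.centralizer (Q : Set u.range) ↔
        (x : G) ∈ radical ρ R₁) := by
    intro x hx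
    rw [mem_radical, Subgroup.mem_inf, Subgroup.mem_centralizer_iff]
    constructor
    · intro h
      refine ⟨hx, fun y hy => ?_⟩
      have h1 := congrArg ρ3 (h.2 _ (Subgroup.mem_map_of_mem u.rangeRestrict
        (show (⟨y, hRH hy⟩ : H) ∈ R₁.subgroupOf H from hy)))
      rw [map_mul, map_mul, hval, hval] at h1
      exact h1.symm
    · rintro ⟨-, h⟩
      refine ⟨Subgroup.mem_map_of_mem _ hx, ?_⟩
      rintro _ ⟨y, hy, rfl⟩
      exact Subtype.ext (Units.ext (h _ hy).eq.symm)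
  have hres := kernel_core (G := u.range) ρ3 (fun g g' h => Subtype.ext (Units.ext h)) (p := p)
    hqp hrq D.hrK Q
    (by
      rintro ⟨_, x, hx, rfl⟩
      obtain ⟨n, hn⟩ := D.pgroup _ hx
      refine ⟨n, Subtype.ext (Subtype.ext (Units.ext ?_))⟩
      simp only [SubmonoidClass.coe_pow, Units.val_pow_eq_pow_val]
      exact hn)
    (s := u.rangeRestrict ⟨s, D.normR⟩) (η := u.rangeRestrict ⟨e, heR⟩)
    (by
      rw [← map_pow, show (⟨s, D.normR⟩ : H) ^ r = 1 from Subtype.ext (by simpa using D.pow_eq),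
        map_one])
    (a := a)
    (by
      rw [← map_pow, show (⟨e, heR⟩ : H) ^ q ^ a = 1 from Subtype.ext (by simpa using hea),
        map_one])
    (by rw [← map_mul, ← map_mul]; exact congrArg _ (Subtype.ext hes))
    (by
      rintro g hg
      obtain ⟨x, hx, rfl⟩ := hg.1
      exact hscal _ ((hctr x hx).1 hg))
    (Subgroup.commutator_le.2 fun g hg g' hg' => by
      obtain ⟨x, hx, rfl⟩ := hg
      obtain ⟨y, hy, rfl⟩ := hg'
      rw [← map_commutatorElement]
      have hz : ((⁅x, y⁆ : H) : G) ∈ Z₁ := by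
        simpa [commutatorElement_def] using D.comm_mem _ hx _ hy
      exact (hctr _ (D.le hz)).2 (mem_radical.2 ⟨D.le hz, fun f hf => D.central _ hz f hf⟩))
    (by
      rintro g ⟨x, hx, rfl⟩ hg
      rw [← map_commutatorElement] at hg
      have hsxR : ⁅s, (x : G)⁆ ∈ R₁ := by
        rw [commutatorElement_def]
        exact R₁.mul_mem (CoprimeAction.conj_mem D.normR hx) (R₁.inv_mem hx)
      have hsx : ((⁅(⟨s, D.normR⟩ : H), x⁆ : H) : G) = ⁅s, (x : G)⁆ := by
        simp [commutatorElement_def]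
      have hfix := (hctr _ (by rw [hsx]; exact hsxR)).1 hg
      rw [hsx] at hfix
      refine (hctr x hx).2 ?_
      have hle : radical ρ R₁ ≤ R₁ := fun y hy => (mem_radical.1 hy).1
      have hsZ : s ∈ Subgroup.normalizer (radical ρ R₁ : Set G) :=
        mem_normalizer_radical (Subgroup.mem_normalizer_iff.1 D.normR)
      let T : Subgroup G :=
        { carrier := {g | g ∈ Subgroup.normalizer (radical ρ R₁ : Set G) ∧
            ⁅g, (x : G)⁆ ∈ radical ρ R₁}
          one_mem' := ⟨one_mem _, by simp⟩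
          mul_mem' := fun {g g'} hg hg' => ⟨mul_mem hg.1 hg'.1, by
            rw [show ⁅g * g', (x : G)⁆ = g * ⁅g', (x : G)⁆ * g⁻¹ * ⁅g, (x : G)⁆ by
              simp [commutatorElement_def, mul_assoc]]
            exact mul_mem (CoprimeAction.conj_mem hg.1 hg'.2) hg.2⟩
          inv_mem' := fun {g} hg => ⟨inv_mem hg.1, by
            rw [show ⁅g⁻¹, (x : G)⁆ = g⁻¹ * ⁅g, (x : G)⁆⁻¹ * g⁻¹⁻¹ by
              simp [commutatorElement_def, mul_assoc]]
            exact CoprimeAction.conj_mem (inv_mem hg.1) (inv_mem hg.2)⟩ }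
      obtain ⟨c, hcR, hcN⟩ := CoprimeAction.exists_centralizer_mem_coset_of_commutator
        (A := Subgroup.zpowers s) (K := R₁) (N := radical ρ R₁)
        (by
          rw [Nat.card_zpowers]
          exact D.cop.coprime_dvd_left (orderOf_dvd_of_pow_eq_one D.pow_eq))
        (Or.inl (CoprimeAction.isSolvable_zpowers s)) hle
        (fun g hg => mem_normalizer_radical
          (Subgroup.mem_normalizer_iff.1 (Subgroup.le_normalizer hg)))
        (Subgroup.zpowers_le.2 hsZ) hx
        (fun g hg => by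
          have := (Subgroup.zpowers_le.2 (show s ∈ T from ⟨hsZ, hfix⟩) hg).2
          simpa [commutatorElement_def] using this)
      have hcs : c * s = s * c :=
        (Subgroup.mem_centralizer_iff.1 hcR.2 s (Subgroup.mem_zpowers s)).symm
      have hcz : c ∈ radical ρ R₁ := mem_radical.2 ⟨hcR.1, fun f hf =>
        D.central c (D.fixed_mem c hcR.1 hcs) f hf⟩
      have := (radical ρ R₁).mul_mem hcz ((radical ρ R₁).inv_mem hcN)
      simpa [mul_assoc] using this)
    hkill
  have hmem : ∀ x (hx : x ∈ R₁), u.rangeRestrict ⟨x, hRH hx⟩ ∈ Q := fun x hx =>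
    Subgroup.mem_map_of_mem _ (show (⟨x, hRH hx⟩ : H) ∈ R₁.subgroupOf H from hx)
  rcases hres with h | ⟨h2, h⟩
  · left
    intro x hx
    have hex : ⁅e, x⁆ ∈ R₁ := by
      rw [commutatorElement_def]
      exact R₁.mul_mem (CoprimeAction.conj_mem heR hx) (R₁.inv_mem hx)
    have h1 := h _ (hmem x hx)
    rw [← map_commutatorElement] at h1
    have hcast : ((⁅(⟨e, heR⟩ : H), ⟨x, hRH hx⟩⁆ : H) : G) = ⁅e, x⁆ := by
      simp [commutatorElement_def]
    have h2 := (hctr _ (by rw [hcast]; exact hex)).1 h1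
    rwa [hcast] at h2
  · refine Or.inr ⟨h2, fun x hx => ?_⟩
    have hex : e * x * e⁻¹ * x ∈ R₁ := R₁.mul_mem (CoprimeAction.conj_mem heR hx) hx
    have h1 := h _ (hmem x hx)
    rw [← map_inv, ← map_mul, ← map_mul, ← map_mul] at h1
    exact (hctr ((⟨e, heR⟩ : H) * ⟨x, hRH hx⟩ * (⟨e, heR⟩ : H)⁻¹ * ⟨x, hRH hx⟩) hex).1 h1

/-- On one block of a central subgroup, fixed by the operator. -/
theorem block_alternative [Fact p'.Prime] (hc : Ctx L σ r) (hlev : IsLevel p K B)
    (hlev' : IsLevel p' K' B') (hl : Link p K B p' K' B') (hK : K ≤ L) (hK' : K' ≤ L)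
    (hfull : R ⊔ B = K) (W : SecRep p' K' M') {q : ℕ} [Fact q.Prime] (hqp : q ≠ p) (hrq : r ≠ q)
    {e : Γ} (heσ : e * σ = σ * e) {a : ℕ} (hea : e ^ q ^ a = 1)
    (hkill : W.ρ e * orbitSum W.ρ σ r = orbitSum W.ρ σ r)
    (b : Module.End (AlgebraicClosure (ZMod p')) (Fin W.d → AlgebraicClosure (ZMod p')))
    (hb0 : b ≠ 0) (hbb : b * b = b) (hKb : K ≤ commStab W.ρ b) (hσb : σ ∈ commStab W.ρ b)
    (heb : e ∈ commStab W.ρ b)
    (hMscal : ∀ m ∈ secFrattini p K B, ∃ k : AlgebraicClosure (ZMod p'), W.ρ m * b = k • b) :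
    (∀ x ∈ K, ∀ y ∈ K, W.ρ ⁅⁅e, x⁆, y⁆ * b = b) ∨
      (q = 2 ∧ ∀ x ∈ K, ∀ y ∈ K, W.ρ ⁅e * x * e⁻¹ * x, y⁆ * b = b) := by
  classical
  haveI := hlev.normalK
  haveI := hlev.normalB
  haveI := Fact.mk hlev.prime
  haveI := Fact.mk hc.prime
  set M := secFrattini p K B with hM
  have hRK : R ≤ K := Subgroup.commutator_le_left K _
  have hRb : R ≤ commStab W.ρ b := hRK.trans hKb
  have D := hl.repData hc hlev hlev' hK hK' W
  have D1 := D.restrictTo hRb hσb
  set G := commStab W.ρ b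
  let eG : G := ⟨e, heb⟩
  let sG : G := ⟨σ, hσb⟩
  haveI : Nontrivial (LinearMap.range b) := Submodule.nontrivial_iff_ne_bot.2
    fun h => hb0 (LinearMap.range_eq_bot.1 h)
  have hbfix : ∀ v : LinearMap.range b, b (v : Fin W.d → _) = v := by
    rintro ⟨_, w, rfl⟩
    exact LinearMap.congr_fun hbb w
  -- agreement on the block
  have htoblock : ∀ (g : G), restrictTo W.ρ b g = 1 → W.ρ g * b = b := fun g h =>
    LinearMap.ext fun w => congrArg Subtype.val (LinearMap.congr_fun h ⟨b w, w, rfl⟩)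
  have hB1 : ∀ g : G, (g : Γ) ∈ B → restrictTo W.ρ b g = 1 := fun g hg =>
    LinearMap.ext fun v => Subtype.ext (by
      rw [restrictTo_apply, (hl.rho_eq_one_iff W (hlev.lt'.le hg)).2 hg]; rfl)
  have hMscal1 : ∀ g : G, (g : Γ) ∈ M → ∃ k : AlgebraicClosure (ZMod p'),
      restrictTo W.ρ b g = k • (1 : Module.End _ (LinearMap.range b)) := fun g hg => by
    obtain ⟨k, hk⟩ := hMscal g hg
    refine ⟨k, LinearMap.ext fun v => Subtype.ext ?_⟩
    rw [restrictTo_apply, LinearMap.smul_apply, Module.End.one_apply, Submodule.coe_smul]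
    conv_lhs => rw [← hbfix v, ← Module.End.mul_apply, hk, LinearMap.smul_apply, hbfix]
  set R1 := (R).subgroupOf G with hR1
  set Z2 := radical (restrictTo W.ρ b) R1 with hZ2
  have hZ2le : Z2 ≤ R1 := fun x hx => (mem_radical.1 hx).1
  -- reduce to `R`
  have hdec : ∀ x ∈ K, ∀ (hx : x ∈ G), ∃ (f : G), (f : Γ) ∈ R ∧
      ∃ bb : G, (bb : Γ) ∈ B ∧ (⟨x, hx⟩ : G) = f * bb := by
    intro x hx hxG
    obtain ⟨f, hf, bb, hbb, hfb⟩ := Subgroup.mem_sup_of_normal_right.1 (hfull.ge hx)
    exact ⟨⟨f, hRb hf⟩, hf, ⟨bb, hKb (hlev.lt'.le hbb)⟩, hbb, Subtype.ext hfb.symm⟩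
  have hrho : ∀ x ∈ K, ∀ (hx : x ∈ G), ∃ (f : G), (f : Γ) ∈ R ∧
      restrictTo W.ρ b ⟨x, hx⟩ = restrictTo W.ρ b f := fun x hx hxG => by
    obtain ⟨f, hf, bb, hbb, hfb⟩ := hdec x hx hxG
    exact ⟨f, hf, by rw [hfb, map_mul, hB1 bb hbb, mul_one]⟩
  -- membership in the radical gives the conclusion
  have hfin : ∀ g : G, (g : Γ) ∈ K → (∀ f : G, (f : Γ) ∈ R →
      Commute (restrictTo W.ρ b g) (restrictTo W.ρ b f)) →
      ∀ y ∈ K, W.ρ ⁅(g : Γ), y⁆ * b = b := by
    intro g _ hg y hy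
    obtain ⟨f, hf, hfe⟩ := hrho y hy (hKb hy)
    have h1 : restrictTo W.ρ b ⁅g, (⟨y, hKb hy⟩ : G)⁆ = 1 := by
      rw [commutatorElement_def, map_mul, map_mul, map_mul, hfe, (hg f hf).eq,
        mul_assoc (restrictTo W.ρ b f), rho_mul_inv, mul_one, ← hfe, rho_mul_inv]
    have h2 := htoblock _ h1
    rwa [show ((⁅g, (⟨y, hKb hy⟩ : G)⁆ : G) : Γ) = ⁅(g : Γ), y⁆ by
      simp [commutatorElement_def]] at h2
  -- the blocks of the radical
  haveI := finite_unitImage (restrictTo W.ρ b) Z2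
  haveI : IsMulCommutative (unitImage (restrictTo W.ρ b) Z2) :=
    isMulCommutative_unitImage _ fun x hx y hy => (mem_radical.1 hx).2 y (hZ2le hy)
  have hA2 : (Nat.card (unitImage (restrictTo W.ρ b) Z2) : AlgebraicClosure (ZMod p')) ≠ 0 :=
    card_unitImage_ne_zero _ D1.hpK fun x hx => D1.pgroup x (hZ2le hx)
  have heR1 : eG ∈ Subgroup.normalizer (R1 : Set G) :=
    normalizer_subgroupOf heb (mem_normalizer_commutator_zpowers heσ)
  have heZ2 : eG ∈ Subgroup.normalizer (Z2 : Set G) :=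
    mem_normalizer_radical (Subgroup.mem_normalizer_iff.1 heR1)
  have hsZ2 : sG ∈ Subgroup.normalizer (Z2 : Set G) :=
    mem_normalizer_radical (Subgroup.mem_normalizer_iff.1 D1.normR)
  have hseG : eG * sG = sG * eG := Subtype.ext heσ
  have hsA : (restrictTo W.ρ b).toHomUnits sG ∈
      Subgroup.normalizer (unitImage (restrictTo W.ρ b) Z2 : Set _) :=
    mem_normalizer_unitImage _ hsZ2
  have heA : (restrictTo W.ρ b).toHomUnits eG ∈
      Subgroup.normalizer (unitImage (restrictTo W.ρ b) Z2 : Set _) :=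
    mem_normalizer_unitImage _ heZ2
  have heL : r.Coprime (orderOf eG) := by
    refine Nat.Coprime.coprime_dvd_right (orderOf_dvd_of_pow_eq_one (n := q ^ a) (Subtype.ext ?_)) ?_
    · rw [SubmonoidClass.coe_pow]; exact hea
    · exact ((Nat.coprime_primes hc.prime (Fact.out : q.Prime)).2 hrq).pow_right a
  have hkill1 : restrictTo W.ρ b eG * orbitSum (restrictTo W.ρ b) sG r =
      orbitSum (restrictTo W.ρ b) sG r := by
    refine LinearMap.ext fun v => Subtype.ext ?_
    rw [Module.End.mul_apply, restrictTo_apply]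
    have h := LinearMap.congr_fun hkill (v : Fin W.d → _)
    simp only [orbitSum, LinearMap.sum_apply, Submodule.coe_sum, Module.End.mul_apply,
      ← map_pow, restrictTo_apply, SubgroupClass.coe_pow] at h ⊢
    exact h
  by_cases hnone : ∀ m : unitImage (restrictTo W.ρ b) Z2 →* (AlgebraicClosure (ZMod p'))ˣ,
      twist _ hsA m = m → blk (unitImage (restrictTo W.ρ b) Z2) m = 0
  · left
    obtain ⟨hf, hsum⟩ := exists_sum_blk (K := AlgebraicClosure (ZMod p'))
      (unitImage (restrictTo W.ρ b) Z2) hA2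
    have he1 : restrictTo W.ρ b eG = 1 := by
      rw [← mul_one (restrictTo W.ρ b eG), ← hsum, Finset.mul_sum]
      refine Finset.sum_congr rfl fun m _ => ?_
      by_cases hm : twist _ hsA m = m
      · rw [hnone m hm, mul_zero]
      · exact fix_of_moved _ hc.prime D1.pow_eq hseG heL _ hsA heA hA2 hkill1 m hm
    intro x hx y hy
    have hxe : ⁅e, x⁆ ∈ K := by
      rw [commutatorElement_def]
      exact K.mul_mem (Subgroup.Normal.conj_mem inferInstance x hx e) (K.inv_mem hx)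
    have h1 : restrictTo W.ρ b (⟨⁅e, x⁆, hKb hxe⟩ : G) = 1 := by
      rw [show (⟨⁅e, x⁆, hKb hxe⟩ : G) = ⁅eG, (⟨x, hKb hx⟩ : G)⁆ from
        Subtype.ext (by simp [eG, commutatorElement_def]), commutatorElement_def, map_mul, map_mul,
        map_mul, he1, one_mul, show restrictTo W.ρ b eG⁻¹ = 1 by
          have := rho_mul_inv (restrictTo W.ρ b) eG
          rwa [he1, one_mul] at this, mul_one, rho_mul_inv]
    exact hfin ⟨_, hKb hxe⟩ hxe (fun f _ => by rw [h1]; exact Commute.one_left _) y hy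
  push Not at hnone
  obtain ⟨m, hσm, hm0⟩ := hnone
  -- the fixed block is unique
  have huniq : ∀ m' : unitImage (restrictTo W.ρ b) Z2 →* (AlgebraicClosure (ZMod p'))ˣ,
      twist _ hsA m' = m' → blk (unitImage (restrictTo W.ρ b) Z2) m' ≠ 0 → m' = m := by
    intro m' hσm' hm0'
    refine MonoidHom.ext ?_
    rintro ⟨_, z, hz, rfl⟩
    have hcop : (Nat.card (Subgroup.zpowers sG)).Coprime (Nat.card Z2) := by
      rw [Nat.card_zpowers]
      exact (D1.cop.coprime_dvd_right (Subgroup.card_dvd_of_le hZ2le)).coprime_dvd_left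
        (orderOf_dvd_of_pow_eq_one D1.pow_eq)
    obtain ⟨u, hu, c, hcc, rfl⟩ := CoprimeAction.commutator_sup_centralizer_aux
      (Subgroup.zpowers_le.2 hsZ2) hcop (Or.inl (CoprimeAction.isSolvable_zpowers sG)) hz
    have hcσ : c * sG = sG * c :=
      (Subgroup.mem_centralizer_iff.1 hcc.2 sG (Subgroup.mem_zpowers sG)).symm
    obtain ⟨k, hk⟩ := hMscal1 c (D1.fixed_mem c (hZ2le hcc.1) hcσ).2
    have hval : ∀ (n : unitImage (restrictTo W.ρ b) Z2 →* (AlgebraicClosure (ZMod p'))ˣ),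
        twist _ hsA n = n → blk (unitImage (restrictTo W.ρ b) Z2) n ≠ 0 →
        (n ⟨_, uMem (restrictTo W.ρ b) hz⟩ : (AlgebraicClosure (ZMod p'))ˣ).val = k := by
      intro n hn hn0
      have h1 := rho_mul_blk_of_mem_commutator (ρ := restrictTo W.ρ b) hsZ2
        (commute_of_twist_eq hsA hn) hu
      have h2 : restrictTo W.ρ b (u * c) * blk (unitImage (restrictTo W.ρ b) Z2) n =
          k • blk (unitImage (restrictTo W.ρ b) Z2) n := by
        rw [map_mul, hk, mul_smul_comm, mul_one, smul_mul_assoc, h1]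
      rw [rho_mul_blk_self hz n] at h2
      have h4 : ((n ⟨_, uMem (restrictTo W.ρ b) hz⟩ : (AlgebraicClosure (ZMod p'))ˣ).val - k) •
          blk (unitImage (restrictTo W.ρ b) Z2) n = 0 := by
        refine LinearMap.ext fun v => ?_
        simp only [LinearMap.smul_apply, LinearMap.zero_apply, sub_smul, sub_eq_zero]
        exact LinearMap.congr_fun h2 v
      exact sub_eq_zero.1 ((smul_eq_zero.1 h4).resolve_right hn0)
    exact Units.ext ((hval m' hσm' hm0').trans (hval m hσm hm0).symm)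
  have hem : twist (unitImage (restrictTo W.ρ b) Z2) heA m = m := by
    refine huniq _ ?_ ?_
    · have h1 := twist_mul (unitImage (restrictTo W.ρ b) Z2) hsA heA m
      have h2 := twist_mul (unitImage (restrictTo W.ρ b) Z2) heA hsA m
      rw [← h1, twist_congr (mul_mem hsA heA) (mul_mem heA hsA)
        (by rw [← map_mul, ← map_mul, hseG]) m, h2, hσm]
    · intro h0
      have h1 := rho_mul_blk (ρ := restrictTo W.ρ b) heA m
      rw [h0, zero_mul] at h1
      have h2 := congrArg (restrictTo W.ρ b eG⁻¹ * ·) h1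
      simp only [mul_zero, ← mul_assoc, rho_inv_mul, one_mul] at h2
      exact hm0 h2
  set b2 := blk (unitImage (restrictTo W.ρ b) Z2) m with hb2
  have hR2 : R1 ≤ commStab (restrictTo W.ρ b) b2 := fun x hx =>
    commute_blk_of_commute (fun z hz => ((mem_radical.1 hz).2 x hx).symm) m
  have hs2 : sG ∈ commStab (restrictTo W.ρ b) b2 := commute_of_twist_eq hsA hσm
  have he2 : eG ∈ commStab (restrictTo W.ρ b) b2 := commute_of_twist_eq heA hem
  haveI : Nontrivial (LinearMap.range b2) := Submodule.nontrivial_iff_ne_bot.2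
    fun h => hm0 (LinearMap.range_eq_bot.1 h)
  have D2 := D1.restrictTo hR2 hs2
  have hb2fix : ∀ v : LinearMap.range b2, b2 (v : LinearMap.range b) = v := by
    rintro ⟨_, w, rfl⟩
    show (b2 * b2) w = b2 w
    rw [hb2, blk_mul_blk _ hA2, if_pos rfl]
  -- the radical on the small block is the radical on the block
  have hrad : ∀ x : commStab (restrictTo W.ρ b) b2,
      x ∈ radical (restrictTo (restrictTo W.ρ b) b2)
        (R1.subgroupOf (commStab (restrictTo W.ρ b) b2)) → (x : G) ∈ Z2 := by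
    intro x hx
    rw [mem_radical] at hx
    refine mem_radical.2 ⟨hx.1, fun y hy => ?_⟩
    obtain ⟨k, hk⟩ := hMscal1 ⁅(x : G), y⁆ (D1.comm_mem _ hx.1 _ hy).2
    have h1 : restrictTo (restrictTo W.ρ b) b2 ⁅x, (⟨y, hR2 hy⟩ : commStab _ b2)⁆ = 1 := by
      rw [commutatorElement_def, map_mul, map_mul, map_mul,
        (hx.2 ⟨y, hR2 hy⟩ (Subgroup.mem_subgroupOf.2 hy)).eq,
        mul_assoc (restrictTo (restrictTo W.ρ b) b2 _), ← map_mul _ x x⁻¹, mul_inv_cancel,
        map_one, mul_one, ← map_mul, mul_inv_cancel, map_one]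
    obtain ⟨v, hv⟩ := exists_ne (0 : LinearMap.range b2)
    have h2 : restrictTo W.ρ b ⁅(x : G), y⁆ (v : LinearMap.range b) = (v : LinearMap.range b) := by
      have h2 := congrArg Subtype.val (LinearMap.congr_fun h1 v)
      rw [restrictTo_apply] at h2
      simpa [commutatorElement_def] using h2
    rw [hk, LinearMap.smul_apply, Module.End.one_apply] at h2
    have hk1 : k = 1 := by
      by_contra hne
      refine hv (Subtype.ext ?_)
      by_contra hv0
      exact hne (smul_left_injective (AlgebraicClosure (ZMod p')) hv0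
        (h2.trans (one_smul _ _).symm))
    rw [hk1, one_smul] at hk
    show restrictTo W.ρ b (x : G) * restrictTo W.ρ b y = _ * _
    rw [← map_mul, ← map_mul, show (x : G) * y = ⁅(x : G), y⁆ * (y * x) by
      rw [commutatorElement_def]; group, map_mul, hk, one_mul]
  have hres := kernel_radical D2 (e := ⟨eG, he2⟩) hqp hrq (a := a)
    (Subtype.ext (Subtype.ext (by simpa [eG] using hea))) (Subtype.ext hseG)
    (normalizer_subgroupOf he2 heR1)
    (fun x hx => by
      have hxZ := hrad x hx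
      refine ⟨(m ⟨_, uMem (restrictTo W.ρ b) hxZ⟩ : (AlgebraicClosure (ZMod p'))ˣ).val,
        LinearMap.ext fun v => Subtype.ext ?_⟩
      rw [restrictTo_apply, LinearMap.smul_apply, Module.End.one_apply, Submodule.coe_smul]
      refine ((congrArg (restrictTo W.ρ b (x : G)) (hb2fix v).symm).trans
        (LinearMap.congr_fun (rho_mul_blk_self hxZ m) (v : LinearMap.range b))).trans ?_
      exact congrArg ((m ⟨_, uMem (restrictTo W.ρ b) hxZ⟩ :
        (AlgebraicClosure (ZMod p'))ˣ).val • ·) (hb2fix v))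
    (by
      refine LinearMap.ext fun v => Subtype.ext ?_
      rw [Module.End.mul_apply, restrictTo_apply]
      have h := LinearMap.congr_fun hkill1 (v : LinearMap.range b)
      simp only [orbitSum, LinearMap.sum_apply, Submodule.coe_sum, Module.End.mul_apply,
        ← map_pow, restrictTo_apply, SubgroupClass.coe_pow] at h ⊢
      exact h)
  have hbb1 : ∀ (bb : G), (bb : Γ) ∈ B → restrictTo W.ρ b bb = 1 ∧
      restrictTo W.ρ b bb⁻¹ = 1 ∧ restrictTo W.ρ b (eG * bb * eG⁻¹) = 1 := fun bb hbb =>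
    ⟨hB1 _ hbb, hB1 _ (B.inv_mem hbb),
      hB1 _ (Subgroup.Normal.conj_mem (inferInstance : B.Normal) _ hbb e)⟩
  rcases hres with h | ⟨hq2, h⟩
  · left
    intro x hx y hy
    have hxe : ⁅e, x⁆ ∈ K := by
      rw [commutatorElement_def]
      exact K.mul_mem (Subgroup.Normal.conj_mem inferInstance x hx e) (K.inv_mem hx)
    obtain ⟨f, hf, bb, hbb, hfb⟩ := hdec x hx (hKb hx)
    have h2 := hrad _ (h ⟨f, hR2 hf⟩ (Subgroup.mem_subgroupOf.2 hf))
    rw [show ((⁅(⟨eG, he2⟩ : commStab _ b2), ⟨f, hR2 hf⟩⁆ : commStab _ b2) : G) = ⁅eG, f⁆ by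
      simp [commutatorElement_def]] at h2
    refine hfin ⟨_, hKb hxe⟩ hxe (fun g hg => ?_) y hy
    have h3 : restrictTo W.ρ b (⟨⁅e, x⁆, hKb hxe⟩ : G) = restrictTo W.ρ b ⁅eG, f⁆ := by
      rw [show (⟨⁅e, x⁆, hKb hxe⟩ : G) = eG * f * eG⁻¹ * (eG * bb * eG⁻¹) * bb⁻¹ * f⁻¹ by
        rw [show eG * f * eG⁻¹ * (eG * bb * eG⁻¹) * bb⁻¹ * f⁻¹ = ⁅eG, f * bb⁆ by
          rw [commutatorElement_def]; group, ← hfb]
        exact Subtype.ext (by simp [eG, commutatorElement_def]), commutatorElement_def]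
      obtain ⟨-, hbi, hbc⟩ := hbb1 bb hbb
      simp only [map_mul] at hbc ⊢
      rw [hbc, hbi, mul_one, mul_one]
    rw [h3]
    exact (mem_radical.1 h2).2 g hg
  · refine Or.inr ⟨hq2, fun x hx y hy => ?_⟩
    have hxe : e * x * e⁻¹ * x ∈ K :=
      K.mul_mem (Subgroup.Normal.conj_mem inferInstance x hx e) hx
    obtain ⟨f, hf, bb, hbb, hfb⟩ := hdec x hx (hKb hx)
    have h2 := hrad _ (h ⟨f, hR2 hf⟩ (Subgroup.mem_subgroupOf.2 hf))
    rw [show (((⟨eG, he2⟩ : commStab _ b2) * ⟨f, hR2 hf⟩ * (⟨eG, he2⟩ : commStab _ b2)⁻¹ *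
        ⟨f, hR2 hf⟩ : commStab _ b2) : G) = eG * f * eG⁻¹ * f from rfl] at h2
    refine hfin ⟨_, hKb hxe⟩ hxe (fun g hg => ?_) y hy
    have h3 : restrictTo W.ρ b (⟨e * x * e⁻¹ * x, hKb hxe⟩ : G) =
        restrictTo W.ρ b (eG * f * eG⁻¹ * f) := by
      rw [show (⟨e * x * e⁻¹ * x, hKb hxe⟩ : G) = eG * (f * bb) * eG⁻¹ * (f * bb) by
        rw [← hfb]; rfl,
        show eG * (f * bb) * eG⁻¹ * (f * bb) = eG * f * eG⁻¹ * (eG * bb * eG⁻¹) * f * bb by group]
      obtain ⟨hb1, -, hbc⟩ := hbb1 bb hbb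
      simp only [map_mul] at hbc ⊢
      rw [hbc, hb1, mul_one, mul_one]
    rw [h3]
    exact (mem_radical.1 h2).2 g hg

/-- An element above which fixes all fixed elements below inverts every piece. -/
theorem kernel_alternative (hc : Ctx L σ r) (hlev0 : IsLevel p0 K0 B0) (hlev : IsLevel p K B)
    (hlev' : IsLevel p' K' B') (hl0 : Link p0 K0 B0 p K B) (hl : Link p K B p' K' B')
    (hK0 : K0 ≤ L) (hK : K ≤ L) (hK' : K' ≤ L)
    (hgen : ∀ g : Γ, ∃ c, c * σ = σ * c ∧ ∃ x ∈ K, g = c * x) (hfull : R ⊔ B = K) {e : Γ}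
    (he : e ∈ K0) (heσ : e * σ = σ * e) (hea : ∃ a, e ^ p0 ^ a = 1) (heB : e ∉ B0)
    (hnm : ¬ Moves σ (⁅K', R⁆ ⊔ M') M' e) :
    p0 = 2 ∧ (∀ m ∈ secFrattini p K B, ⁅σ, m⁆ ∈ B) ∧
      ∀ h : Γ, h * σ = σ * h → (∀ m ∈ secFrattini p K B, ⁅h, m⁆ ∈ B) →
        ∀ x ∈ K, ⁅⁅h, e⁆, x⁆ ∈ secFrattini p K B := by
  classical
  haveI := hlev.normalK
  haveI := hlev.normalB
  haveI := hlev'.normalK
  haveI := hlev'.normalB
  haveI := Fact.mk hlev'.prime
  haveI := Fact.mk hlev0.prime
  haveI := Fact.mk hlev.prime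
  obtain ⟨W⟩ := hlev'.exists_secRep
  set M := secFrattini p K B with hM
  have hMK : M ≤ K := secFrattini_le hlev.lt'.le
  obtain ⟨a, hea⟩ := hea
  have hkill : W.ρ e * orbitSum W.ρ σ r = orbitSum W.ρ σ r := LinearMap.ext fun v =>
    W.fixes_orbitSum hc (span_le (secFrattini_le hlev'.lt'.le)) hK' le_sup_right
      (mem_normalizer_span (mem_normalizer_commutator_zpowers rfl)) hnm
      (by rw [span_eq_of_full hlev hlev' hl hfull, W.span]; trivial)
  have hBone : ∀ x ∈ B, W.ρ x = 1 := fun x hx => (hl.rho_eq_one_iff W (hlev.lt'.le hx)).2 hx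
  have hkeep : ∀ g g' : Γ, ⁅g, g'⁆ ∈ B → Commute (W.ρ g) (W.ρ g') := fun g g' h => by
    show W.ρ g * W.ρ g' = W.ρ g' * W.ρ g
    rw [← map_mul, ← map_mul, show g * g' = ⁅g, g'⁆ * (g' * g) by rw [commutatorElement_def]; group,
      map_mul, hBone _ h, one_mul]
  have hecop : r.Coprime (orderOf e) := hc.cop_elt (hK0 he)
  -- a commutative subgroup whose fixed blocks vanish
  have hkilled : ∀ P : Subgroup Γ, P.Normal → P ≤ K →
      (∀ x ∈ P, ∀ y ∈ P, Commute (W.ρ x) (W.ρ y)) →
      (∀ v, (∀ x ∈ ⁅P, Subgroup.zpowers σ⁆, W.ρ x v = v) → v = 0) → False := by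
    intro P hPn hPK hcomm hfix
    haveI := hPn
    haveI := finite_unitImage W.ρ P
    haveI : IsMulCommutative (unitImage W.ρ P) := isMulCommutative_unitImage W.ρ hcomm
    have hA := hl.card_unitImage hlev W hPK
    obtain ⟨hf, hsum⟩ := exists_sum_blk (K := AlgebraicClosure (ZMod p')) (unitImage W.ρ P) hA
    have hσA := mem_normalizer_unitImage W.ρ (mem_normalizer_of_normal P σ)
    have he1 : W.ρ e = 1 := by
      rw [← mul_one (W.ρ e), ← hsum, Finset.mul_sum]
      refine Finset.sum_congr rfl fun l _ => ?_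
      by_cases hσl : twist _ hσA l = l
      · have h0 : blk (unitImage W.ρ P) l = 0 := LinearMap.ext fun v => hfix _ fun x hx => by
          rw [← Module.End.mul_apply, rho_mul_blk_of_mem_commutator (mem_normalizer_of_normal P σ)
            (commute_of_twist_eq hσA hσl) hx]
        rw [h0, mul_zero]
      · exact fix_of_moved W.ρ hc.prime hc.pow_eq heσ hecop _ hσA
          (mem_normalizer_unitImage W.ρ (mem_normalizer_of_normal P e)) hA hkill l hσl
    refine heB ((hl0.kernel e he).2 fun x hx => le_secFrattini p K B ?_)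
    have hex : ⁅e, x⁆ ∈ K := by
      rw [commutatorElement_def]
      exact K.mul_mem (Subgroup.Normal.conj_mem inferInstance x hx e) (K.inv_mem hx)
    refine (hl.rho_eq_one_iff W hex).1 ?_
    rw [commutatorElement_def, map_mul, map_mul, map_mul, he1, one_mul,
      show W.ρ e⁻¹ = 1 by
        have := rho_mul_inv W.ρ e
        rwa [he1, one_mul] at this, mul_one, rho_mul_inv]
  have hMσ : ∀ m ∈ M, ⁅σ, m⁆ ∈ B := by
    by_contra! hall
    obtain ⟨m0, hm0, hm0B⟩ := hall
    set D := ⁅M, Subgroup.zpowers σ⁆ ⊔ B with hD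
    have hDM : D ≤ M := sup_le (Subgroup.commutator_le_left M _) (le_secFrattini p K B)
    haveI hDn : D.Normal := by
      rw [← Subgroup.normalizer_eq_top_iff, eq_top_iff]
      intro g _
      obtain ⟨c, hcσ, x, hx, rfl⟩ := hgen g
      refine mul_mem ?_ (CoprimeAction.mem_normalizer_of_conj_mem fun d hd => ?_)
      · refine Subgroup.mem_normalizer_iff_map_conj_eq.2 ?_
        show D.map (MulAut.conj c : Γ →* Γ) = D
        rw [hD, Subgroup.map_sup,
          Subgroup.mem_normalizer_iff_map_conj_eq.1 (mem_normalizer_of_normal B c),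
          Subgroup.mem_normalizer_iff_map_conj_eq.1
            (mem_normalizer_commutator_zpowers (K := M) hcσ)]
      · rw [show x * d * x⁻¹ = ⁅x, d⁆ * d by rw [commutatorElement_def, inv_mul_cancel_right],
          ← commutatorElement_inv]
        exact mul_mem (Subgroup.mem_sup_right (B.inv_mem (hlev.central d (hDM hd) x hx))) hd
    refine hkilled M inferInstance hMK (fun x hx y hy => hkeep x y (hlev.central x hx y (hMK hy)))
      fun v hv => ?_
    haveI := finite_unitImage W.ρ D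
    have hspan : K' ≤ ⁅K', D⁆ ⊔ M' := by
      rcases hlev'.irred (⁅K', D⁆ ⊔ M') inferInstance le_sup_right
        (span_le (secFrattini_le hlev'.lt'.le)) with h | h
      · exfalso
        have hmem : ⁅m0, σ⁆ ∈ D := Subgroup.mem_sup_left
          (Subgroup.commutator_mem_commutator hm0 (Subgroup.mem_zpowers σ))
        refine hm0B ?_
        rw [← commutatorElement_inv]
        refine B.inv_mem ((hl.kernel _ (hMK (hDM hmem))).2 fun y hy => ?_)
        rw [← commutatorElement_inv]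
        exact inv_mem (h.le (Subgroup.mem_sup_left (Subgroup.commutator_mem_commutator hy hmem)))
      · exact h.ge
    let T : Subgroup Γ :=
      { carrier := {g | W.ρ g v = v}
        one_mem' := by simp
        mul_mem' := fun {x y} hx hy => by
          show W.ρ (x * y) v = v
          rw [map_mul, Module.End.mul_apply, hy, hx]
        inv_mem' := fun {x} hx => by
          show W.ρ x⁻¹ v = v
          conv_lhs => rw [← (show W.ρ x v = v from hx), ← Module.End.mul_apply, rho_inv_mul]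
          rfl }
    have hDT : D ≤ T := sup_le (fun x hx => hv x hx) fun x hx => by
      show W.ρ x v = v
      rw [hBone x hx]; rfl
    exact W.eq_zero_of_fixed hspan (secFrattini_le hlev'.lt'.le)
      (hl.card_unitImage hlev W (hDM.trans hMK)) (W.span ▸ Submodule.mem_top)
      fun x hx => hDT hx
  by_cases hab : ⁅K, K⁆ ≤ B
  · exact (hkilled K inferInstance le_rfl
      (fun x hx y hy => hkeep x y (hab (Subgroup.commutator_mem_commutator hx hy)))
      fun v hv => eq_zero_of_full hlev hlev' hl hfull W v hv).elim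
  -- the nonabelian level
  haveI := finite_unitImage W.ρ M
  haveI : IsMulCommutative (unitImage W.ρ M) := isMulCommutative_unitImage W.ρ
    fun x hx y hy => hkeep x y (hlev.central x hx y (hMK hy))
  have hA := hl.card_unitImage hlev W hMK
  have hstab : ∀ g : Γ, (∀ m ∈ M, ⁅g, m⁆ ∈ B) → ∀ l : unitImage W.ρ M →*
      (AlgebraicClosure (ZMod p'))ˣ, g ∈ commStab W.ρ (blk (unitImage W.ρ M) l) := fun g hg l =>
    commute_blk_of_commute (fun m hm => hkeep g m (hg m hm)) l
  have hstabK : ∀ l, K ≤ commStab W.ρ (blk (unitImage W.ρ M) l) := fun l x hx =>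
    hstab x (fun m hm => by rw [← commutatorElement_inv]; exact B.inv_mem (hlev.central m hm x hx)) l
  have halt : ∀ l : unitImage W.ρ M →* (AlgebraicClosure (ZMod p'))ˣ,
      blk (unitImage W.ρ M) l ≠ 0 →
      (∀ x ∈ K, ∀ y ∈ K, W.ρ ⁅⁅e, x⁆, y⁆ * blk (unitImage W.ρ M) l = blk (unitImage W.ρ M) l) ∨
        (p0 = 2 ∧ ∀ x ∈ K, ∀ y ∈ K,
          W.ρ ⁅e * x * e⁻¹ * x, y⁆ * blk (unitImage W.ρ M) l = blk (unitImage W.ρ M) l) :=
    fun l hl0' => block_alternative hc hlev hlev' hl hK hK' hfull W hl0.ne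
      (hlev0.prime_ne hc hK0) heσ hea hkill _ hl0' (by rw [blk_mul_blk _ hA, if_pos rfl])
      (hstabK l) (hstab σ hMσ l) (hstab e (hl0.centralizes e he) l)
      fun m hm => ⟨_, rho_mul_blk_self hm l⟩
  -- central modulo `B` means in `M`
  have hcentre : ∀ g ∈ K, (∀ y ∈ K, ∀ l : unitImage W.ρ M →* (AlgebraicClosure (ZMod p'))ˣ,
      blk (unitImage W.ρ M) l ≠ 0 →
      W.ρ ⁅g, y⁆ * blk (unitImage W.ρ M) l = blk (unitImage W.ρ M) l) → g ∈ M := by
    intro g hg hall
    obtain ⟨hf, hsum⟩ := exists_sum_blk (K := AlgebraicClosure (ZMod p')) (unitImage W.ρ M) hA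
    set X := K ⊓ secCentralizer K B
    have hMX : M ≤ X := fun m hm => ⟨hMK hm, mem_secCentralizer.2 (hlev.central m hm)⟩
    rcases hlev.irred X inferInstance hMX inf_le_left with h | h
    · refine h.le ⟨hg, mem_secCentralizer.2 fun y hy => (hl.rho_eq_one_iff W ?_).1 ?_⟩
      · exact Subgroup.commutator_le_left K K (Subgroup.commutator_mem_commutator hg hy)
      · rw [← mul_one (W.ρ ⁅g, y⁆), ← hsum, Finset.mul_sum]
        refine Finset.sum_congr rfl fun l _ => ?_
        by_cases hl' : blk (unitImage W.ρ M) l = 0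
        · rw [hl', mul_zero]
        · exact hall y hy l hl'
    · exact absurd (Subgroup.commutator_le.2 fun x hx y hy =>
        mem_secCentralizer.1 (h.ge hx).2 y hy) hab
  have hconjK : ∀ g x : Γ, x ∈ K → ⁅g, x⁆ ∈ K := fun g x hx => by
    rw [commutatorElement_def]
    exact K.mul_mem (Subgroup.Normal.conj_mem inferInstance x hx g) (K.inv_mem hx)
  have hp2 : p0 = 2 := by
    by_contra hne
    refine heB ((hl0.kernel e he).2 fun x hx => hcentre _ (hconjK e x hx) fun y hy l hl' => ?_)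
    rcases halt l hl' with h | ⟨h, -⟩
    · exact h x hx y hy
    · exact absurd h hne
  refine ⟨hp2, hMσ, fun h hhσ hhM x hx => hcentre _ (hconjK _ x hx) fun y hy l hl' => ?_⟩
  set bl := blk (unitImage W.ρ M) l with hbl
  set G := commStab W.ρ bl
  have hKG : K ≤ G := hstabK l
  -- the radical of the pairing on the block
  let N : Subgroup G :=
    { carrier := {g | (g : Γ) ∈ K ∧ ∀ y ∈ K, W.ρ ⁅(g : Γ), y⁆ * bl = bl}
      one_mem' := ⟨by simp, fun y _ => by simp⟩
      mul_mem' := fun {g g'} hg hg' => ⟨K.mul_mem hg.1 hg'.1, fun y hy => by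
        rw [Subgroup.coe_mul, show ⁅(g : Γ) * g', y⁆ = g * ⁅(g' : Γ), y⁆ * (g : Γ)⁻¹ * ⁅(g : Γ), y⁆ by
          simp [commutatorElement_def, mul_assoc], map_mul, map_mul, map_mul, mul_assoc, hg.2 y hy,
          mul_assoc, (show Commute (W.ρ (g : Γ)⁻¹) bl from (g⁻¹ : G).2).eq, ← mul_assoc,
          mul_assoc (W.ρ (g : Γ)), hg'.2 y hy, (show Commute (W.ρ (g : Γ)) bl from g.2).eq,
          mul_assoc, rho_mul_inv, mul_one]⟩
      inv_mem' := fun {g} hg => ⟨K.inv_mem hg.1, fun y hy => by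
        have hy' : (g : Γ)⁻¹ * y * g ∈ K := K.mul_mem (K.mul_mem (K.inv_mem hg.1) hy) hg.1
        have h1 := hg.2 _ hy'
        rw [show ⁅(g : Γ), (g : Γ)⁻¹ * y * g⁆ = ⁅((g⁻¹ : G) : Γ), y⁆⁻¹ by
          simp [commutatorElement_def, mul_assoc]] at h1
        conv_lhs => rw [← h1, ← mul_assoc, rho_mul_inv, one_mul]⟩ }
  haveI hNn : N.Normal := ⟨fun n hn g => ⟨Subgroup.Normal.conj_mem inferInstance _ hn.1 (g : Γ),
    fun y hy => by
      have hy' : (g : Γ)⁻¹ * y * g ∈ K := by
        simpa using Subgroup.Normal.conj_mem (inferInstance : K.Normal) y hy (g : Γ)⁻¹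
      rw [Subgroup.coe_mul, Subgroup.coe_mul, Subgroup.coe_inv,
        show ⁅(g : Γ) * n * (g : Γ)⁻¹, y⁆ = g * ⁅(n : Γ), (g : Γ)⁻¹ * y * g⁆ * (g : Γ)⁻¹ by
          simp [commutatorElement_def, mul_assoc], map_mul, map_mul, mul_assoc,
        (show Commute (W.ρ (g : Γ)⁻¹) bl from (g⁻¹ : G).2).eq, ← mul_assoc,
        mul_assoc (W.ρ (g : Γ)), hn.2 _ hy', (show Commute (W.ρ (g : Γ)) bl from g.2).eq,
        mul_assoc, rho_mul_inv, mul_one]⟩⟩
  let eG : G := ⟨e, hstab e (hl0.centralizes e he) l⟩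
  let hG : G := ⟨h, hstab h hhM l⟩
  let π := QuotientGroup.mk' N
  suffices hgoal : ⁅⁅hG, eG⁆, (⟨x, hKG hx⟩ : G)⁆ ∈ N by
    have := hgoal.2 y hy
    simpa [commutatorElement_def, hG, eG] using this
  rw [← QuotientGroup.eq_one_iff, ← QuotientGroup.mk'_apply, map_commutatorElement,
    commutatorElement_eq_one_iff_mul_comm, map_commutatorElement]
  set H := π hG
  set E := π eG
  rcases halt l hl' with hh | ⟨-, hh⟩
  · have hE : ∀ z : G, (z : Γ) ∈ K → E * π z * E⁻¹ = π z := fun z hz => by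
      rw [← map_inv, ← map_mul, ← map_mul]
      refine (QuotientGroup.eq.2 ?_).symm
      have h1 : ⁅eG, z⁆ ∈ N := ⟨by simpa [commutatorElement_def, eG] using hconjK e z hz,
        fun y hy => by simpa [commutatorElement_def, eG] using hh z hz y hy⟩
      have h2 := hNn.conj_mem _ h1 z⁻¹
      simpa [commutatorElement_def, mul_assoc] using h2
    have hE' : ∀ z : G, (z : Γ) ∈ K → E⁻¹ * π z * E = π z := fun z hz => by
      conv_lhs => rw [← hE z hz]
      group
    have h1 : E⁻¹ * π ⟨x, hKG hx⟩ * E = π ⟨x, hKG hx⟩ := hE' _ hx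
    have h2 := hE (hG⁻¹ * ⟨x, hKG hx⟩ * hG)
      (by simpa [hG] using Subgroup.Normal.conj_mem (inferInstance : K.Normal) x hx h⁻¹)
    simp only [map_mul, map_inv] at h2
    rw [show π hG = H from rfl] at h2
    calc ⁅H, E⁆ * π ⟨x, hKG hx⟩
        = H * (E * (H⁻¹ * (E⁻¹ * π ⟨x, hKG hx⟩ * E) * H) * E⁻¹) * H⁻¹ * ⁅H, E⁆ := by
          rw [commutatorElement_def]; group
      _ = π ⟨x, hKG hx⟩ * ⁅H, E⁆ := by rw [h1, h2]; group
  · have hE : ∀ z : G, (z : Γ) ∈ K → E * π z * E⁻¹ = (π z)⁻¹ := fun z hz => by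
      refine eq_inv_of_mul_eq_one_left ?_
      rw [← map_inv, ← map_mul, ← map_mul, ← map_mul]
      exact (QuotientGroup.eq_one_iff _).2 ⟨K.mul_mem
        (Subgroup.Normal.conj_mem inferInstance _ hz e) hz, fun y hy => hh z hz y hy⟩
    have h1 : E⁻¹ * π ⟨x, hKG hx⟩ * E = (π ⟨x, hKG hx⟩)⁻¹ := by
      have h3 := hE (⟨x, hKG hx⟩⁻¹) (K.inv_mem hx)
      rw [map_inv, inv_inv] at h3
      conv_lhs => rw [← h3]
      group
    have h2 := hE (hG⁻¹ * (⟨x, hKG hx⟩ : G)⁻¹ * hG)
      (by simpa [hG] using Subgroup.Normal.conj_mem (inferInstance : K.Normal) _ (K.inv_mem hx) h⁻¹)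
    simp only [map_mul, map_inv] at h2
    rw [show π hG = H from rfl] at h2
    calc ⁅H, E⁆ * π ⟨x, hKG hx⟩
        = H * (E * (H⁻¹ * (E⁻¹ * π ⟨x, hKG hx⟩ * E) * H) * E⁻¹) * H⁻¹ * ⁅H, E⁆ := by
          rw [commutatorElement_def]; group
      _ = π ⟨x, hKG hx⟩ * ⁅H, E⁆ := by rw [h1, h2]; group

end CfsgLib.FittingHeightPrime
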