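/-
At a nonabelian level every fixed element of the moved section moves a fixed element below.
-/
import Mathlib
import Cfsg.Agent.Lib.FittingHeightPrime.Levels
import Cfsg.Agent.Lib.FittingHeightPrime.Excluded

set_option autoImplicit false
set_option linter.style.haveILetI false
set_option linter.unusedSectionVars false

open Module
open scoped commutatorElement IsMulCommutative

namespace CfsgLib.FittingHeightPrime

open HallHigmanExc

theorem bit_smul {n : ℕ} {K : Type*} [Field K] {x : Fin n → K} (hx : ∀ i, x i = 0 ∨ x i = 1)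
    (hx0 : x ≠ 0) {k : K} (hk : k ≠ 0) (hkx : ∀ i, k * x i = 0 ∨ k * x i = 1) : k = 1 := by
  by_contra hne
  refine hx0 (funext fun i => ?_)
  rcases hx i with h | h
  · exact h
  · rcases hkx i with h' | h' <;> rw [h, mul_one] at h'
    · exact absurd h' hk
    · exact absurd h' hne

theorem bit_independent {n : ℕ} {K : Type*} [Field K] {c u : Fin n → K}
    (hc : ∀ i, c i = 0 ∨ c i = 1) (hu : ∀ i, u i = 0 ∨ u i = 1) (hc0 : c ≠ 0) (hu0 : u ≠ 0)
    (hne : c ≠ u) (a b : K) (h : a • c + b • u = 0) : a = 0 ∧ b = 0 := by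
  obtain ⟨i, hi⟩ := Function.ne_iff.1 hne
  have h1 := congrFun h i
  simp only [Pi.add_apply, Pi.smul_apply, smul_eq_mul, Pi.zero_apply] at h1
  rcases hc i with hci | hci <;> rcases hu i with hui | hui <;> rw [hci, hui] at h1 hi
  · exact absurd rfl hi
  · rw [mul_zero, zero_add, mul_one] at h1
    subst h1
    rw [zero_smul, add_zero] at h
    exact ⟨(smul_eq_zero.1 h).resolve_right hc0, rfl⟩
  · rw [mul_one, mul_zero, add_zero] at h1
    subst h1
    rw [zero_smul, zero_add] at h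
    exact ⟨rfl, (smul_eq_zero.1 h).resolve_right hu0⟩
  · exact absurd rfl hi

variable {Γ : Type*} [Group Γ] [Finite Γ] {L : Subgroup Γ} {σ : Γ} {r p p' p'' : ℕ}
  {K B K' B' K'' B'' : Subgroup Γ}

/-- The moved section below a nonabelian level with a small commutator space, in characteristic
two: impossible with a fixed vector and a partner for a pairing. -/
theorem Triple.no_small_pairing (T : Triple L σ r p K B p' K' B' p'' K'' B'') (hp' : p' = 2)
    (G N : Subgroup Γ) (hKG : K ≤ G) (hK'G : K' ≤ G) (hσG : σ ∈ G)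
    (hNn : ∀ g ∈ G, g ∈ Subgroup.normalizer (N : Set Γ)) (hNK : N ≤ K')
    (hMN : secFrattini p' K' B' ≤ N) {β : Γ → Γ → Prop}
    (hβ : ∀ a ∈ K', (∀ b ∈ K', β a b) → a ∈ N)
    (hβN : ∀ a ∈ N, ∀ b ∈ K', β a b ∧ β b a)
    (hβmul : ∀ a ∈ K', ∀ b ∈ K', ∀ d ∈ K', β a b → β a d → β a (b * d))
    (hβmul' : ∀ a ∈ K', ∀ b ∈ K', ∀ d ∈ K', β a d → β b d → β (a * b) d)
    (hβself : ∀ a ∈ K', β a a)
    (hβcomm : ∀ g ∈ G, ∀ y ∈ K', ∀ d ∈ K', ⁅g, d⁆ ∈ N → β ⁅y, g⁆ d)
    {c : Γ} (hcU : c ∈ ⁅K', ⁅K, Subgroup.zpowers σ⁆⁆ ⊔ secFrattini p' K' B') (hcσ : c * σ = σ * c)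
    {d : Γ} (hdK : d ∈ K') (hdσ : d * σ = σ * d) (hcd : ¬ β c d)
    {m : ℕ} (hrm : r - 1 = 2 ^ m)
    (hcard : (⁅K', Subgroup.zpowers σ⁆ ⊓ N).relIndex ⁅K', Subgroup.zpowers σ⁆ = 2 ^ (2 * m)) :
    False := by
  classical
  subst hp'
  haveI := T.lev.normalK
  haveI := T.lev.normalB
  haveI := T.lev'.normalK
  haveI := T.lev'.normalB
  haveI : Fact (Nat.Prime 2) := ⟨Nat.prime_two⟩
  haveI := Fact.mk T.lev.prime
  have hc := T.ctx
  set R := ⁅K, Subgroup.zpowers σ⁆ with hR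
  set R' := ⁅K', Subgroup.zpowers σ⁆ with hR'
  set M' := secFrattini 2 K' B' with hM'
  have hRK : R ≤ K := Subgroup.commutator_le_left K _
  have hR'K : R' ≤ K' := Subgroup.commutator_le_left K' _
  have hM'K : M' ≤ K' := secFrattini_le T.lev'.lt'.le
  haveI hKn : (K'.subgroupOf G).Normal := inferInstance
  haveI hNGn : (N.subgroupOf G).Normal := ⟨fun n hn g =>
    CoprimeAction.conj_mem (normalizer_subgroupOf g.2 (hNn g g.2)) hn⟩
  have hcom : ∀ {a b : G}, ⁅a, b⁆ ∈ N.subgroupOf G ↔ ⁅(a : Γ), (b : Γ)⁆ ∈ N := fun {a b} => by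
    simp [Subgroup.mem_subgroupOf, commutatorElement_def]
  obtain ⟨W⟩ := FittingHeightPrime.exists_secRep (p := 2) (K'.subgroupOf G) (N.subgroupOf G)
    (fun x hx => hNK hx)
    (Subgroup.commutator_le.2 fun a ha b hb => hcom.2
      (hMN (commutator_le_secFrattini 2 K' B' (Subgroup.commutator_mem_commutator ha hb))))
    (fun x hx => by
      have h := hMN (pow_mem_secFrattini 2 B' (Subgroup.mem_subgroupOf.1 hx))
      simpa [Subgroup.mem_subgroupOf] using h)
  let sG : G := ⟨σ, hσG⟩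
  have hRG : R ≤ G := hRK.trans hKG
  -- `B` acts trivially
  have hBtriv : ∀ b : G, (b : Γ) ∈ B → W.ρ b = 1 := fun b hb => (W.rho_eq_one b).2 fun x hx =>
    hcom.2 (hMN ((T.link.kernel _ (T.lev.lt'.le hb)).1 hb _ hx))
  have D : RepData W.ρ sG r p (R.subgroupOf G) ((R ⊓ secFrattini p K B).subgroupOf G) :=
    { prime := hc.prime
      pow_eq := Subtype.ext (by simp [sG, hc.pow_eq])
      normR := normalizer_subgroupOf hσG (mem_normalizer_commutator_zpowers rfl)
      normZ := normalizer_subgroupOf hσG (CoprimeAction.mem_normalizer_of_conj_mem fun x hx =>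
        ⟨CoprimeAction.conj_mem (mem_normalizer_commutator_zpowers rfl) hx.1,
          Subgroup.Normal.conj_mem inferInstance x hx.2 σ⟩)
      le := fun x hx => hx.1
      cop := by
        rw [Nat.card_congr (Subgroup.subgroupOfEquivOfLe hRG).toEquiv]
        exact hc.cop_r (hRK.trans T.le)
      gen := gen_subgroupOf hRG hσG (hc.gen T.le)
      fixed_mem := fun x hx he => ⟨hx, hc.fixed_mem T.lev T.le hx (congrArg Subtype.val he)⟩
      comm_mem := fun x hx y hy => by
        rw [Subgroup.mem_subgroupOf]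
        refine ⟨?_, ?_⟩ <;> simp only [commutatorElement_def, Subgroup.coe_mul, Subgroup.coe_inv]
        · exact R.mul_mem (R.mul_mem (R.mul_mem hx hy) (R.inv_mem hx)) (R.inv_mem hy)
        · simpa [commutatorElement_def] using commutator_le_secFrattini p K B
            (Subgroup.commutator_mem_commutator (hRK hx) (hRK hy))
      central := fun z hz x hx => by
        have h1 : W.ρ ⁅z, x⁆ = 1 := hBtriv _ (by
          simpa [commutatorElement_def] using T.lev.central _ hz.2 _ (hRK hx))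
        show W.ρ z * W.ρ x = W.ρ x * W.ρ z
        rw [← map_mul, ← map_mul, show z * x = ⁅z, x⁆ * (x * z) by
          rw [commutatorElement_def]; group, map_mul, h1, one_mul]
      pgroup := fun x hx => by
        obtain ⟨a, ha⟩ := T.lev.pgroup _ (hRK hx)
        exact ⟨a, by rw [← map_pow]; exact hBtriv _ (by simpa using ha)⟩
      hp := T.lev.prime
      hpK := by
        rw [Ne, CharP.cast_eq_zero_iff _ 2]
        exact fun h => T.link.ne ((Nat.prime_dvd_prime_iff_eq Fact.out T.lev.prime).1 h).symm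
      hrK := Link.rK_ne_zero hc T.lev' T.le' }
  -- the invariant subspace of the moved section
  let U : Subgroup G := ⁅K'.subgroupOf G, R.subgroupOf G⁆ ⊔ N.subgroupOf G
  have hUK : U ≤ K'.subgroupOf G := sup_le (Subgroup.commutator_le_left _ _) fun x hx => hNK hx
  let X : Submodule (AlgebraicClosure (ZMod 2)) (Fin W.d → AlgebraicClosure (ZMod 2)) :=
    Submodule.span _ (W.vec '' (U : Set G))
  let H : Subgroup G := Subgroup.normalizer (R.subgroupOf G : Set G)
  have hXinv : ∀ g : H, ∀ v ∈ X, (W.ρ.comp H.subtype) g v ∈ X := fun g v hv =>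
    W.span_invariant hUK (mem_normalizer_span g.2) hv
  have hRH : R.subgroupOf G ≤ H := Subgroup.le_normalizer
  have hσH : sG ∈ H := D.normR
  let ρX := subRep (W.ρ.comp H.subtype) X hXinv
  have DX : RepData ρX (⟨sG, hσH⟩ : H) r p _ _ := (D.subgroupOf hRH hσH).sub X hXinv
  haveI : Finite (unitImage W.ρ (R.subgroupOf G)) := finite_unitImage _ _
  have hA := card_unitImage_ne_zero W.ρ D.hpK D.pgroup
  have hfix : ∀ v ∈ X, (∀ x ∈ R.subgroupOf G, W.ρ x v = v) → v = 0 := fun v hv h =>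
    W.eq_zero_of_fixed le_rfl (fun x hx => hNK hx) hA hv h
  -- the two fixed vectors
  have hcK : c ∈ K' := span_le hM'K hcU
  have hclift : (⟨c, hK'G hcK⟩ : G) ∈ U := by
    have hle : ⁅K', R⁆ ⊔ M' ≤ U.map G.subtype := by
      rw [Subgroup.map_sup, Subgroup.map_commutator, Subgroup.map_subgroupOf_eq_of_le hK'G,
        Subgroup.map_subgroupOf_eq_of_le hRG, Subgroup.map_subgroupOf_eq_of_le (hNK.trans hK'G)]
      exact sup_le_sup_left hMN _
    obtain ⟨x, hx, hxc⟩ := hle hcU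
    rwa [show (⟨c, hK'G hcK⟩ : G) = x from Subtype.ext hxc.symm]
  obtain ⟨P⟩ := (inferInstance : Nonempty (Sylow p R))
  set P1 : Subgroup G := ((P : Subgroup R).map R.subtype).subgroupOf G with hP1
  have hPR : (P : Subgroup R).map R.subtype ≤ R := Subgroup.map_subtype_le _
  have hcov : ∀ x ∈ R.subgroupOf G, ∃ u ∈ P1, W.ρ x = W.ρ u := by
    intro x hx
    obtain ⟨u, hu, b, hb, hub⟩ := Subgroup.mem_sup_of_normal_right.1
      (le_sylow_sup P (fun x hx => T.lev.pgroup x (hRK hx)) hx)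
    refine ⟨⟨u, hRG (hPR hu)⟩, hu, ?_⟩
    rw [show x = (⟨u, hRG (hPR hu)⟩ : G) * ⟨b, hKG (T.lev.lt'.le hb)⟩ from Subtype.ext hub.symm,
      map_mul, hBtriv ⟨b, hKG (T.lev.lt'.le hb)⟩ hb, mul_one]
  -- decomposition of `d` in the quotient
  set π := QuotientGroup.mk' (N.subgroupOf G) with hπ
  set V0 := (K'.subgroupOf G).map π with hV0
  haveI : V0.Normal := Subgroup.Normal.map inferInstance _ (QuotientGroup.mk'_surjective _)
  haveI : IsMulCommutative V0 := ⟨⟨by
    rintro ⟨_, a, ha, rfl⟩ ⟨_, b, hb, rfl⟩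
    refine Subtype.ext ?_
    show π a * π b = π b * π a
    rw [← commutatorElement_eq_one_iff_mul_comm, ← map_commutatorElement]
    exact (QuotientGroup.eq_one_iff _).2 (hcom.2
      (hMN (commutator_le_secFrattini 2 K' B' (Subgroup.commutator_mem_commutator ha hb))))⟩⟩
  have hV2 : IsPGroup 2 V0 := by
    rintro ⟨_, x, hx, rfl⟩
    refine ⟨1, Subtype.ext ?_⟩
    rw [SubmonoidClass.coe_pow, ← map_pow]
    refine (QuotientGroup.eq_one_iff _).2 ?_
    have h := hMN (pow_mem_secFrattini 2 B' (Subgroup.mem_subgroupOf.1 hx))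
    simpa [Subgroup.mem_subgroupOf] using h
  have hPp : IsPGroup p (P1.map π) := by
    refine IsPGroup.map ?_ π
    intro x
    obtain ⟨u, hu, hux⟩ := x.2
    obtain ⟨a, ha⟩ := P.isPGroup' ⟨u, hu⟩
    refine ⟨a, Subtype.ext (Subtype.ext ?_)⟩
    have := congrArg (fun z : (P : Subgroup R) => ((z : R) : Γ)) ha
    simp only [SubmonoidClass.coe_pow, OneMemClass.coe_one] at this ⊢
    rw [show ((x : G) : Γ) = u from hux.symm]
    exact this
  obtain ⟨n', hn', c0', hc0', hdec⟩ := CoprimeAction.commutator_sup_centralizer_aux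
    (A := P1.map π) (K := V0) (fun a _ => mem_normalizer_of_normal V0 a)
    (IsPGroup.coprime_card_of_ne p 2 T.link.ne _ _ hPp hV2)
    (Or.inr (CoprimeAction.isSolvable_of_isMulCommutative V0))
    (k := π ⟨d, hK'G hdK⟩) (Subgroup.mem_map_of_mem π hdK)
  obtain ⟨c0, hc0K, rfl⟩ := hc0'.1
  have hc0c : ∀ x ∈ R.subgroupOf G, W.ρ x (W.vec c0) = W.vec c0 := by
    intro x hx
    obtain ⟨u, hu, hxu⟩ := hcov x hx
    rw [hxu, ← W.comm_mem_iff hc0K]
    have := Subgroup.mem_centralizer_iff.1 hc0'.2 _ (Subgroup.mem_map_of_mem π hu)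
    rw [← QuotientGroup.eq_one_iff, ← QuotientGroup.mk'_apply, map_commutatorElement,
      commutatorElement_eq_one_iff_mul_comm]
    exact this
  obtain ⟨n, hn, rfl⟩ : ∃ n ∈ ⁅K'.subgroupOf G, P1⁆, π n = n' := by
    rwa [hV0, ← Subgroup.map_commutator, Subgroup.mem_map] at hn'
  have hnU : n ∈ U := Subgroup.mem_sup_left
    (Subgroup.commutator_mono (le_refl (K'.subgroupOf G))
      (show P1 ≤ R.subgroupOf G from fun x hx => hPR hx) hn)
  have hnK : n ∈ K'.subgroupOf G := hUK hnU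
  have hdn : (⟨d, hK'G hdK⟩ : G)⁻¹ * (n * c0) ∈ N.subgroupOf G := by
    rw [← map_mul] at hdec
    exact QuotientGroup.eq.1 hdec
  have hvec : W.vec ⟨d, hK'G hdK⟩ = W.vec n + W.vec c0 := by
    rw [← W.map_mul _ hnK _ hc0K]
    exact W.vec_congr hdK (Subgroup.mul_mem _ hnK hc0K) hdn
  -- `c` is orthogonal to the centralized part
  have hcc0 : β c (c0 : Γ) := by
    let S0 : Subgroup G := N.subgroupOf G ⊔ ⁅K'.subgroupOf G, R.subgroupOf G⁆
    have hall : ∀ w ∈ U, (w : Γ) ∈ K' ∧ β w c0 := by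
      intro w hw
      have hgen : ∀ y ∈ K'.subgroupOf G, ∀ g ∈ R.subgroupOf G,
          β ((⁅y, g⁆ : G) : Γ) c0 := fun y hy g hg => by
        have hgN : ⁅(g : Γ), (c0 : Γ)⁆ ∈ N := hcom.1 ((W.comm_mem_iff hc0K).2 (hc0c g hg))
        simpa [commutatorElement_def] using hβcomm g g.2 y hy c0 hc0K hgN
      let T0 : Subgroup G := Subgroup.closure
        {z | ∃ y ∈ K'.subgroupOf G, ∃ g ∈ R.subgroupOf G, z = ⁅y, g⁆}
      obtain ⟨a, ha, b, hb, hab⟩ := Subgroup.mem_sup_of_normal_right.1 hw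
      have hinv : ∀ a : G, (a : Γ) ∈ K' → β a c0 → β (a⁻¹ : G) c0 := fun a haK ha => by
        -- powers
        have hpow : ∀ i : ℕ, β ((a ^ i : G) : Γ) c0 := fun i => by
          induction i with
          | zero => simpa using (hβN 1 N.one_mem c0 hc0K).1
          | succ i ih =>
            rw [pow_succ, Subgroup.coe_mul]
            exact hβmul' _ (by simpa using K'.pow_mem haK i) _ haK _ hc0K ih ha
        obtain ⟨i, hi⟩ : ∃ i : ℕ, a⁻¹ = a ^ i := ⟨orderOf a - 1, by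
          rw [inv_eq_iff_mul_eq_one, ← pow_succ', Nat.sub_add_cancel (orderOf_pos a),
            pow_orderOf_eq_one]⟩
        rw [hi]; exact hpow i
      have haT : (a : Γ) ∈ K' ∧ β a c0 := by
        clear hab
        rw [Subgroup.commutator_def] at ha
        induction ha using Subgroup.closure_induction with
        | mem z hz =>
          obtain ⟨y, hy, g, hg, rfl⟩ := hz
          exact ⟨Subgroup.commutator_le_left (K'.subgroupOf G) _
            (Subgroup.commutator_mem_commutator hy hg), hgen y hy g hg⟩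
        | one => exact ⟨by simp, by simpa using (hβN 1 N.one_mem c0 hc0K).1⟩
        | mul x y _ _ hx hy =>
          exact ⟨K'.mul_mem hx.1 hy.1, hβmul' _ hx.1 _ hy.1 _ hc0K hx.2 hy.2⟩
        | inv x _ hx => exact ⟨K'.inv_mem hx.1, hinv x hx.1 hx.2⟩
      rw [← hab]
      exact ⟨K'.mul_mem haT.1 (hNK hb),
        hβmul' _ haT.1 _ (hNK hb) _ hc0K haT.2 (hβN _ hb _ hc0K).1⟩
    exact (hall _ hclift).2
  have hcn : ¬ β c n := fun h => hcd (by
    have h1 : β c ((n : Γ) * c0) := hβmul c hcK _ hnK _ hc0K h hcc0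
    have h2 : ((n : Γ) * c0)⁻¹ * d ∈ N := by
      have := (N.subgroupOf G).inv_mem hdn
      simpa [Subgroup.mem_subgroupOf] using this
    have h3 : β c ((n : Γ) * c0 * (((n : Γ) * c0)⁻¹ * d)) :=
      hβmul c hcK _ (K'.mul_mem hnK hc0K) _ (hNK h2) h1 (hβN _ h2 _ hcK).2
    rwa [mul_inv_cancel_left] at h3)
  have hσvec : ∀ (x : G), (x : Γ) ∈ K' → (x : Γ) * σ = σ * x →
      W.ρ sG (W.vec x) = W.vec x := fun x hx he => by
    rw [← W.conj sG x hx]
    congr 1
    refine Subtype.ext ?_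
    show σ * (x : Γ) * σ⁻¹ = x
    rw [← he, mul_inv_cancel_right]
  have hnfix : W.ρ sG (W.vec n) = W.vec n := by
    have hX1 : W.vec n ∈ X := Submodule.subset_span ⟨n, hnU, rfl⟩
    refine sub_eq_zero.1 (hfix _ (X.sub_mem (hXinv ⟨sG, hσH⟩ _ hX1) hX1) fun x hx => ?_)
    have h1 : W.ρ sG (W.vec c0) - W.vec c0 = -(W.ρ sG (W.vec n) - W.vec n) := by
      have h2 := hσvec ⟨d, hK'G hdK⟩ hdK hdσ
      rw [hvec, map_add] at h2
      rw [neg_sub, sub_eq_sub_iff_add_eq_add, add_comm, h2]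
    have h3 : ∀ x ∈ R.subgroupOf G, W.ρ x (W.ρ sG (W.vec c0)) = W.ρ sG (W.vec c0) := fun x hx => by
      have hx' : sG⁻¹ * x * sG ∈ R.subgroupOf G := CoprimeAction.conj_mem' D.normR hx
      conv_rhs => rw [← hc0c _ hx', ← Module.End.mul_apply, ← map_mul, ← mul_assoc,
        mul_inv_cancel_left]
      rw [← Module.End.mul_apply, ← map_mul]
    have h4 := congrArg Neg.neg h1
    rw [neg_neg] at h4
    rw [← h4, map_neg, map_sub, h3 x hx, hc0c x hx]
  have hbit : ∀ x i, W.vec x i = 0 ∨ W.vec x i = 1 := fun x i => by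
    obtain ⟨a, ha⟩ := W.rational x i
    rw [ha]
    fin_cases a
    · exact Or.inl (map_zero _)
    · exact Or.inr (map_one _)
  have hX : ∀ x : G, x ∈ U → W.vec x ∈ X := fun x hx => Submodule.subset_span ⟨x, hx, rfl⟩
  have hne0 : W.vec ⟨c, hK'G hcK⟩ ≠ 0 := fun h =>
    hcn (hβN c ((W.eq_zero _ hcK).1 h) _ hnK).1
  have hn0 : W.vec n ≠ 0 := fun h => hcn (hβN n ((W.eq_zero _ hnK).1 h) _ hcK).2
  have hne : W.vec ⟨c, hK'G hcK⟩ ≠ W.vec n := fun h => hcn (by
    have h1 : (⟨c, hK'G hcK⟩ : G)⁻¹ * n ∈ N.subgroupOf G := by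
      rw [← W.eq_zero _ (Subgroup.mul_mem _ (Subgroup.inv_mem _ hcK) hnK),
        W.map_mul _ (Subgroup.inv_mem _ hcK) _ hnK, W.vec_inv hcK, h, neg_add_cancel]
    have h2 : c⁻¹ * (n : Γ) ∈ N := h1
    have h3 := hβmul c hcK _ hcK _ (hNK h2) (hβself c hcK) (hβN _ h2 _ hcK).2
    rwa [mul_inv_cancel_left] at h3)
  refine DX.excluded (fun h => T.link.ne (h.trans rfl)) (fun v hv => Subtype.ext (hfix v v.2 fun x hx =>
      congrArg Subtype.val (hv ⟨x, hRH hx⟩ hx))) ?_
    (c := ⟨_, hX _ hclift⟩) (u := ⟨_, hX _ hnU⟩)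
    (Subtype.ext (hσvec _ hcK hcσ)) (Subtype.ext hnfix)
    (fun a b h => bit_independent (hbit _) (hbit _) hne0 hn0 hne a b (congrArg Subtype.val h))
    hrm ?_
  · intro x hx k hk
    have h1 : W.ρ (x : G) (W.vec ⟨c, hK'G hcK⟩) = k • W.vec ⟨c, hK'G hcK⟩ :=
      congrArg Subtype.val (LinearMap.congr_fun hk ⟨_, hX _ hclift⟩)
    rw [← W.conj _ _ hcK] at h1
    refine bit_smul (hbit _) hne0 (fun hk0 => hne0 ?_) fun i => ?_
    · rw [hk0, zero_smul, W.eq_zero _ (Subgroup.Normal.conj_mem inferInstance _ hcK _)] at h1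
      rw [W.eq_zero _ hcK]
      have := Subgroup.Normal.conj_mem hNGn _ h1 (x : G)⁻¹
      simpa [mul_assoc] using this
    · have h2 := congrFun h1 i
      rw [Pi.smul_apply, smul_eq_mul] at h2
      rw [← h2]
      exact hbit _ i
  · -- the commutator space is small
    let S : Set (Fin W.d → AlgebraicClosure (ZMod 2)) := W.vec '' (R'.subgroupOf G : Set G)
    have hmem : ∀ v, (W.ρ sG - 1) v ∈ Submodule.span (AlgebraicClosure (ZMod 2)) S := by
      intro v
      have hv : v ∈ Submodule.span (AlgebraicClosure (ZMod 2))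
          (W.vec '' (K'.subgroupOf G : Set G)) := W.span ▸ Submodule.mem_top
      induction hv using Submodule.span_induction with
      | mem v hv =>
        obtain ⟨y, hy, rfl⟩ := hv
        rw [LinearMap.sub_apply, Module.End.one_apply, ← W.vec_comm hy]
        refine Submodule.subset_span ⟨_, ?_, rfl⟩
        show ((⁅sG, y⁆ : G) : Γ) ∈ R'
        rw [← commutatorElement_inv, Subgroup.coe_inv]
        refine R'.inv_mem ?_
        simpa [commutatorElement_def] using
          Subgroup.commutator_mem_commutator (show (y : Γ) ∈ K' from hy) (Subgroup.mem_zpowers σ)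
      | zero => simp
      | add a b _ _ ha hb => rw [map_add]; exact add_mem ha hb
      | smul k a _ ha => rw [map_smul]; exact Submodule.smul_mem _ k ha
    have hrange : (LinearMap.range (ρX ⟨sG, hσH⟩ - 1)).map X.subtype ≤
        Submodule.span (AlgebraicClosure (ZMod 2)) S := by
      rintro _ ⟨_, ⟨v, rfl⟩, rfl⟩
      exact hmem v
    refine (Submodule.equivMapOfInjective X.subtype X.subtype_injective
      (LinearMap.range (ρX ⟨sG, hσH⟩ - 1))).finrank_eq.le.trans ?_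
    refine (Submodule.finrank_mono hrange).trans ?_
    obtain ⟨b, hbS, hbspan, hbli⟩ := exists_linearIndependent (AlgebraicClosure (ZMod 2)) S
    haveI : Finite S := (Set.toFinite (R'.subgroupOf G : Set G)).image _ |>.to_subtype
    haveI : Finite b := Finite.Set.subset _ hbS
    haveI := Fintype.ofFinite b
    rw [← hbspan, finrank_span_set_eq_card hbli]
    have hsum : ∀ s : Finset b, ∑ v ∈ s, (v : Fin W.d → _) ∈ S := by
      intro s
      induction s using Finset.induction_on with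
      | empty => exact ⟨1, one_mem _, by rw [W.vec_one]; simp⟩
      | insert v s hv ih =>
        obtain ⟨y, hy, hyv⟩ := hbS v.2
        obtain ⟨z, hz, hzs⟩ := ih
        exact ⟨y * z, mul_mem hy hz, by
          rw [W.map_mul _ (hR'K hy) _ (hR'K hz), hyv, hzs, Finset.sum_insert hv]⟩
    have hinj : Function.Injective fun s : Finset b => (⟨_, hsum s⟩ : S) := by
      intro s t hst
      have h1 := congrArg Subtype.val hst
      simp only at h1
      have h2 : ∑ v : b, ((if v ∈ s then (1 : AlgebraicClosure (ZMod 2)) else 0) -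
          (if v ∈ t then 1 else 0)) • (v : Fin W.d → AlgebraicClosure (ZMod 2)) = 0 := by
        simp only [sub_smul, ite_smul, one_smul, zero_smul, Finset.sum_sub_distrib,
          Finset.sum_ite_mem, Finset.univ_inter]
        rw [h1, sub_self]
      ext v
      have h3 := Fintype.linearIndependent_iff.1 hbli _ h2 v
      by_cases h4 : v ∈ s <;> by_cases h5 : v ∈ t <;> simp_all
    have h1 : 2 ^ Fintype.card b ≤ Nat.card S := by
      rw [← Fintype.card_finset, ← Nat.card_eq_fintype_card]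
      exact Nat.card_le_card_of_injective _ hinj
    have h2 : Nat.card S ≤ 2 ^ (2 * m) := by
      rw [← hcard, Subgroup.relIndex, Subgroup.index_eq_card]
      have hwd : ∀ a b : R', (QuotientGroup.mk a : R' ⧸ (R' ⊓ N).subgroupOf R') =
          QuotientGroup.mk b → W.vec ⟨a, hK'G (hR'K a.2)⟩ = W.vec ⟨b, hK'G (hR'K b.2)⟩ :=
        fun a b h => W.vec_congr (hR'K a.2) (hR'K b.2) (QuotientGroup.eq.1 h).2
      have hs : Function.Surjective fun q : R' ⧸ (R' ⊓ N).subgroupOf R' =>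
          (⟨W.vec ⟨(q.out : Γ), hK'G (hR'K q.out.2)⟩, ⟨_, q.out.2, rfl⟩⟩ : S) := by
        rintro ⟨_, x, hx, rfl⟩
        exact ⟨QuotientGroup.mk ⟨x, hx⟩, Subtype.ext (hwd _ _ (QuotientGroup.out_eq' _))⟩
      exact Nat.card_le_card_of_surjective _ hs
    have h3 := h1.trans h2
    rw [Set.toFinset_card]
    exact (Nat.pow_le_pow_iff_right (by norm_num)).1 h3

/-- At a nonabelian level a fixed element of the moved section moves a fixed element below. -/
theorem Triple.moves_of_nonabelian (T : Triple L σ r p K B p' K' B' p'' K'' B'')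
    (hnab : ¬ ⁅K', K'⁆ ≤ B') {c : Γ}
    (hcU : c ∈ ⁅K', ⁅K, Subgroup.zpowers σ⁆⁆ ⊔ secFrattini p' K' B') (hcσ : c * σ = σ * c)
    (hcM : c ∉ secFrattini p' K' B') :
    Moves σ (⁅K'', ⁅K', Subgroup.zpowers σ⁆⁆ ⊔ secFrattini p'' K'' B'')
      (secFrattini p'' K'' B'') c := by
  classical
  by_contra hnm
  haveI := T.lev.normalK
  haveI := T.lev.normalB
  haveI := T.lev'.normalK
  haveI := T.lev'.normalB
  haveI := T.lev''.normalK
  haveI := T.lev''.normalB
  haveI := Fact.mk T.lev''.prime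
  haveI := Fact.mk T.lev'.prime
  have hc := T.ctx
  obtain ⟨W⟩ := T.lev''.exists_secRep
  set M' := secFrattini p' K' B' with hM'
  set R' := ⁅K', Subgroup.zpowers σ⁆ with hR'
  set U'' := ⁅K'', R'⁆ ⊔ secFrattini p'' K'' B'' with hU''
  have hM'K : M' ≤ K' := secFrattini_le T.lev'.lt'.le
  have hR'K : R' ≤ K' := Subgroup.commutator_le_left K' _
  have hU''K : U'' ≤ K'' := span_le (secFrattini_le T.lev''.lt'.le)
  have hσU'' : σ ∈ Subgroup.normalizer (U'' : Set Γ) :=
    mem_normalizer_span (mem_normalizer_commutator_zpowers rfl)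
  have hcK : c ∈ K' := span_le hM'K hcU
  have hBone : ∀ b ∈ B', W.ρ b = 1 := fun b hb =>
    (T.link'.rho_eq_one_iff W (T.lev'.lt'.le hb)).2 hb
  have hkeep : ∀ a b : Γ, ⁅a, b⁆ ∈ B' → Commute (W.ρ a) (W.ρ b) := fun a b h => by
    show W.ρ a * W.ρ b = W.ρ b * W.ρ a
    rw [← map_mul, ← map_mul, show a * b = ⁅a, b⁆ * (b * a) by rw [commutatorElement_def]; group,
      map_mul, hBone _ h, one_mul]
  have hcentral : ∀ x ∈ K', ∀ m ∈ M', Commute (W.ρ x) (W.ρ m) := fun x hx m hm =>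
    (hkeep m x (T.lev'.central m hm x hx)).symm
  haveI := finite_unitImage W.ρ M'
  haveI : IsMulCommutative (unitImage W.ρ M') :=
    isMulCommutative_unitImage W.ρ fun x hx y hy => hcentral x (hM'K hx) y hy
  have hA := T.link'.card_unitImage T.lev' W hM'K
  -- `c` is not central
  obtain ⟨y, hy, hcy⟩ : ∃ y ∈ K', ⁅c, y⁆ ∉ B' := by
    by_contra! hall
    set X := K' ⊓ secCentralizer K' B'
    have hMX : M' ≤ X := fun m hm => ⟨hM'K hm, mem_secCentralizer.2 (T.lev'.central m hm)⟩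
    rcases T.lev'.irred X inferInstance hMX inf_le_left with h | h
    · exact hcM (h.le ⟨hcK, mem_secCentralizer.2 hall⟩)
    · exact hnab (Subgroup.commutator_le.2 fun a ha b hb =>
        mem_secCentralizer.1 (h.ge ha).2 b hb)
  have hcyM : ⁅c, y⁆ ∈ M' :=
    commutator_le_secFrattini p' K' B' (Subgroup.commutator_mem_commutator hcK hy)
  obtain ⟨l, hl0, hlz⟩ : ∃ l : unitImage W.ρ M' →* (AlgebraicClosure (ZMod p''))ˣ,
      blk (unitImage W.ρ M') l ≠ 0 ∧ l ⟨_, uMem W.ρ hcyM⟩ ≠ 1 := by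
    by_contra! h
    obtain ⟨hf, hsum⟩ := exists_sum_blk (K := AlgebraicClosure (ZMod p'')) _ hA
    refine hcy ((T.link'.rho_eq_one_iff W (hM'K hcyM)).1 ?_)
    rw [← mul_one (W.ρ ⁅c, y⁆), ← hsum, Finset.mul_sum]
    refine Finset.sum_congr rfl fun l _ => ?_
    by_cases hl : blk (unitImage W.ρ M') l = 0
    · rw [hl, mul_zero]
    · rw [rho_mul_blk_self hcyM l, h l hl, Units.val_one, one_smul]
  set e := blk (unitImage W.ρ M') l with he
  set π := orbitSum W.ρ σ r with hπ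
  have hKe : ∀ g ∈ K, Commute (W.ρ g) e := fun g hg =>
    commute_blk_of_commute (fun m hm => hkeep g m (T.link.centralizes g hg m hm)) l
  have hK'e : ∀ g ∈ K', Commute (W.ρ g) e := fun g hg =>
    commute_blk_of_commute (fun m hm => hcentral g hg m hm) l
  have hS : ∀ x ∈ R', ∀ v, W.ρ x v - v ∈ Submodule.span (AlgebraicClosure (ZMod p''))
      (W.vec '' (U'' : Set Γ)) := fun x hx v =>
    W.sub_mem_span (le_sup_left : ⁅K'', R'⁆ ≤ U'') hx v
  have hfixπ : ∀ x ∈ R', W.ρ c * (π * (W.ρ x * e - e)) = π * (W.ρ x * e - e) := fun x hx =>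
    LinearMap.ext fun v => W.fixes_orbitSum hc hU''K T.le'' le_sup_right hσU'' hnm (hS x hx (e v))
  have hσA : W.ρ.toHomUnits σ ∈ Subgroup.normalizer
      (unitImage W.ρ M' : Set (Module.End (AlgebraicClosure (ZMod p'')) _)ˣ) :=
    mem_normalizer_unitImage W.ρ (mem_normalizer_of_normal M' σ)
  have hrK : (r : AlgebraicClosure (ZMod p'')) ≠ 0 := Link.rK_ne_zero hc T.lev'' T.le''
  -- moved blocks
  by_cases hσl : Commute (W.ρ σ) e
  swap
  · have hm : twist _ hσA l ≠ l := fun h => hσl (commute_of_twist_eq hσA h)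
    obtain ⟨y1, hy1, hly⟩ : ∃ y1, ∃ (hy1 : y1 ∈ M'), l ⟨_, uMem W.ρ hy1⟩ ≠
        l ⟨_, uMem W.ρ (Subgroup.Normal.conj_mem inferInstance y1 hy1 σ⁻¹)⟩ := by
      by_contra! h
      refine hm (MonoidHom.ext ?_)
      rintro ⟨_, y1, hy1, rfl⟩
      rw [twist_apply _ _ l _ ⟨_, uMem W.ρ (Subgroup.Normal.conj_mem inferInstance y1 hy1 σ⁻¹)⟩
        (by simp [map_mul, map_inv])]
      exact (h y1 hy1).symm
    have hxM : ⁅y1, σ⁻¹⁆ ∈ M' := by
      rw [show ⁅y1, σ⁻¹⁆ = y1 * (σ⁻¹ * y1⁻¹ * σ⁻¹⁻¹) by rw [commutatorElement_def]; group]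
      exact M'.mul_mem hy1 (Subgroup.Normal.conj_mem inferInstance _ (M'.inv_mem hy1) σ⁻¹)
    have hxR : ⁅y1, σ⁻¹⁆ ∈ R' := Subgroup.commutator_mem_commutator (hM'K hy1)
      (inv_mem (Subgroup.mem_zpowers σ))
    set k : AlgebraicClosure (ZMod p'') := (l ⟨_, uMem W.ρ hxM⟩).val with hk
    have hk1 : k - 1 ≠ 0 := sub_ne_zero.2 fun h => by
      refine hly ?_
      have e1 : (⟨_, uMem W.ρ hxM⟩ : unitImage W.ρ M') = ⟨_, uMem W.ρ hy1⟩ *
          (⟨_, uMem W.ρ (Subgroup.Normal.conj_mem inferInstance y1 hy1 σ⁻¹)⟩ :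
            unitImage W.ρ M')⁻¹ := by
        refine Subtype.ext ?_
        simp [commutatorElement_def, map_mul, map_inv, mul_assoc]
      have h2 : l ⟨_, uMem W.ρ hxM⟩ = 1 := Units.ext h
      rwa [e1, map_mul, map_inv, mul_inv_eq_one] at h2
    have h1 : W.ρ c * (π * e) = π * e := by
      have h := hfixπ _ hxR
      rw [rho_mul_blk_self hxM l, show k • e - e = (k - 1) • e from
          LinearMap.ext fun v => by simp [sub_smul],
        mul_smul_comm, mul_smul_comm] at h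
      exact smul_right_injective _ hk1 h
    have hblock : e * (π * e) = e := by
      have h2 := blk_mul_eigProj_mul_blk hA hc.prime hc.pow_eq hσA hm 1
      simp only [eigProj, inv_one, one_pow, one_smul, smul_mul_assoc, mul_smul_comm] at h2
      exact smul_right_injective _ (inv_ne_zero hrK) h2
    have hce : W.ρ c * e = e := by
      have h2 := congrArg (e * ·) h1
      simp only [← mul_assoc] at h2
      rwa [← (hK'e c hcK).eq, mul_assoc, mul_assoc, mul_assoc, hblock] at h2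
    refine hlz (Units.ext ?_)
    have h3 : W.ρ ⁅c, y⁆ * e = e := by
      have hcinv : W.ρ c⁻¹ * e = e := by
        conv_lhs => rw [← hce, ← mul_assoc, rho_inv_mul, one_mul]
      rw [commutatorElement_def, map_mul, map_mul, map_mul, mul_assoc,
        (hK'e y⁻¹ (K'.inv_mem hy)).eq, ← mul_assoc, mul_assoc (W.ρ c * W.ρ y), hcinv, mul_assoc,
        mul_assoc, (hK'e y⁻¹ (K'.inv_mem hy)).symm.eq, ← mul_assoc (W.ρ y), rho_mul_inv, one_mul,
        hce]
    rw [rho_mul_blk_self hcyM l] at h3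
    have h4 : ((l ⟨_, uMem W.ρ hcyM⟩ : (AlgebraicClosure (ZMod p''))ˣ).val - 1) • e = 0 := by
      refine LinearMap.ext fun v => ?_
      simp only [LinearMap.smul_apply, LinearMap.zero_apply, sub_smul, one_smul, sub_eq_zero]
      exact LinearMap.congr_fun h3 v
    exact sub_eq_zero.1 ((smul_eq_zero.1 h4).resolve_right hl0)
  -- fixed block
  let β : Γ → Γ → Prop := fun a b => W.ρ ⁅a, b⁆ * e = e
  have hKG : K ≤ commStab W.ρ e := hKe
  have hK'G : K' ≤ commStab W.ρ e := hK'e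
  have hσG : σ ∈ commStab W.ρ e := hσl
  have hcomM : ∀ {a b}, a ∈ K' → b ∈ K' → ⁅a, b⁆ ∈ M' := fun ha hb =>
    commutator_le_secFrattini p' K' B' (Subgroup.commutator_mem_commutator ha hb)
  have hβmul : ∀ a ∈ K', ∀ b ∈ K', ∀ d ∈ K', β a b → β a d → β a (b * d) :=
    fun a ha b hb d hd h1 h2 => by
    show W.ρ ⁅a, b * d⁆ * e = e
    rw [show ⁅a, b * d⁆ = ⁅a, b⁆ * (b * ⁅a, d⁆ * b⁻¹) by simp [commutatorElement_def, mul_assoc],
      map_mul, map_mul, map_mul, (hcentral b hb _ (hcomM ha hd)).eq, mul_assoc (W.ρ ⁅a, d⁆),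
      rho_mul_inv, mul_one, mul_assoc, h2, h1]
  have hβinv : ∀ a b, β a b → β b a := fun a b h => by
    show W.ρ ⁅b, a⁆ * e = e
    rw [← commutatorElement_inv]
    conv_lhs => rw [← (show W.ρ ⁅a, b⁆ * e = e from h), ← mul_assoc, rho_inv_mul, one_mul]
  have hβmul' : ∀ a ∈ K', ∀ b ∈ K', ∀ d ∈ K', β a d → β b d → β (a * b) d :=
    fun a ha b hb d hd h1 h2 => hβinv _ _ (hβmul d hd a ha b hb (hβinv _ _ h1) (hβinv _ _ h2))
  have hβinv' : ∀ a ∈ K', ∀ b ∈ K', β a b → β a b⁻¹ := by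
    intro a ha b hb h
    have hpow : ∀ i : ℕ, β a (b ^ i) := fun i => by
      induction i with
      | zero => show W.ρ ⁅a, b ^ 0⁆ * e = e; simp
      | succ i ih => rw [pow_succ]; exact hβmul a ha _ (K'.pow_mem hb i) _ hb ih h
    obtain ⟨i, hi⟩ : ∃ i : ℕ, b⁻¹ = b ^ i := ⟨orderOf b - 1, by
      rw [inv_eq_iff_mul_eq_one, ← pow_succ', Nat.sub_add_cancel (orderOf_pos b),
        pow_orderOf_eq_one]⟩
    rw [hi]; exact hpow i
  have hβM : ∀ m ∈ M', ∀ b ∈ K', β m b ∧ β b m := fun m hm b hb => by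
    have h : β m b := by
      show W.ρ ⁅m, b⁆ * e = e
      rw [hBone _ (T.lev'.central m hm b hb), one_mul]
    exact ⟨h, hβinv _ _ h⟩
  have hβself : ∀ a ∈ K', β a a := fun a _ => by
    show W.ρ ⁅a, a⁆ * e = e
    simp
  have hβconj : ∀ g ∈ commStab W.ρ e, ∀ a b, β a b → β (g * a * g⁻¹) (g * b * g⁻¹) :=
    fun g hg a b h => by
    show W.ρ ⁅g * a * g⁻¹, g * b * g⁻¹⁆ * e = e
    rw [show ⁅g * a * g⁻¹, g * b * g⁻¹⁆ = g * ⁅a, b⁆ * g⁻¹ by simp [commutatorElement_def, mul_assoc],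
      map_mul, map_mul, mul_assoc, ((commStab W.ρ e).inv_mem hg : Commute (W.ρ g⁻¹) e).eq,
      ← mul_assoc, mul_assoc (W.ρ g), h, (show Commute (W.ρ g) e from hg).eq, mul_assoc,
      rho_mul_inv, mul_one]
  -- the radical
  let N : Subgroup Γ :=
    { carrier := {a | a ∈ K' ∧ ∀ b ∈ K', β a b}
      one_mem' := ⟨one_mem _, fun b hb => (hβM 1 (one_mem _) b hb).1⟩
      mul_mem' := fun {a b} ha hb => ⟨K'.mul_mem ha.1 hb.1, fun d hd =>
        hβmul' a ha.1 b hb.1 d hd (ha.2 d hd) (hb.2 d hd)⟩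
      inv_mem' := fun {a} ha => ⟨K'.inv_mem ha.1, fun d hd =>
        hβinv _ _ (hβinv' d hd a ha.1 (hβinv _ _ (ha.2 d hd)))⟩ }
  have hMN : M' ≤ N := fun m hm => ⟨hM'K hm, fun b hb => (hβM m hm b hb).1⟩
  have hNn : ∀ g ∈ commStab W.ρ e, g ∈ Subgroup.normalizer (N : Set Γ) := fun g hg =>
    CoprimeAction.mem_normalizer_of_conj_mem fun a ha =>
      ⟨Subgroup.Normal.conj_mem inferInstance a ha.1 g, fun b hb => by
        have h := hβconj g hg a (g⁻¹ * b * g) (ha.2 _
          (by simpa using Subgroup.Normal.conj_mem (inferInstance : K'.Normal) b hb g⁻¹))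
        rwa [show g * (g⁻¹ * b * g) * g⁻¹ = b by group] at h⟩
  have hβcomm : ∀ g ∈ commStab W.ρ e, ∀ y0 ∈ K', ∀ d ∈ K', ⁅g, d⁆ ∈ N → β ⁅y0, g⁆ d := by
    intro g hg y0 hy0 d hd hgd
    -- compare `y0` and its conjugate against `d`
    have hy' : g * y0⁻¹ * g⁻¹ ∈ K' := Subgroup.Normal.conj_mem inferInstance _ (K'.inv_mem hy0) g
    show W.ρ ⁅⁅y0, g⁆, d⁆ * e = e
    rw [show ⁅y0, g⁆ = y0 * (g * y0⁻¹ * g⁻¹) by rw [commutatorElement_def]; group]
    have hd' : g * d * g⁻¹ = ⁅g, d⁆ * d := by rw [commutatorElement_def, inv_mul_cancel_right]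
    -- the value on the conjugate is the value on `y0⁻¹`
    have h2 : W.ρ ⁅g * y0⁻¹ * g⁻¹, d⁆ * e = W.ρ ⁅y0⁻¹, d⁆ * e := by
      have hconj : W.ρ ⁅g * y0⁻¹ * g⁻¹, g * d * g⁻¹⁆ * e = W.ρ ⁅y0⁻¹, d⁆ * e := by
        have hm : ⁅y0⁻¹, d⁆ ∈ M' := hcomM (K'.inv_mem hy0) hd
        rw [show ⁅g * y0⁻¹ * g⁻¹, g * d * g⁻¹⁆ = g * ⁅y0⁻¹, d⁆ * g⁻¹ by
          simp [commutatorElement_def, mul_assoc], map_mul, map_mul, mul_assoc,
          ((commStab W.ρ e).inv_mem hg : Commute (W.ρ g⁻¹) e).eq, ← mul_assoc, mul_assoc (W.ρ g),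
          rho_mul_blk_self hm l, mul_smul_comm, smul_mul_assoc,
          (show Commute (W.ρ g) e from hg).eq, mul_assoc, rho_mul_inv, mul_one]
      rw [← hconj, hd', show ⁅g * y0⁻¹ * g⁻¹, ⁅g, d⁆ * d⁆ = ⁅g * y0⁻¹ * g⁻¹, ⁅g, d⁆⁆ *
          (⁅g, d⁆ * ⁅g * y0⁻¹ * g⁻¹, d⁆ * ⁅g, d⁆⁻¹) by simp [commutatorElement_def, mul_assoc],
        map_mul, map_mul, map_mul, (hcentral _ hgd.1 _ (hcomM hy' hd)).eq,
        mul_assoc (W.ρ ⁅g * y0⁻¹ * g⁻¹, d⁆), rho_mul_inv, mul_one,
        (hcentral _ (hM'K (hcomM hy' hgd.1)) _ (hcomM hy' hd)).eq,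
        mul_assoc (W.ρ ⁅g * y0⁻¹ * g⁻¹, d⁆),
        show W.ρ ⁅g * y0⁻¹ * g⁻¹, ⁅g, d⁆⁆ * e = e from hβinv _ _ (hgd.2 _ hy')]
    rw [show ⁅y0 * (g * y0⁻¹ * g⁻¹), d⁆ = y0 * ⁅g * y0⁻¹ * g⁻¹, d⁆ * y0⁻¹ * ⁅y0, d⁆ by
        simp [commutatorElement_def, mul_assoc],
      map_mul, map_mul, map_mul, (hcentral y0 hy0 _ (hcomM hy' hd)).eq,
      mul_assoc (W.ρ ⁅g * y0⁻¹ * g⁻¹, d⁆), rho_mul_inv, mul_one,
      (hcentral _ (hM'K (hcomM hy' hd)) _ (hcomM hy0 hd)).eq, mul_assoc (W.ρ ⁅y0, d⁆), h2,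
      ← mul_assoc,
      ← map_mul]
    have h3 : y0 * ⁅y0⁻¹, d⁆ * y0⁻¹ * ⁅y0, d⁆ = 1 := by simp [commutatorElement_def, mul_assoc]
    have h4 : W.ρ (⁅y0, d⁆ * ⁅y0⁻¹, d⁆) = 1 := by
      rw [map_mul, (hcentral _ (hM'K (hcomM hy0 hd)) _ (hcomM (K'.inv_mem hy0) hd)).eq]
      have h5 := congrArg W.ρ h3
      simp only [map_mul, map_one, (hcentral y0 hy0 _ (hcomM (K'.inv_mem hy0) hd)).eq] at h5
      rwa [mul_assoc (W.ρ ⁅y0⁻¹, d⁆), rho_mul_inv, mul_one] at h5
    rw [h4, one_mul]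
  -- `c` is orthogonal to `R'`
  have hfixorth : ∀ c1 ∈ K', c1 * σ = σ * c1 → ∀ x ∈ R', β c1 x := by
    intro c1 hc1 hc1σ x hx
    have hle : R' ≤ N ⊔ R' := le_sup_right
    rw [hR', Subgroup.commutator_def] at hx
    have : x ∈ K' ∧ β c1 x := by
      induction hx using Subgroup.closure_induction with
      | mem z hz =>
        obtain ⟨y0, hy0, a, ha, rfl⟩ := hz
        have haG : a ∈ commStab W.ρ e := Subgroup.zpowers_le.2 hσG ha
        refine ⟨hR'K (Subgroup.commutator_mem_commutator hy0 ha), hβinv _ _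
          (hβcomm a haG y0 hy0 c1 hc1 ?_)⟩
        have hfix : a * c1 = c1 * a := by
          obtain ⟨j, rfl⟩ := Subgroup.mem_zpowers_iff.1 ha
          exact ((show Commute c1 σ from hc1σ).zpow_right j).eq.symm
        rw [commutatorElement_eq_one_iff_mul_comm.2 hfix]
        exact one_mem _
      | one => exact ⟨one_mem _, (hβM 1 (one_mem _) c1 hc1).2⟩
      | mul a b _ _ ha hb =>
        exact ⟨K'.mul_mem ha.1 hb.1, hβmul c1 hc1 a ha.1 b hb.1 ha.2 hb.2⟩
      | inv a _ ha => exact ⟨K'.inv_mem ha.1, hβinv' c1 hc1 a ha.1 ha.2⟩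
    exact this.2
  -- a fixed partner
  obtain ⟨d, hd, hdσ, hcd⟩ : ∃ d ∈ K', d * σ = σ * d ∧ ¬ β c d := by
    obtain ⟨u, hu, d, hd, hdσ, rfl⟩ := hc.decomp (mem_normalizer_of_normal K' σ) T.le' hy
    refine ⟨d, hd, hdσ, fun h => hlz (Units.ext ?_)⟩
    have h1 : β c (u * d) := hβmul c hcK u (hR'K hu) d hd (hfixorth c hcK hcσ u hu) h
    have h2 : ((l ⟨_, uMem W.ρ hcyM⟩).val - 1) • e = 0 := by
      refine LinearMap.ext fun v => ?_
      simp only [LinearMap.smul_apply, LinearMap.zero_apply, sub_smul, one_smul, sub_eq_zero]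
      rw [← LinearMap.smul_apply, ← rho_mul_blk_self hcyM l]
      exact LinearMap.congr_fun h1 v
    exact sub_eq_zero.1 ((smul_eq_zero.1 h2).resolve_right hl0)
  -- `π (ρ x - 1)` vanishes on the block
  have hvanish : ∀ x ∈ R', π * (W.ρ x * e - e) = 0 := by
    intro x hx
    set F := π * (W.ρ x * e - e) with hF
    have hπc : ∀ g, g * σ = σ * g → Commute (W.ρ g) π := fun g hg => orbitSum_commute W.ρ r hg
    have hFcomm : ∀ c1 ∈ K', c1 * σ = σ * c1 → Commute (W.ρ c1) F := by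
      intro c1 hc1 hc1σ
      refine (hπc c1 hc1σ).mul_right ?_
      refine Commute.sub_right ?_ (hK'e c1 hc1)
      -- `ρ c1` and `ρ x` commute on the block
      show W.ρ c1 * (W.ρ x * e) = W.ρ x * e * W.ρ c1
      rw [mul_assoc (W.ρ x), ← (hK'e c1 hc1).eq, ← mul_assoc, ← mul_assoc, ← map_mul, ← map_mul,
        show c1 * x = ⁅c1, x⁆ * (x * c1) by rw [commutatorElement_def]; group, map_mul,
        (hcentral (x * c1) (K'.mul_mem (hR'K hx) hc1) _ (hcomM hc1 (hR'K hx))).symm.eq, mul_assoc,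
        show W.ρ ⁅c1, x⁆ * e = e from hfixorth c1 hc1 hc1σ x hx]
    have h1 : W.ρ c * F = F := hfixπ x hx
    have hFe : F * e = F := by
      have hee : e * e = e := by rw [he, blk_mul_blk _ hA, if_pos rfl]
      simp only [hF, mul_sub, sub_mul, mul_assoc, hee]
    set k : AlgebraicClosure (ZMod p'') := (l ⟨_, uMem W.ρ (hcomM hd hcK)⟩).val with hk
    have hk1 : k ≠ 1 := fun h => hcd (hβinv _ _ (by
      show W.ρ ⁅d, c⁆ * e = e
      rw [rho_mul_blk_self (hcomM hd hcK) l, ← hk, h, one_smul]))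
    have h2 : W.ρ d * F = F * W.ρ d := (hFcomm d hd hdσ).eq
    have h3 : F * W.ρ c = F := by rw [← (hFcomm c hcK hcσ).eq, h1]
    have h4 : k • (F * W.ρ d) = F * W.ρ d := by
      calc k • (F * W.ρ d) = k • (F * e * W.ρ c * W.ρ d) := by rw [hFe, h3]
        _ = F * (W.ρ ⁅d, c⁆ * e) * W.ρ c * W.ρ d := by
          rw [rho_mul_blk_self (hcomM hd hcK) l, mul_smul_comm, smul_mul_assoc, smul_mul_assoc]
        _ = F * W.ρ ⁅d, c⁆ * (W.ρ c * W.ρ d) * e := by
          rw [← mul_assoc, mul_assoc (F * W.ρ ⁅d, c⁆), mul_assoc (F * W.ρ ⁅d, c⁆), mul_assoc e,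
            ← map_mul, ← (hK'e _ (K'.mul_mem hcK hd)).eq, ← mul_assoc]
        _ = F * (W.ρ d * W.ρ c) * e := by
          rw [mul_assoc F, ← map_mul, ← map_mul, ← map_mul,
            show ⁅d, c⁆ * (c * d) = d * c by rw [commutatorElement_def]; group]
        _ = W.ρ d * (F * W.ρ c) * e := by simp only [← mul_assoc]; rw [← h2]
        _ = _ := by rw [h3, mul_assoc, hFe, h2]
    have h5 : F * W.ρ d = 0 := by
      have h6 : (k - 1) • (F * W.ρ d) = 0 := by
        refine LinearMap.ext fun v => ?_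
        simp only [LinearMap.smul_apply, LinearMap.zero_apply, sub_smul, one_smul, sub_eq_zero]
        exact LinearMap.congr_fun h4 v
      exact (smul_eq_zero.1 h6).resolve_left (sub_ne_zero.2 hk1)
    have h6 := congrArg (· * W.ρ d⁻¹) h5
    simp only [mul_assoc, rho_mul_inv, mul_one, zero_mul] at h6
    exact h6
  -- the representation on the block
  have hR'G : R' ≤ commStab W.ρ e := hR'K.trans hK'G
  have D' := (T.link'.repData hc T.lev' T.lev'' T.le' T.le'' W).restrictTo (f := e) hR'G hσG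
  haveI : Nontrivial (LinearMap.range e) := Submodule.nontrivial_iff_ne_bot.2
    fun h => hl0 (LinearMap.range_eq_bot.1 h)
  have hee : e * e = e := by rw [he, blk_mul_blk _ hA, if_pos rfl]
  have hefix : ∀ v : LinearMap.range e, e (v : Fin W.d → _) = v := by
    rintro ⟨_, w, rfl⟩
    exact LinearMap.congr_fun hee w
  have hπ' : ∀ x ∈ R', ∀ v : LinearMap.range e,
      orbitSum W.ρ σ r (W.ρ x v - v) = 0 := fun x hx v => by
    have h := LinearMap.congr_fun (hvanish x hx) (v : Fin W.d → _)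
    rwa [Module.End.mul_apply, LinearMap.sub_apply, Module.End.mul_apply, hefix,
      LinearMap.zero_apply] at h
  have hscal : ∀ a ∈ K', ∀ b ∈ K', ∀ v : LinearMap.range e,
      W.ρ ⁅a, b⁆ (v : Fin W.d → _) =
        if β a b then (v : Fin W.d → _) else W.ρ ⁅a, b⁆ (v : Fin W.d → _) := fun a ha b hb v => by
    split_ifs with h
    · conv_lhs => rw [← hefix v, ← Module.End.mul_apply, h, hefix]
    · rfl
  have hcomm_iff : ∀ (a : commStab W.ρ e) (b : commStab W.ρ e), (a : Γ) ∈ K' → (b : Γ) ∈ K' →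
      (Commute (restrictTo W.ρ e a) (restrictTo W.ρ e b) ↔ β a b) := by
    intro a b ha hb
    constructor
    · intro h
      show W.ρ ⁅(a : Γ), (b : Γ)⁆ * e = e
      refine LinearMap.ext fun w => ?_
      have h1 : restrictTo W.ρ e ⁅a, b⁆ = 1 := by
        rw [commutatorElement_def, map_mul, map_mul, map_mul, h.eq, mul_assoc (restrictTo W.ρ e b),
          rho_mul_inv, mul_one, rho_mul_inv]
      have h2 := congrArg Subtype.val (LinearMap.congr_fun h1 ⟨e w, w, rfl⟩)
      simpa [restrictTo_apply, commutatorElement_def] using h2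
    · intro h
      refine LinearMap.ext fun v => Subtype.ext ?_
      simp only [Module.End.mul_apply, restrictTo_apply]
      have h1 : W.ρ ((a : Γ) * b) v = W.ρ ((b : Γ) * a) v := by
        rw [show (a : Γ) * b = ⁅(a : Γ), (b : Γ)⁆ * (b * a) by rw [commutatorElement_def]; group,
          map_mul, Module.End.mul_apply]
        have := hscal a ha b hb (restrictTo W.ρ e (b * a) v)
        rw [if_pos h, restrictTo_apply, Subgroup.coe_mul] at this
        exact this
      simpa using h1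
  by_cases hab : ∀ a ∈ R', ∀ b ∈ R', β a b
  · -- commutative image: everything is centralized
    set G' := commStab W.ρ e
    haveI := finite_unitImage (restrictTo W.ρ e) (R'.subgroupOf G')
    haveI : IsMulCommutative (unitImage (restrictTo W.ρ e) (R'.subgroupOf G')) :=
      isMulCommutative_unitImage _ fun a ha b hb =>
        (hcomm_iff a b (hR'K ha) (hR'K hb)).2 (hab a ha b hb)
    have hA1 := card_unitImage_ne_zero (restrictTo W.ρ e) D'.hpK D'.pgroup
    obtain ⟨hf, hsum⟩ := exists_sum_blk (K := AlgebraicClosure (ZMod p''))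
      (unitImage (restrictTo W.ρ e) (R'.subgroupOf G')) hA1
    have hσ1 : (restrictTo W.ρ e).toHomUnits ⟨σ, hσG⟩ ∈ Subgroup.normalizer
        (unitImage (restrictTo W.ρ e) (R'.subgroupOf G') : Set _) :=
      mem_normalizer_unitImage _ D'.normR
    have hR'one : ∀ x (hx : x ∈ R'), restrictTo W.ρ e ⟨x, hR'G hx⟩ = 1 := by
      intro x hx
      rw [← mul_one (restrictTo W.ρ e _), ← hsum, Finset.mul_sum]
      refine Finset.sum_congr rfl fun m _ => ?_
      by_cases hm0 : blk (unitImage (restrictTo W.ρ e) (R'.subgroupOf G')) m = 0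
      · rw [hm0, mul_zero]
      by_cases hfx : twist _ hσ1 m = m
      · exact rho_mul_blk_of_mem_commutator D'.normR (commute_of_twist_eq hσ1 hfx) (D'.gen hx)
      · exfalso
        obtain ⟨x0, hx0, hne⟩ : ∃ (x0 : G') (hx0 : x0 ∈ R'.subgroupOf G'),
            m ⟨_, uMem (restrictTo W.ρ e) hx0⟩ ≠ 1 := by
          by_contra! h
          refine hfx (MonoidHom.ext ?_)
          rintro ⟨_, x0, hx0, rfl⟩
          rw [twist_apply _ _ m _ ⟨_, uMem (restrictTo W.ρ e)
              (CoprimeAction.conj_mem (inv_mem D'.normR) hx0)⟩ (by simp [map_mul, map_inv])]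
          rw [h _ (CoprimeAction.conj_mem (inv_mem D'.normR) hx0), h x0 hx0]
        have hproj := blk_mul_eigProj_mul_blk hA1 hc.prime D'.pow_eq hσ1 hfx 1
        have hz : eigProj r (1 : AlgebraicClosure (ZMod p'')) (restrictTo W.ρ e ⟨σ, hσG⟩) *
            ((restrictTo W.ρ e x0 - 1) * blk _ m) = 0 := by
          refine LinearMap.ext fun v => Subtype.ext ?_
          rw [Module.End.mul_apply, restrictTo_eigProj, LinearMap.zero_apply, Submodule.coe_zero]
          simp only [eigProj, inv_one, one_pow, one_smul, LinearMap.smul_apply]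
          rw [Module.End.mul_apply, LinearMap.sub_apply, Submodule.coe_sub, restrictTo_apply,
            Module.End.one_apply]
          exact smul_eq_zero_of_right _ (hπ' _ hx0 _)
        rw [show (restrictTo W.ρ e x0 - 1) * blk _ m =
            ((m ⟨_, uMem (restrictTo W.ρ e) hx0⟩ : (AlgebraicClosure (ZMod p''))ˣ).val - 1) •
              blk (unitImage (restrictTo W.ρ e) (R'.subgroupOf G')) m from
            LinearMap.ext fun v => by
              rw [Module.End.mul_apply, LinearMap.sub_apply, Module.End.one_apply,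
                ← Module.End.mul_apply, rho_mul_blk_self hx0 m, LinearMap.smul_apply,
                LinearMap.smul_apply, sub_smul, one_smul],
          mul_smul_comm] at hz
        rw [(smul_eq_zero.1 hz).resolve_left (sub_ne_zero.2 fun h => hne (Units.ext h)),
          mul_zero] at hproj
        exact hm0 ((smul_eq_zero.1 hproj.symm).resolve_left (inv_ne_zero hrK))
    have hR'N : R' ≤ N := fun x hx => ⟨hR'K hx, fun b hb => by
      refine (hcomm_iff ⟨x, hR'G hx⟩ ⟨b, hK'G hb⟩ (hR'K hx) hb).1 ?_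
      rw [hR'one x hx]; exact Commute.one_left _⟩
    -- the elements of `K` act trivially modulo `N`
    let T0 : Subgroup Γ :=
      { carrier := {g | g ∈ G' ∧ ∀ z ∈ K', ⁅g, z⁆ ∈ N}
        one_mem' := ⟨one_mem _, fun z _ => by simp⟩
        mul_mem' := fun {a b} ha hb => ⟨mul_mem ha.1 hb.1, fun z hz => by
          rw [show ⁅a * b, z⁆ = a * ⁅b, z⁆ * a⁻¹ * ⁅a, z⁆ by simp [commutatorElement_def, mul_assoc]]
          exact N.mul_mem (CoprimeAction.conj_mem (hNn a ha.1) (hb.2 z hz)) (ha.2 z hz)⟩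
        inv_mem' := fun {a} ha => ⟨inv_mem ha.1, fun z hz => by
          rw [show ⁅a⁻¹, z⁆ = a⁻¹ * ⁅a, z⁆⁻¹ * a⁻¹⁻¹ by simp [commutatorElement_def, mul_assoc]]
          exact CoprimeAction.conj_mem (hNn _ (inv_mem ha.1)) (N.inv_mem (ha.2 z hz))⟩ }
    have hσT : σ ∈ T0 := ⟨hσG, fun z hz => by
      rw [← commutatorElement_inv]
      exact N.inv_mem (hR'N (Subgroup.commutator_mem_commutator hz (Subgroup.mem_zpowers σ)))⟩
    have hRT : ⁅K, Subgroup.zpowers σ⁆ ≤ T0 := Subgroup.commutator_le.2 fun g hg a ha => by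
      have haT : a ∈ T0 := Subgroup.zpowers_le.2 hσT ha
      rw [show ⁅g, a⁆ = g * a * g⁻¹ * a⁻¹ from commutatorElement_def g a]
      refine T0.mul_mem ⟨mul_mem (mul_mem (hKG hg) haT.1) (inv_mem (hKG hg)), fun z hz => ?_⟩
        (T0.inv_mem haT)
      have hz' : g⁻¹ * z * g ∈ K' := by
        simpa using Subgroup.Normal.conj_mem (inferInstance : K'.Normal) z hz g⁻¹
      rw [show ⁅g * a * g⁻¹, z⁆ = g * ⁅a, g⁻¹ * z * g⁆ * g⁻¹ by
        simp [commutatorElement_def, mul_assoc]]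
      exact CoprimeAction.conj_mem (hNn g (hKG hg)) (haT.2 _ hz')
    have hUN : ⁅K', ⁅K, Subgroup.zpowers σ⁆⁆ ⊔ M' ≤ N :=
      sup_le (Subgroup.commutator_le.2 fun z hz g hg => by
        rw [← commutatorElement_inv]; exact N.inv_mem ((hRT hg).2 z hz)) hMN
    exact hcd ((hUN hcU).2 d hd)
  · push Not at hab
    obtain ⟨a, ha, b, hb, hab'⟩ := hab
    have hnabX : ∃ x ∈ R'.subgroupOf (commStab W.ρ e), ∃ y ∈ R'.subgroupOf (commStab W.ρ e),
        ¬ Commute (restrictTo W.ρ e x) (restrictTo W.ρ e y) :=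
      ⟨⟨a, hR'G ha⟩, ha, ⟨b, hR'G hb⟩, hb, fun h =>
        hab' ((hcomm_iff _ _ (hR'K ha) (hR'K hb)).1 h)⟩
    have habR : ⁅a, b⁆ ∈ R' := Subgroup.commutator_le_self _ (Subgroup.commutator_mem_commutator ha hb)
    have habM : ⁅a, b⁆ ∈ M' := hcomM (hR'K ha) (hR'K hb)
    set k : AlgebraicClosure (ZMod p'') := (l ⟨_, uMem W.ρ habM⟩).val with hk
    have hk1 : k ≠ 1 := fun h => hab' (by
      show W.ρ ⁅a, b⁆ * e = e
      rw [rho_mul_blk_self habM l, ← hk, h, one_smul])
    have h0 : eigProj r (1 : AlgebraicClosure (ZMod p''))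
        (restrictTo W.ρ e ⟨σ, hσG⟩) = 0 := by
      refine LinearMap.ext fun v => Subtype.ext ?_
      rw [restrictTo_eigProj, LinearMap.zero_apply, Submodule.coe_zero]
      simp only [eigProj, inv_one, one_pow, one_smul, LinearMap.smul_apply]
      refine smul_eq_zero_of_right _ ?_
      have h1 := hπ' _ habR v
      have h2 : W.ρ ⁅a, b⁆ (v : Fin W.d → _) = k • (v : Fin W.d → _) := by
        conv_lhs => rw [← hefix v, ← Module.End.mul_apply, rho_mul_blk_self habM l,
          LinearMap.smul_apply, hefix]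
      rw [h2, show k • (v : Fin W.d → AlgebraicClosure (ZMod p'')) - (v : Fin W.d → AlgebraicClosure (ZMod p''))
        = (k - 1) • (v : Fin W.d → AlgebraicClosure (ZMod p''))
        by rw [sub_smul, one_smul], map_smul] at h1
      exact (smul_eq_zero.1 h1).resolve_left (sub_ne_zero.2 hk1)
    obtain ⟨hp2, m, -, hrm, hcard⟩ := D'.exceptional_of_eigProj (fun x hx y hy => by
      have hm' : ⁅(x : Γ), (y : Γ)⁆ ∈ M' := hcomM (hR'K hx) (hR'K hy)
      refine ⟨(l ⟨_, uMem W.ρ hm'⟩).val, LinearMap.ext fun v => Subtype.ext ?_⟩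
      rw [restrictTo_apply, LinearMap.smul_apply, Module.End.one_apply, Submodule.coe_smul,
        show ((⁅x, y⁆ : commStab W.ρ e) : Γ) = ⁅(x : Γ), (y : Γ)⁆ by simp [commutatorElement_def]]
      conv_lhs => rw [← hefix v, ← Module.End.mul_apply, rho_mul_blk_self hm' l,
          LinearMap.smul_apply, hefix])
      hnabX one_ne_zero h0
    refine T.no_small_pairing hp2 (commStab W.ρ e) N hKG hK'G hσG hNn (fun x hx => hx.1) hMN
      (β := β) (fun x hx h => ⟨hx, h⟩) (fun x hx z hz => ⟨hx.2 z hz, hβinv _ _ (hx.2 z hz)⟩)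
      hβmul hβmul' hβself hβcomm hcU hcσ hd hdσ hcd hrm ?_
    rw [← hcard]
    have hrad : radical (restrictTo W.ρ e) (R'.subgroupOf (commStab W.ρ e)) =
        (R' ⊓ N).subgroupOf (commStab W.ρ e) := by
      ext x
      rw [mem_radical, Subgroup.mem_subgroupOf, Subgroup.mem_subgroupOf]
      constructor
      · rintro ⟨hx, hxall⟩
        refine ⟨hx, hR'K hx, fun z hz => ?_⟩
        obtain ⟨u, hu, c1, hc1, hc1σ, rfl⟩ := hc.decomp (mem_normalizer_of_normal K' σ) T.le' hz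
        refine hβmul x (hR'K hx) u (hR'K hu) c1 hc1 ?_ (hβinv _ _ (hfixorth c1 hc1 hc1σ x hx))
        exact (hcomm_iff x ⟨u, hR'G hu⟩ (hR'K hx) (hR'K hu)).1 (hxall _ hu)
      · rintro ⟨hx, -, hxall⟩
        exact ⟨hx, fun z hz => (hcomm_iff x z (hR'K hx) (hR'K hz)).2 (hxall _ (hR'K hz))⟩
    rw [hrad, Subgroup.relIndex_subgroupOf hR'G]

end CfsgLib.FittingHeightPrime
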