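/-
The Fitting height of a solvable group with a coprime automorphism of prime order exceeds that of the
fixed points by at most two.
-/
import Mathlib
import Cfsg.Agent.Lib.FittingHeightPrime.AbelianLevel
import Cfsg.Agent.Lib.FittingHeightPrime.Nonabelian
import Cfsg.Agent.Lib.FittingHeightPrime.LevelK
import Cfsg.Agent.Lib.Subnormal.FittingLengthAction

set_option autoImplicit false
set_option linter.style.haveILetI false
set_option linter.unusedSectionVars false

open scoped commutatorElement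

namespace CfsgLib.FittingHeightPrime

open Subnormal

variable {Γ : Type*} [Group Γ] [Finite Γ] {L : Subgroup Γ} {σ : Γ} {r m : ℕ}

/-- The span of the commutators of a section with the moved part of the section above. -/
abbrev Tower.U (T : Tower L 0 (m + 3)) (σ : Γ) (i : ℕ) : Subgroup Γ :=
  ⁅T.K (i + 1), ⁅T.K i, Subgroup.zpowers σ⁆⁆ ⊔ T.M (i + 1)

theorem Tower.le_L (T : Tower L 0 (m + 3)) {i : ℕ} (hi : i < m + 3) : T.K i ≤ L :=
  (T.le_res i (Nat.zero_le _) hi).trans (fitRes_le i L)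

theorem Tower.lev (T : Tower L 0 (m + 3)) {i : ℕ} (hi : i < m + 3) :
    IsLevel (T.p i) (T.K i) (T.B i) := T.level i (Nat.zero_le _) hi

theorem Tower.U_le (T : Tower L 0 (m + 3)) {i : ℕ} (hi : i + 1 < m + 3) :
    T.U σ i ≤ T.K (i + 1) := by
  haveI := (T.lev hi).normalK
  exact span_le (secFrattini_le (T.lev hi).lt'.le)

theorem Tower.triple (T : Tower L 0 (m + 3)) (hc : Ctx L σ r) {i : ℕ} (hi : i + 2 < m + 3) :
    Triple L σ r (T.p i) (T.K i) (T.B i) (T.p (i + 1)) (T.K (i + 1)) (T.B (i + 1))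
      (T.p (i + 2)) (T.K (i + 2)) (T.B (i + 2)) :=
  { ctx := hc
    lev := T.lev (by omega)
    lev' := T.lev (by omega)
    lev'' := T.lev hi
    link := T.link i (Nat.zero_le _) (by omega)
    link' := T.link (i + 1) (Nat.zero_le _) (by omega)
    le := T.le_L (by omega)
    le' := T.le_L (by omega)
    le'' := T.le_L hi }

/-- A fixed `p i`-element of the `a`-th residual of the fixed points moving a fixed element of the
next section. -/
def Tower.Cand (T : Tower L 0 (m + 3)) (σ : Γ) (i a : ℕ) : Prop :=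
  ∃ e ∈ T.K i, e ∈ fitRes a (fixedPart L σ) ∧ (∃ b, e ^ T.p i ^ b = 1) ∧
    Moves σ (T.U σ i) (T.M (i + 1)) e

theorem commute_of_mem_fitRes {a : ℕ} {e : Γ} (he : e ∈ fitRes a (fixedPart L σ)) :
    e * σ = σ * e := (mem_fixedPart.1 (fitRes_le a _ he)).2

theorem commutator_mem_fitRes {X : Subgroup Γ} {a : ℕ} {e y : Γ} (he : e ∈ fitRes a X)
    (hy : y ∈ X) : ⁅e, y⁆ ∈ fitRes a X := by
  rw [commutatorElement_def, mul_assoc, mul_assoc]
  refine Subgroup.mul_mem _ he ?_
  rw [← mul_assoc]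
  exact CoprimeAction.conj_mem (le_normalizer_fitRes (X := X) Subgroup.le_normalizer a hy)
    (Subgroup.inv_mem _ he)

theorem commute_commutator {a b s : Γ} (ha : a * s = s * a) (hb : b * s = s * b) :
    ⁅a, b⁆ * s = s * ⁅a, b⁆ := by
  have ha' : Commute a s := ha
  have hb' : Commute b s := hb
  rw [commutatorElement_def]
  exact (((ha'.mul_left hb').mul_left ha'.inv_left).mul_left hb'.inv_left).eq

theorem commutator_mem_of_normal (K : Subgroup Γ) [K.Normal] (g : Γ) {x : Γ} (hx : x ∈ K) :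
    ⁅g, x⁆ ∈ K := by
  rw [commutatorElement_def]
  exact K.mul_mem (Subgroup.Normal.conj_mem inferInstance x hx g) (K.inv_mem hx)

namespace Tower

variable (T : Tower L 0 (m + 3))

/-- Passing to the `p i`-part keeps a candidate. -/
theorem cand_of_moves {i a : ℕ} (hi : i + 1 < m + 3) {e : Γ} (heK : e ∈ T.K i)
    (he : e ∈ fitRes a (fixedPart L σ)) (hm : Moves σ (T.U σ i) (T.M (i + 1)) e) :
    T.Cand σ i a := by
  haveI := (T.lev (show i < m + 3 by omega)).normalB
  haveI := (T.lev hi).normalK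
  haveI := (T.lev hi).normalB
  obtain ⟨b, hb⟩ := (T.lev (show i < m + 3 by omega)).pgroup e heK
  obtain ⟨n, hn, hne⟩ := exists_pPart (T.lev (show i < m + 3 by omega)).prime hb
  refine ⟨e ^ n, Subgroup.pow_mem _ heK n, Subgroup.pow_mem _ he n, hn,
    hm.congr fun w hw => ?_⟩
  exact ((T.link i (Nat.zero_le _) hi).kernel _
    ((T.lev (show i < m + 3 by omega)).lt'.le hne)).1 hne w (T.U_le hi hw)

/-- From a fixed element outside the Frattini subgroup. -/
theorem cand_start (hc : Ctx L σ r) {i : ℕ} (hi : i + 2 < m + 3) {w : Γ} (hw : w ∈ T.U σ i)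
    (hwσ : w * σ = σ * w) (hwM : w ∉ T.M (i + 1)) : T.Cand σ (i + 1) 0 := by
  have D := T.triple hc hi
  haveI := Fact.mk (T.lev hi).prime
  obtain ⟨c, hcU, hcσ, hcm⟩ : ∃ c ∈ T.U σ i, c * σ = σ * c ∧
      Moves σ (T.U σ (i + 1)) (T.M (i + 2)) c := by
    by_cases hab : ⁅T.K (i + 1), T.K (i + 1)⁆ ≤ T.B (i + 1)
    · exact D.start_abelian hab hw hwσ hwM
    · exact ⟨w, hw, hwσ, D.moves_of_nonabelian hab hw hwσ hwM⟩
  have hcK : c ∈ T.K (i + 1) := T.U_le (by omega) hcU
  exact T.cand_of_moves (by omega) hcK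
    (mem_fixedPart.2 ⟨T.le_L (by omega) hcK, hcσ⟩) hcm

/-- The double commutator with a candidate, inside the next residual. -/
theorem exists_refined {i a : ℕ} (hi : i + 1 < m + 3) {e y : Γ} (heK : e ∈ T.K i)
    (he : e ∈ fitRes a (fixedPart L σ)) (hep : ∃ b, e ^ T.p i ^ b = 1) (hy : y ∈ T.K (i + 1))
    (hyσ : y * σ = σ * y) :
    ∃ n ∈ T.K (i + 1), n ∈ fitRes (a + 1) (fixedPart L σ) ∧
      n⁻¹ * ⁅e, ⁅e, y⁆⁆ ∈ T.B (i + 1) := by
  haveI := (T.lev hi).normalK
  haveI := (T.lev hi).normalB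
  haveI := Fact.mk (T.lev hi).prime
  haveI := Fact.mk (T.lev (show i < m + 3 by omega)).prime
  have hc0 : ⁅e, y⁆ ∈ fitRes a (fixedPart L σ) :=
    commutator_mem_fitRes he (mem_fixedPart.2 ⟨T.le_L hi hy, hyσ⟩)
  have hc0K : ⁅e, y⁆ ∈ T.K (i + 1) := commutator_mem_of_normal _ e hy
  obtain ⟨b, hb⟩ := (T.lev hi).pgroup _ hc0K
  obtain ⟨n, hn, hnc⟩ := exists_pPart (T.lev hi).prime hb
  refine ⟨⁅e, ⁅e, y⁆ ^ n⁆, commutator_mem_of_normal _ e (Subgroup.pow_mem _ hc0K n),
    commutator_mem_nilRes (T.link i (Nat.zero_le _) hi).ne he (Subgroup.pow_mem _ hc0 n) hep hn, ?_⟩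
  set c := ⁅e, y⁆ ^ n
  rw [show ⁅e, c⁆⁻¹ * ⁅e, ⁅e, y⁆⁆ = c * ⁅e, c⁻¹ * ⁅e, y⁆⁆ * c⁻¹ by
    simp [commutatorElement_def, mul_assoc]]
  exact Subgroup.Normal.conj_mem inferInstance _ (commutator_mem_of_normal _ e hnc) c

/-- A candidate moves some element by the second commutator. -/
theorem double_commutator_not_mem {i a : ℕ} (hi : i + 1 < m + 3) {e w : Γ}
    (heK : e ∈ T.K i) (he : e ∈ fitRes a (fixedPart L σ)) (hep : ∃ b, e ^ T.p i ^ b = 1)
    (hw : w ∈ T.U σ i) (hew : ⁅e, w⁆ ∉ T.M (i + 1)) :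
    ⁅e, ⁅e, w⁆⁆ ∉ T.M (i + 1) ∧ ⁅e, ⁅e, w⁆⁆ ∈ T.U σ i := by
  haveI := (T.lev hi).normalK
  haveI := (T.lev hi).normalB
  haveI := (T.lev (show i < m + 3 by omega)).normalK
  haveI := Fact.mk (T.lev hi).prime
  haveI := Fact.mk (T.lev (show i < m + 3 by omega)).prime
  have hwK := T.U_le hi hw
  refine ⟨fun h => hew ?_, ?_⟩
  · refine mem_of_commutator_mem (p := T.p (i + 1)) (q := T.p i)
      (T.link i (Nat.zero_le _) hi).ne.symm (X := T.K (i + 1)) (fun x hx => ?_) ?_
      (commutator_mem_of_normal _ e hwK) h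
    · obtain ⟨b, hb⟩ := (T.lev hi).pgroup x hx
      exact ⟨b, le_secFrattini _ _ _ hb⟩
    · obtain ⟨b, hb⟩ := hep
      exact ⟨b, by rw [hb]; exact one_mem _⟩
  · have heN : e ∈ Subgroup.normalizer ((T.U σ i : Subgroup Γ) : Set Γ) :=
      mem_normalizer_span (mem_normalizer_commutator_zpowers (commute_of_mem_fitRes he))
    have hstep : ∀ x ∈ T.U σ i, ⁅e, x⁆ ∈ T.U σ i := fun x hx => by
      rw [commutatorElement_def]
      exact mul_mem (CoprimeAction.conj_mem heN hx) (inv_mem hx)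
    exact hstep _ (hstep _ hw)

/-- One step down for a candidate. -/
theorem cand_step (hc : Ctx L σ r) {i a : ℕ} (hi : i + 2 < m + 3) (h : T.Cand σ i a) :
    T.Cand σ (i + 1) (a + 1) := by
  obtain ⟨e, heK, he, hep, hmove⟩ := h
  have hi1 : i + 1 < m + 3 := by omega
  haveI := (T.lev hi1).normalK
  haveI := (T.lev hi1).normalB
  haveI := (T.lev hi).normalK
  haveI := (T.lev hi).normalB
  have D := T.triple hc hi
  haveI := Fact.mk (T.lev hi).prime
  have heσ := commute_of_mem_fitRes he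
  obtain ⟨y, hyU, hyσ, hym⟩ : ∃ y ∈ T.U σ i, y * σ = σ * y ∧
      Moves σ (T.U σ (i + 1)) (T.M (i + 2)) ⁅e, ⁅e, y⁆⁆ := by
    by_cases hab : ⁅T.K (i + 1), T.K (i + 1)⁆ ≤ T.B (i + 1)
    · exact D.step_abelian hab heK heσ hep hmove
    · obtain ⟨w, hw, hwσ, hew⟩ := hmove
      obtain ⟨hne, hmem⟩ := T.double_commutator_not_mem hi1 heK he hep hw hew
      exact ⟨w, hw, hwσ, D.moves_of_nonabelian hab hmem (commute_commutator heσ (commute_commutator heσ hwσ)) hne⟩
  obtain ⟨n, hnK, hn, hnB⟩ := T.exists_refined hi1 heK he hep (T.U_le hi1 hyU) hyσ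
  refine T.cand_of_moves hi hnK hn (hym.congr fun w hw => ?_)
  exact ((T.link (i + 1) (Nat.zero_le _) hi).kernel _
    ((T.lev hi1).lt'.le hnB)).1 hnB w (T.U_le hi hw)

/-- A candidate keeps the residuals of the fixed points nontrivial down to the last level. -/
theorem fitRes_ne_bot_of_cand (hc : Ctx L σ r) {i a : ℕ} (hi : i ≤ m + 1) (hia : i ≤ a + 2)
    (h : T.Cand σ i a) : fitRes m (fixedPart L σ) ≠ ⊥ := by
  generalize hd : m + 1 - i = d
  induction d generalizing i a with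
  | zero =>
    obtain ⟨e, heK, he, hep, w, hw, hwσ, hew⟩ := h
    have hi1 : i + 1 < m + 3 := by omega
    obtain ⟨hne, -⟩ := T.double_commutator_not_mem hi1 heK he hep hw hew
    obtain ⟨n, -, hn, hnB⟩ := T.exists_refined hi1 heK he hep (T.U_le hi1 hw) hwσ
    intro hbot
    have h1 : n = 1 := Subgroup.mem_bot.1
      (hbot ▸ fitRes_antitone (show m ≤ a + 1 by omega) _ hn)
    rw [h1, inv_one, one_mul] at hnB
    exact hne (le_secFrattini _ _ _ hnB)
  | succ d ih =>
    exact ih (i := i + 1) (a := a + 1) (by omega) (by omega)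
      (T.cand_step hc (by omega) h) (by omega)

end Tower

/-- The residual of length `m` of the fixed points is nontrivial in a minimal group. -/
theorem fitRes_fixedPart_ne_bot (hc : Ctx L σ r) [Group.IsSolvable L]
    (hne : fitRes (m + 2) L ≠ ⊥)
    (hmin : ∀ L' : Subgroup Γ, L' ≤ L → σ ∈ Subgroup.normalizer (L' : Set Γ) →
      fitRes (m + 2) L' ≠ ⊥ → L' = L) : fitRes m (fixedPart L σ) ≠ ⊥ := by
  classical
  haveI := hc.normal
  obtain ⟨T⟩ : Nonempty (Tower L 0 (m + 3)) := exists_tower hc.top (hc.cop le_rfl) hne hmin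
  set C := fixedPart L σ with hC
  have hCL : C ≤ L := inf_le_left
  -- fixed elements cover the levels on which `σ` acts trivially
  have hfixed : ∀ l, l < m + 3 → (∀ x ∈ T.K l, ⁅σ, x⁆ ∈ T.M l) →
      ∀ x ∈ T.K l, ∃ y ∈ C ⊓ T.K l, y⁻¹ * x ∈ T.M l := by
    intro l hl htriv x hx
    haveI := (T.lev hl).normalK
    haveI := (T.lev hl).normalB
    obtain ⟨c, hcK, hcσ, hcx⟩ := hc.exists_fixed (T.le_L hl) (secFrattini_le (T.lev hl).lt'.le)
      (fun a _ => mem_normalizer_of_normal (T.M l) a) (mem_normalizer_of_normal (T.M l) σ) hx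
      (htriv x hx)
    exact ⟨c, ⟨mem_fixedPart.2 ⟨T.le_L hl hcK, hcσ⟩, hcK⟩, hcx⟩
  have hstart : ∀ {Y : Subgroup Γ} {i : ℕ}, i < m + 3 →
      (∀ x ∈ T.K i, ∃ y ∈ Y ⊓ T.K i, y⁻¹ * x ∈ T.M i) →
      ∃ s ∈ Y ⊓ T.K i, s ∉ T.B i := by
    intro Y i hi hcov
    obtain ⟨x, hx, hxM⟩ := SetLike.exists_of_lt (T.lev hi).lt
    obtain ⟨y, hy, hyx⟩ := hcov x hx
    refine ⟨y, hy, fun hyB => hxM ?_⟩
    rw [show x = y * (y⁻¹ * x) by group]
    exact mul_mem (le_secFrattini _ _ _ hyB) hyx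
  by_cases hmov : ∃ k, k < m + 3 ∧ ∃ x ∈ T.K k, ⁅σ, x⁆ ∉ T.M k
  swap
  · push Not at hmov
    obtain ⟨s, hs, hsB⟩ := hstart (Nat.succ_pos _) (hfixed 0 (by omega) (hmov 0 (by omega)))
    intro hbot
    refine T.nonvanish (a := 0) (Y := C) le_rfl (by omega) hs.2 hsB hs.1
      (fun l _ hl => hfixed l hl (hmov l hl)) (le_bot_iff.1 ?_)
    rw [← hbot]
    exact fitRes_antitone (by omega) C
  set k := Nat.find hmov with hkdef
  obtain ⟨hkH, x0, hx0, hx0M⟩ := Nat.find_spec hmov
  have htriv : ∀ l, l < k → ∀ x ∈ T.K l, ⁅σ, x⁆ ∈ T.M l := fun l hlk x hx => by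
    by_contra hcon
    exact Nat.find_min hmov hlk ⟨by omega, x, hx, hcon⟩
  haveI := (T.lev hkH).normalK
  haveI := (T.lev hkH).normalB
  -- `L = C K_k`
  have hσC : σ ∈ Subgroup.normalizer (C : Set Γ) := centralizer_le_normalizer_fixedPart rfl
  have hL' : C ⊔ T.K k = L := by
    refine hmin _ (sup_le hCL (T.le_L hkH)) (CoprimeAction.mem_normalizer_of_conj_mem fun u hu => ?_) ?_
    · obtain ⟨c, hcC, x, hx, rfl⟩ := Subgroup.mem_sup_of_normal_right.1 hu
      rw [show σ * (c * x) * σ⁻¹ = σ * c * σ⁻¹ * (σ * x * σ⁻¹) by group]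
      exact Subgroup.mul_mem_sup (CoprimeAction.conj_mem hσC hcC)
        (Subgroup.Normal.conj_mem inferInstance x hx σ)
    · have hcov : ∀ l, l < m + 3 → ∀ x ∈ T.K l,
          ∃ y ∈ (C ⊔ T.K k) ⊓ T.K l, y⁻¹ * x ∈ T.M l := by
        intro l hl x hx
        rcases lt_or_ge l k with hlk | hkl
        · obtain ⟨y, ⟨hyC, hyK⟩, hyx⟩ := hfixed l hl (htriv l hlk) x hx
          exact ⟨y, ⟨Subgroup.mem_sup_left hyC, hyK⟩, hyx⟩
        · exact ⟨x, ⟨Subgroup.mem_sup_right (T.K_le_of_le (Nat.zero_le _) hkl hl hx), hx⟩,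
            by rw [inv_mul_cancel]; exact one_mem _⟩
      obtain ⟨s, hs, hsB⟩ := hstart (Nat.succ_pos _) (hcov 0 (by omega))
      simpa using T.nonvanish (a := 0) (Y := C ⊔ T.K k) le_rfl (by omega) hs.2 hsB hs.1
        (fun l _ hl => hcov l hl)
  have hgen : ∀ g : Γ, ∃ c, c * σ = σ * c ∧ ∃ x ∈ T.K k, g = c * x := by
    have hle : ⊤ ≤ Subgroup.centralizer {σ} ⊔ T.K k := by
      refine hc.top.ge.trans ?_
      refine sup_le (hL'.ge.trans (sup_le (inf_le_right.trans le_sup_left) le_sup_right))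
        (Subgroup.zpowers_le.2 (Subgroup.mem_sup_left ?_))
      rw [Subgroup.mem_centralizer_singleton_iff]
    intro g
    obtain ⟨c, hcc, x, hx, hg⟩ := Subgroup.mem_sup_of_normal_right.1 (hle (Subgroup.mem_top g))
    exact ⟨c, Subgroup.mem_centralizer_singleton_iff.1 hcc, x, hx, hg.symm⟩
  -- the residuals of `C` cover the levels above `k`
  have hres : ∀ i, i < k → (fitRes i C ⊓ T.K i) ⊔ T.M i = T.K i := by
    intro i
    induction i with
    | zero =>
      intro hi
      refine le_antisymm (sup_le inf_le_right (secFrattini_le (T.lev (by omega)).lt'.le)) fun x hx => ?_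
      obtain ⟨y, hy, hyx⟩ := hfixed 0 (by omega) (htriv 0 hi) x hx
      rw [show x = y * (y⁻¹ * x) by group]
      exact Subgroup.mul_mem_sup hy hyx
    | succ i ih =>
      intro hi
      have hi1 : i + 1 < m + 3 := by omega
      haveI := (T.lev hi1).normalK
      haveI := (T.lev hi1).normalB
      set S := (fitRes (i + 1) C ⊓ T.K (i + 1)) ⊔ T.M (i + 1) with hS
      haveI : S.Normal := by
        rw [← Subgroup.normalizer_eq_top_iff, eq_top_iff]
        intro g _
        obtain ⟨c, hcσ, x, hx, rfl⟩ := hgen g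
        refine mul_mem (CoprimeAction.mem_normalizer_of_conj_mem fun u hu => ?_)
          (Subgroup.le_normalizer (Subgroup.mem_sup_right (le_secFrattini _ _ _
            ((T.link (i + 1) (Nat.zero_le _) (by omega)).succ_le
              (T.K_le_of_le (Nat.zero_le _) (show i + 2 ≤ k by omega) hkH hx)))))
        obtain ⟨d, ⟨hd, hdK⟩, z, hz, rfl⟩ := Subgroup.mem_sup_of_normal_right.1 hu
        rw [show c * (d * z) * c⁻¹ = c * d * c⁻¹ * (c * z * c⁻¹) by group]
        refine Subgroup.mul_mem_sup ⟨?_, Subgroup.Normal.conj_mem inferInstance d hdK c⟩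
          (Subgroup.Normal.conj_mem inferInstance z hz c)
        exact CoprimeAction.conj_mem (le_normalizer_fitRes (A := Subgroup.zpowers c)
          (Subgroup.zpowers_le.2 (centralizer_le_normalizer_fixedPart hcσ)) (i + 1)
          (Subgroup.mem_zpowers c)) hd
      have hSK : S ≤ T.K (i + 1) := sup_le inf_le_right (secFrattini_le (T.lev hi1).lt'.le)
      refine ((T.lev hi1).irred S inferInstance le_sup_right hSK).resolve_left fun hSM => ?_
      obtain ⟨s, ⟨hsr, hsK⟩, hsB⟩ : ∃ s ∈ fitRes i C ⊓ T.K i, s ∉ T.B i := by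
        by_contra! hall
        refine (T.lev (show i < m + 3 by omega)).lt.ne ?_
        refine le_antisymm (secFrattini_le (T.lev (show i < m + 3 by omega)).lt'.le) ?_
        conv_lhs => rw [← ih (by omega)]
        exact sup_le (fun x hx => le_secFrattini _ _ _ (hall x hx)) le_rfl
      obtain ⟨s', h1, h2, h3⟩ := (T.link i (Nat.zero_le _) hi1).step
        (T.lev (show i < m + 3 by omega)).prime (T.lev (show i < m + 3 by omega)).pgroup
        (T.lev (show i < m + 3 by omega)).lt'.le (T.lev hi1) (hfixed (i + 1) hi1 (htriv _ hi))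
        hsK hsB hsr
      exact h3 (hSM.le (Subgroup.mem_sup_left ⟨h1, h2⟩))
  have hresB : ∀ i, i < k → (fitRes i C ⊓ T.K i) ⊔ T.B i = T.K i := by
    intro i hi
    have hiH : i < m + 3 := by omega
    haveI := (T.lev hiH).normalB
    haveI := Fact.mk (T.lev hiH).prime
    refine eq_of_sup_secFrattini (p := T.p i) (T.lev hiH).pgroup le_sup_right
      (sup_le inf_le_right (T.lev hiH).lt'.le) ?_
    rw [sup_assoc, sup_eq_right.2 (le_secFrattini (T.p i) (T.K i) (T.B i))]
    exact hres i hi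
  have helt : ∀ i, i < k → ∃ s ∈ T.K i, s ∈ fitRes i C ∧ s ∉ T.B i := by
    intro i hi
    by_contra! hall
    refine (T.lev (show i < m + 3 by omega)).lt'.not_ge ?_
    conv_lhs => rw [← hresB i hi]
    exact sup_le (fun x hx => hall x hx.2 hx.1) le_rfl
  by_cases hkm : m < k
  · obtain ⟨s, -, hs, hsB⟩ := helt (k - 1) (by omega)
    intro hbot
    have h1 : s ∈ fitRes m C := fitRes_antitone (by omega) C hs
    rw [hbot, Subgroup.mem_bot] at h1
    exact hsB (h1 ▸ one_mem _)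
  -- `[K_k, σ]` covers the level
  have hfull : ⁅T.K k, Subgroup.zpowers σ⁆ ⊔ T.B k = T.K k := by
    set X := ⁅T.K k, Subgroup.zpowers σ⁆ ⊔ T.M k with hX
    have hXK : X ≤ T.K k :=
      sup_le (Subgroup.commutator_le_left _ _) (secFrattini_le (T.lev hkH).lt'.le)
    haveI : X.Normal := by
      rw [← Subgroup.normalizer_eq_top_iff, eq_top_iff]
      intro g _
      obtain ⟨c, hcσ, x, hx, rfl⟩ := hgen g
      refine mul_mem (Subgroup.mem_normalizer_iff_map_conj_eq.2 ?_)
        (CoprimeAction.mem_normalizer_of_conj_mem fun u hu => ?_)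
      · show X.map (MulAut.conj c : Γ →* Γ) = X
        rw [hX, Subgroup.map_sup,
          Subgroup.mem_normalizer_iff_map_conj_eq.1 (mem_normalizer_of_normal (T.M k) c),
          Subgroup.mem_normalizer_iff_map_conj_eq.1
            (mem_normalizer_commutator_zpowers (K := T.K k) hcσ)]
      · rw [show x * u * x⁻¹ = ⁅x, u⁆ * u by rw [commutatorElement_def, inv_mul_cancel_right]]
        exact mul_mem (Subgroup.mem_sup_right (commutator_le_secFrattini _ _ _
          (Subgroup.commutator_mem_commutator hx (hXK hu)))) hu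
    have hXeq : X = T.K k := by
      refine ((T.lev hkH).irred X inferInstance le_sup_right hXK).resolve_left fun h => hx0M ?_
      rw [← commutatorElement_inv]
      exact inv_mem (h.le (Subgroup.mem_sup_left
        (Subgroup.commutator_mem_commutator hx0 (Subgroup.mem_zpowers σ))))
    haveI := Fact.mk (T.lev hkH).prime
    refine eq_of_sup_secFrattini (p := T.p k) (T.lev hkH).pgroup le_sup_right
      (sup_le (Subgroup.commutator_le_left _ _) (T.lev hkH).lt'.le) ?_
    rw [sup_assoc, sup_eq_right.2 (le_secFrattini (T.p k) (T.K k) (T.B k))]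
    exact hXeq
  have hk1 : k + 1 < m + 3 := by omega
  have hk2 : k + 2 < m + 3 := by omega
  have hpfix : T.p k ≠ 2 → ∃ w ∈ T.U σ k, w * σ = σ * w ∧ w ∉ T.M (k + 1) := fun hp =>
    exists_fixed_of_full hc (T.lev hkH) (T.lev hk1) (T.link k (Nat.zero_le _) hk1)
      (T.le_L hkH) (T.le_L hk1) hfull hp
  rcases Nat.lt_or_ge k 2 with hk01 | hk2'
  · by_cases hfx : ∃ w ∈ T.U σ k, w * σ = σ * w ∧ w ∉ T.M (k + 1)
    · obtain ⟨w, hw, hwσ, hwM⟩ := hfx
      exact T.fitRes_ne_bot_of_cand hc (by omega) (by omega) (T.cand_start hc hk2 hw hwσ hwM)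
    have hpk : T.p k = 2 := by
      by_contra hp; exact hfx (hpfix hp)
    push Not at hfx
    rcases Nat.eq_zero_or_pos k with hk0 | hkpos
    · -- the first level is moved and carries no fixed element below it
      have hne12 : T.p (k + 1) ≠ 2 := hpk ▸ (T.link k (Nat.zero_le _) hk1).ne.symm
      have hU := span_eq_of_full (T.lev hkH) (T.lev hk1) (T.link k (Nat.zero_le _) hk1) hfull
      haveI := (T.lev hk1).normalK
      haveI := (T.lev hk1).normalB
      haveI := Fact.mk (T.lev hk1).prime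
      have hfull1 : ⁅T.K (k + 1), Subgroup.zpowers σ⁆ ⊔ T.B (k + 1) = T.K (k + 1) := by
        refine eq_of_sup_secFrattini (p := T.p (k + 1)) (T.lev hk1).pgroup le_sup_right
          (sup_le (Subgroup.commutator_le_left _ _) (T.lev hk1).lt'.le) ?_
        refine le_antisymm (sup_le (sup_le (Subgroup.commutator_le_left _ _) (T.lev hk1).lt'.le)
          (secFrattini_le (T.lev hk1).lt'.le)) fun x hx => ?_
        obtain ⟨y, hy, c, hcK, hcσ, rfl⟩ :=
          hc.decomp (mem_normalizer_of_normal (T.K (k + 1)) σ) (T.le_L hk1) hx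
        exact Subgroup.mul_mem_sup (Subgroup.mem_sup_left hy)
          (hfx c (by rw [Tower.U, hU]; exact hcK) hcσ)
      obtain ⟨w, hw, hwσ, hwM⟩ := exists_fixed_of_full hc (T.lev hk1) (T.lev hk2)
        (T.link (k + 1) (Nat.zero_le _) hk2) (T.le_L hk1) (T.le_L hk2) hfull1 hne12
      rcases Nat.eq_zero_or_pos m with hm0 | hmpos
      · intro hbot
        have hwC : w ∈ C := mem_fixedPart.2 ⟨T.le_L hk2 (T.U_le hk2 hw), hwσ⟩
        rw [hm0, fitRes_zero] at hbot
        rw [hbot, Subgroup.mem_bot] at hwC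
        exact hwM (hwC ▸ one_mem _)
      · exact T.fitRes_ne_bot_of_cand hc (by omega) (by omega)
          (T.cand_start hc (show k + 1 + 2 < m + 3 by omega) hw hwσ hwM)
    · -- the second level is the first moved one
      obtain ⟨j, hj⟩ : ∃ j, k = j + 1 := ⟨k - 1, by omega⟩
      obtain ⟨s, hsK, hsr, hsB⟩ := helt j (by omega)
      have hjH : j < m + 3 := by omega
      haveI := (T.lev hjH).normalB
      obtain ⟨b, hb⟩ := (T.lev hjH).pgroup s hsK
      obtain ⟨n, hn, hns⟩ := exists_pPart (T.lev hjH).prime hb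
      have hl : Link (T.p j) (T.K j) (T.B j) (T.p k) (T.K k) (T.B k) := by
        rw [hj]; exact T.link j (Nat.zero_le _) (by omega)
      haveI := (T.lev hk1).normalK
      haveI := (T.lev hk1).normalB
      obtain ⟨h2, -⟩ := kernel_alternative hc (T.lev hjH) (T.lev hkH) (T.lev hk1) hl
        (T.link k (Nat.zero_le _) hk1) (T.le_L hjH) (T.le_L hkH) (T.le_L hk1) hgen hfull
        (Subgroup.pow_mem _ hsK n) (commute_of_mem_fitRes (Subgroup.pow_mem _ hsr n)) hn
        (fun h => hsB (by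
          rw [show s = s ^ n * ((s ^ n)⁻¹ * s) by group]
          exact mul_mem h hns))
        (fun ⟨w, hw, hwσ, hew⟩ => hew (commutator_mem_of_normal (T.M (k + 1)) _ (hfx w hw hwσ)))
      exact absurd (h2.trans hpk.symm) hl.ne
  -- two levels above the first moved one
  obtain ⟨i, hi⟩ : ∃ i, k = i + 2 := ⟨k - 2, by omega⟩
  have hiH : i < m + 3 := by omega
  have hjH : i + 1 < m + 3 := by omega
  haveI := (T.lev hjH).normalK
  haveI := (T.lev hjH).normalB
  haveI := (T.lev hk1).normalK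
  haveI := (T.lev hk1).normalB
  haveI := (T.lev hiH).normalB
  have hl : Link (T.p (i + 1)) (T.K (i + 1)) (T.B (i + 1)) (T.p k) (T.K k) (T.B k) := by
    rw [hi]; exact T.link (i + 1) (Nat.zero_le _) (by omega)
  by_cases hmover : ∃ e ∈ T.K (i + 1), e ∈ fitRes (i + 1) C ∧ e ∉ T.B (i + 1) ∧
      Moves σ (T.U σ k) (T.M (k + 1)) e
  · obtain ⟨e, heK, her, heB, hem⟩ := hmover
    have heσ := commute_of_mem_fitRes her
    have D := T.triple hc hk2
    haveI := Fact.mk (T.lev hk2).prime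
    obtain ⟨y, hyU, hyσ, hym⟩ : ∃ y ∈ T.U σ k, y * σ = σ * y ∧
        Moves σ (T.U σ (k + 1)) (T.M (k + 2)) ⁅e, y⁆ := by
      by_cases hab : ⁅T.K (k + 1), T.K (k + 1)⁆ ≤ T.B (k + 1)
      · exact (D.kc_abelian hab hgen hfull heσ (hc.cop_elt (T.le_L hjH heK)) hem).resolve_right
          fun h => heB ((hl.kernel e heK).2 h)
      · obtain ⟨w, hw, hwσ, hew⟩ := hem
        refine ⟨w, hw, hwσ, D.moves_of_nonabelian hab ?_
          (commute_commutator heσ hwσ) hew⟩
        rw [commutatorElement_def]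
        exact mul_mem (CoprimeAction.conj_mem
          (mem_normalizer_span (mem_normalizer_commutator_zpowers heσ)) hw) (inv_mem hw)
    have hyK : y ∈ T.K (k + 1) := T.U_le hk1 hyU
    exact T.fitRes_ne_bot_of_cand hc (show k + 1 ≤ m + 1 by omega)
      (show k + 1 ≤ (i + 1) + 2 by omega)
      (T.cand_of_moves hk2 (commutator_mem_of_normal _ e hyK)
        (commutator_mem_fitRes her (mem_fixedPart.2 ⟨T.le_L hk1 hyK, hyσ⟩)) hym)
  push Not at hmover
  have halt : ∀ e ∈ T.K (i + 1), e ∈ fitRes (i + 1) C → (∃ b, e ^ T.p (i + 1) ^ b = 1) →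
      e ∉ T.B (i + 1) → T.p (i + 1) = 2 ∧ (∀ z ∈ T.M k, ⁅σ, z⁆ ∈ T.B k) ∧
        ∀ h : Γ, h * σ = σ * h → (∀ z ∈ T.M k, ⁅h, z⁆ ∈ T.B k) →
          ∀ x ∈ T.K k, ⁅⁅h, e⁆, x⁆ ∈ T.M k := fun e heK her hep heB =>
    kernel_alternative hc (T.lev hjH) (T.lev hkH) (T.lev hk1) hl
      (T.link k (Nat.zero_le _) hk1) (T.le_L hjH) (T.le_L hkH) (T.le_L hk1) hgen hfull heK
      (commute_of_mem_fitRes her) hep heB (hmover e heK her heB)
  obtain ⟨s, hsK, hsr, hsB⟩ := helt (i + 1) (by omega)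
  obtain ⟨b, hb⟩ := (T.lev hjH).pgroup s hsK
  obtain ⟨n, hn, hns⟩ := exists_pPart (T.lev hjH).prime hb
  obtain ⟨hp2, hMσ, -⟩ := halt _ (Subgroup.pow_mem _ hsK n) (Subgroup.pow_mem _ hsr n) hn
    (fun h => hsB (by
      rw [show s = s ^ n * ((s ^ n)⁻¹ * s) by group]
      exact mul_mem h hns))
  have hpk : T.p k ≠ 2 := fun h => hl.ne (hp2.trans h.symm)
  by_cases hall : ∀ h ∈ T.K i, h ∈ fitRes i C → ∀ z ∈ T.M k, ⁅h, z⁆ ∈ T.B k
  · exfalso
    refine (T.lev hiH).lt'.not_ge ?_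
    conv_lhs => rw [← hresB i (by omega)]
    refine sup_le (fun h ⟨hhr, hhK⟩ => ?_) le_rfl
    refine ((T.link i (Nat.zero_le _) hjH).kernel h hhK).2 fun y hy => ?_
    refine le_secFrattini _ _ _ ?_
    obtain ⟨u, ⟨hur, huK⟩, v, hv, rfl⟩ :=
      Subgroup.mem_sup_of_normal_right.1 ((hresB (i + 1) (by omega)).ge hy)
    obtain ⟨b', hb'⟩ := (T.lev hjH).pgroup u huK
    obtain ⟨n', hn', hnu⟩ := exists_pPart (T.lev hjH).prime hb'
    set e := u ^ n' with he
    have heK : e ∈ T.K (i + 1) := Subgroup.pow_mem _ huK n'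
    have hhe : ⁅h, e⁆ ∈ T.B (i + 1) := by
      by_cases heB : e ∈ T.B (i + 1)
      · exact commutator_mem_of_normal _ h heB
      · obtain ⟨-, -, hker⟩ := halt e heK (Subgroup.pow_mem _ hur n') hn' heB
        exact (hl.kernel _ (commutator_mem_of_normal _ h heK)).2
          (hker h (commute_of_mem_fitRes hhr) (hall h hhK hhr))
    rw [show u * v = e * (e⁻¹ * u * v) by group,
      show ⁅h, e * (e⁻¹ * u * v)⁆ = ⁅h, e⁆ * (e * ⁅h, e⁻¹ * u * v⁆ * e⁻¹) by
        simp [commutatorElement_def, mul_assoc]]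
    exact mul_mem hhe (Subgroup.Normal.conj_mem inferInstance _
      (commutator_mem_of_normal _ h (mul_mem hnu hv)) e)
  push Not at hall
  obtain ⟨h, hhK, hhr, z0, hz0, hhz0⟩ := hall
  obtain ⟨z, hzM, hzσ, hzz⟩ := hc.exists_fixed (X := T.M k) (N := T.B k)
    ((secFrattini_le (T.lev hkH).lt'.le).trans (T.le_L hkH)) (le_secFrattini _ _ _)
    (fun a _ => mem_normalizer_of_normal (T.B k) a) (mem_normalizer_of_normal (T.B k) σ) hz0
    (hMσ z0 hz0)
  have hz'B : ⁅h, z⁆ ∉ T.B k := fun hin => hhz0 (by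
    rw [show ⁅h, z0⁆ = ⁅h, z⁆ * (z * ⁅h, z⁻¹ * z0⁆ * z⁻¹) by
      simp [commutatorElement_def, mul_assoc]]
    exact mul_mem hin (Subgroup.Normal.conj_mem inferInstance _
      (commutator_mem_of_normal _ h hzz) z))
  have hz'M : ⁅h, z⁆ ∈ T.M k := commutator_mem_of_normal _ h hzM
  have hz'r : ⁅h, z⁆ ∈ fitRes i C := commutator_mem_fitRes hhr
    (mem_fixedPart.2 ⟨T.le_L hkH (secFrattini_le (T.lev hkH).lt'.le hzM), hzσ⟩)
  exact T.fitRes_ne_bot_of_cand hc (show k ≤ m + 1 by omega) (show k ≤ i + 2 by omega)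
    (T.cand_of_moves hk1 (secFrattini_le (T.lev hkH).lt'.le hz'M) hz'r
      (moves_of_mem_secFrattini hc (T.lev hkH) (T.lev hk1) (T.link k (Nat.zero_le _) hk1)
        (T.le_L hkH) (T.le_L hk1) hfull hpk hz'M (commute_of_mem_fitRes hz'r) hz'B))

/-- The Fitting height bound for an automorphism of prime order coprime to the group. -/
theorem hasFittingChain_of_fixedPoints {X : Type*} [Group X] [Finite X] [Group.IsSolvable X]
    (σ : MulAut X) {r : ℕ} (hr : r.Prime) (hσ : σ ^ r = 1) (hcop : ¬ r ∣ Nat.card X)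
    (C : Subgroup X) (hC : ∀ x : X, x ∈ C ↔ σ x = x) {n : ℕ}
    (hn : HasFittingChain ↥C n) : HasFittingChain X (n + 2) := by
  refine chain_of_fitRes_eq_bot ?_
  by_contra hne
  let φ : ↥(Subgroup.zpowers σ) →* MulAut X := (Subgroup.zpowers σ).subtype
  haveI : Finite (X ⋊[φ] ↥(Subgroup.zpowers σ)) := CoprimeAction.finite_semidirect φ
  let il : X →* X ⋊[φ] ↥(Subgroup.zpowers σ) := SemidirectProduct.inl
  let s : X ⋊[φ] ↥(Subgroup.zpowers σ) :=
    SemidirectProduct.inr ⟨σ, Subgroup.mem_zpowers σ⟩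
  have hinj : Function.Injective il := SemidirectProduct.inl_injective
  have hconj : ∀ x : X, s * il x * s⁻¹ = il (σ x) := fun x => by
    show SemidirectProduct.inr _ * SemidirectProduct.inl x * (SemidirectProduct.inr _)⁻¹ = _
    rw [← map_inv]
    exact (SemidirectProduct.inl_aut (φ := φ) ⟨σ, Subgroup.mem_zpowers σ⟩ x).symm
  have hspow : s ^ r = 1 := by
    show SemidirectProduct.inr _ ^ r = 1
    rw [← map_pow, show (⟨σ, Subgroup.mem_zpowers σ⟩ : Subgroup.zpowers σ) ^ r = 1 from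
      Subtype.ext (by simpa using hσ), map_one]
  haveI : Group.IsSolvable il.range :=
    Group.isSolvable_of_surjective il.rangeRestrict_surjective
  have hsnorm : s ∈ Subgroup.normalizer (il.range : Set (X ⋊[φ] ↥(Subgroup.zpowers σ))) :=
    CoprimeAction.mem_normalizer_of_conj_mem fun u ⟨x, hx⟩ => ⟨σ x, by rw [← hx, hconj]⟩
  have hrange : fitRes (n + 2) il.range ≠ ⊥ := fun h => hne (by
    have := map_fitRes il (n + 2) (⊤ : Subgroup X)
    rw [← MonoidHom.range_eq_map, h] at this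
    exact (Subgroup.map_eq_bot_iff_of_injective _ hinj).1 this)
  obtain ⟨L0, ⟨hL0, hsL0, hL0ne⟩, hL0min⟩ := Set.Finite.exists_minimal
    (s := {L : Subgroup (X ⋊[φ] ↥(Subgroup.zpowers σ)) | L ≤ il.range ∧
      s ∈ Subgroup.normalizer (L : Set (X ⋊[φ] ↥(Subgroup.zpowers σ))) ∧ fitRes (n + 2) L ≠ ⊥})
    (Set.toFinite _) ⟨il.range, le_rfl, hsnorm, hrange⟩
  set H := L0 ⊔ Subgroup.zpowers s with hH
  have hLH : L0 ≤ H := le_sup_left
  let s' : H := ⟨s, Subgroup.mem_sup_right (Subgroup.mem_zpowers s)⟩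
  set L := L0.subgroupOf H with hL
  have hLmap : L.map H.subtype = L0 := Subgroup.map_subgroupOf_eq_of_le hLH
  haveI : Group.IsSolvable L0 := CoprimeAction.isSolvable_of_le hL0
  haveI : Group.IsSolvable L :=
    Group.isSolvable_of_isSolvable_injective (f := (Subgroup.subgroupOfEquivOfLe hLH).toMonoidHom)
      (Subgroup.subgroupOfEquivOfLe hLH).injective
  have hc : Ctx L s' r :=
    { prime := hr
      pow_eq := Subtype.ext (by simpa [s'] using hspow)
      normal := (Subgroup.normal_subgroupOf_iff_le_normalizer hLH).2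
        (sup_le Subgroup.le_normalizer (Subgroup.zpowers_le.2 hsL0))
      top := Subgroup.map_injective H.subtype_injective (by
        rw [Subgroup.map_sup, hLmap, MonoidHom.map_zpowers, ← MonoidHom.range_eq_map,
          Subgroup.range_subtype]
        rfl)
      coprime := by
        rw [Nat.card_congr (Subgroup.subgroupOfEquivOfLe hLH).toEquiv]
        refine Nat.Coprime.coprime_dvd_right ?_ (hr.coprime_iff_not_dvd.2 hcop)
        rw [Nat.card_congr (MonoidHom.ofInjective hinj).toEquiv]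
        exact Subgroup.card_dvd_of_le hL0 }
  have hLne : fitRes (n + 2) L ≠ ⊥ := fun h => hL0ne (by
    rw [← hLmap, ← map_fitRes, h, Subgroup.map_bot])
  have hmin : ∀ L' : Subgroup H, L' ≤ L → s' ∈ Subgroup.normalizer (L' : Set H) →
      fitRes (n + 2) L' ≠ ⊥ → L' = L := by
    intro L' hL' hs' hne'
    refine Subgroup.map_injective H.subtype_injective (hLmap.symm ▸ ?_)
    have hle : L'.map H.subtype ≤ L0 := hLmap ▸ Subgroup.map_mono hL'
    refine le_antisymm hle (hL0min ⟨hle.trans hL0, ?_, fun h => hne' ?_⟩ hle)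
    · exact Subgroup.le_normalizer_map H.subtype (Subgroup.mem_map_of_mem H.subtype hs')
    · rw [← map_fitRes] at h
      exact (Subgroup.map_eq_bot_iff_of_injective _ H.subtype_injective).1 h
  have hfix := fitRes_fixedPart_ne_bot hc hLne hmin
  refine hfix ((Subgroup.map_eq_bot_iff_of_injective _ H.subtype_injective).1 (le_bot_iff.1 ?_))
  have hle : (fixedPart L s').map H.subtype ≤ (⊤ : Subgroup C).map (il.comp C.subtype) := by
    rintro _ ⟨⟨g, hgH⟩, hg, rfl⟩
    obtain ⟨hgL, hgc⟩ := mem_fixedPart.1 hg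
    obtain ⟨x, rfl⟩ := hL0 (Subgroup.mem_subgroupOf.1 hgL)
    refine ⟨⟨x, (hC x).2 (hinj ?_)⟩, trivial, rfl⟩
    have h1 : il x * s = s * il x := congrArg Subtype.val hgc
    rw [← hconj, ← h1, mul_inv_cancel_right]
  rw [map_fitRes]
  refine (fitRes_mono n hle).trans ?_
  rw [← map_fitRes, fitRes_eq_bot_of_chain hn, Subgroup.map_bot]

end CfsgLib.FittingHeightPrime
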